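import Cfsg.Agent.StdDoubleO8.OrbitChecks

/-!
The profiles of the block preserving permutations (all masks).
-/

set_option autoImplicit false
set_option Elab.async false
set_option maxRecDepth 100000
set_option maxHeartbeats 0

namespace CfsgLib.StdDoubleO8

theorem profiles_full : profilesOK false = true := by decide +kernel

end CfsgLib.StdDoubleO8
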