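import Cfsg.Agent.StdDoubleO8.Count
import Cfsg.Agent.StdDoubleO8.ProfilesFull
import Cfsg.Agent.StdDoubleO8.ProfilesEven
import Mathlib.Algebra.BigOperators.Group.Finset.Basic
import Mathlib.Data.Fintype.EquivFin

/-!
A group of linear permutations of the space of masks in which the stabiliser of `255` consists of
the permutations preserving the blocks fixes `255`.
-/

set_option autoImplicit false
set_option maxRecDepth 20000

namespace CfsgLib.StdDoubleO8

theorem profiles_true : ∀ e, profilesOK e = true
  | false => profiles_full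
  | true => profiles_even

theorem mem_groupsOf {e : Bool} {p : ℕ} : p ∈ permsIn e ↔ ∃ g ∈ groupsOf e, p ∈ g.2 := by
  simp [permsIn, permsOf, List.mem_flatMap]

theorem perms_spec {e : Bool} {p : ℕ} (hp : p ∈ permsIn e) :
    pim p 255 = 255 ∧ decode (pim p) = p ∧ cand (pd p 0) (pd p 1) (pd p 2) (pd p 4) = p := by
  have h := perms_true e
  simp only [permsOK, List.all_eq_true, Bool.and_eq_true] at h
  obtain ⟨⟨h1, h2⟩, h3⟩ := h p hp
  exact ⟨Nat.eq_of_beq_eq_true h1, Nat.eq_of_beq_eq_true h2, Nat.eq_of_beq_eq_true h3⟩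

theorem perms_nodup (e : Bool) : (permsIn e).Nodup := (freshB_spec (distinct_true e)).1

/-- A permutation preserving the four blocks at an affine frame is in the table. -/
theorem mem_perms (e : Bool) {f : ℕ → ℕ} (hf : ∀ i, f i < 8)
    (h255 : pim (codeOf f) 255 = 255) (h3 : f 3 = f 0 ^^^ f 1 ^^^ f 2)
    (h5 : f 5 = f 0 ^^^ f 1 ^^^ f 4) (h6 : f 6 = f 0 ^^^ f 2 ^^^ f 4)
    (h7 : f 7 = f 1 ^^^ f 2 ^^^ f 4) : codeOf f ∈ permsIn e := by
  have hc : cand (f 0) (f 1) (f 2) (f 4) = codeOf f := by simp [cand, codeOf, h3, h5, h6, h7]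
  have h := cands_true e
  simp only [candsOK, List.all_eq_true, List.mem_range, Bool.or_eq_true, Bool.not_eq_true'] at h
  rcases h _ (hf 0) _ (hf 1) _ (hf 2) _ (hf 4) with h | h
  · rw [hc, h255] at h
    simp at h
  · rw [testBit_bitsOf, decide_eq_true_iff, List.mem_map] at h
    obtain ⟨p, hp, hk⟩ := h
    have h0 : ∀ i, pd p i < 8 := fun i => Nat.mod_lt _ (by norm_num)
    have := h0 0; have := h0 1; have := h0 2; have := h0 4
    have := hf 0; have := hf 1; have := hf 2; have := hf 4
    simp only [keyP] at hk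
    have e0 : pd p 0 = f 0 := by omega
    have e1 : pd p 1 = f 1 := by omega
    have e2 : pd p 2 = f 2 := by omega
    have e4 : pd p 4 = f 4 := by omega
    rw [← hc, ← e0, ← e1, ← e2, ← e4, (perms_spec hp).2.2]
    exact hp

theorem inDom_special : ∀ e, inDom e 0 = true ∧ inDom e 255 = true ∧
    (inDom e 3 && inDom e 5 && inDom e 9 && inDom e 17 && inDom e 33 && inDom e 65 && inDom e 129)
      = true := by decide +kernel

/-- A permutation is determined by its values on the even masks. -/
theorem eq_of_pim_eq {e : Bool} {p p' : ℕ} (hp : p ∈ permsIn e) (hp' : p' ∈ permsIn e)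
    (h : ∀ v < 256, inDom e v = true → pim p v = pim p' v) : p = p' := by
  rw [← (perms_spec hp).2.1, ← (perms_spec hp').2.1]
  have hd := (inDom_special e).2.2
  simp only [Bool.and_eq_true] at hd
  obtain ⟨⟨⟨⟨⟨⟨d3, d5⟩, d9⟩, d17⟩, d33⟩, d65⟩, d129⟩ := hd
  simp only [decode, codeOf]
  simp [h 3 (by norm_num) d3, h 5 (by norm_num) d5, h 9 (by norm_num) d9, h 17 (by norm_num) d17,
    h 33 (by norm_num) d33, h 65 (by norm_num) d65, h 129 (by norm_num) d129]

theorem inDom_xor {e : Bool} {u v : ℕ} (hu : u < 256) (hv : v < 256) (h1 : inDom e u = true)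
    (h2 : inDom e v = true) : inDom e (u ^^^ v) = true := by
  cases e
  · rfl
  · simp only [inDom, Bool.not_true, Bool.false_or, Bool.not_eq_true'] at h1 h2 ⊢
    have hpar : ∀ u < 256, parTab.testBit u = xor (u.testBit 0) (xor (u.testBit 1) (xor (u.testBit 2)
        (xor (u.testBit 3) (xor (u.testBit 4) (xor (u.testBit 5) (xor (u.testBit 6)
          (u.testBit 7))))))) := by decide +kernel
    rw [hpar _ (Nat.xor_lt_two_pow (n := 8) hu hv)]
    rw [hpar u hu] at h1
    rw [hpar v hv] at h2
    simp only [Nat.testBit_xor]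
    revert h1 h2
    generalize u.testBit 0 = a0; generalize u.testBit 1 = a1; generalize u.testBit 2 = a2
    generalize u.testBit 3 = a3; generalize u.testBit 4 = a4; generalize u.testBit 5 = a5
    generalize u.testBit 6 = a6; generalize u.testBit 7 = a7
    generalize v.testBit 0 = b0; generalize v.testBit 1 = b1; generalize v.testBit 2 = b2
    generalize v.testBit 3 = b3; generalize v.testBit 4 = b4; generalize v.testBit 5 = b5
    generalize v.testBit 6 = b6; generalize v.testBit 7 = b7
    cases a0 <;> cases a1 <;> cases a2 <;> cases a3 <;> cases a4 <;> cases a5 <;> cases a6 <;>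
      cases a7 <;> simp

/-- The space of masks of a domain. -/
abbrev V (e : Bool) : Type := {v : Fin 256 // inDom e v.val = true}

/-- Exclusive or. -/
def opV {e : Bool} (a b : V e) : V e :=
  ⟨⟨a.1.1 ^^^ b.1.1, Nat.xor_lt_two_pow (n := 8) a.1.2 b.1.2⟩,
    inDom_xor a.1.2 b.1.2 a.2 b.2⟩

/-- The point `255`. -/
def zV (e : Bool) : V e := ⟨⟨255, by norm_num⟩, (inDom_special e).2.1⟩

theorem mem_dom {e : Bool} {v : ℕ} : v ∈ dom e ↔ v < 256 ∧ inDom e v = true := by
  simp [dom, List.mem_filter]

theorem dom_nodup (e : Bool) : (dom e).Nodup := (List.nodup_range).filter _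

theorem card_filter_dom (e : Bool) (Q : ℕ → Bool) :
    (Finset.univ.filter fun v : V e => Q v.1.1 = true).card = (dom e).countP Q := by
  rw [List.countP_eq_length_filter, ← List.toFinset_card_of_nodup ((dom_nodup e).filter _)]
  refine Finset.card_bij (fun v _ => v.1.1) ?_ ?_ ?_
  · intro v hv
    rw [List.mem_toFinset, List.mem_filter, mem_dom]
    exact ⟨⟨v.1.2, v.2⟩, (Finset.mem_filter.1 hv).2⟩
  · intro a _ b _ h; exact Subtype.ext (Fin.ext h)
  · intro w hw
    rw [List.mem_toFinset, List.mem_filter, mem_dom] at hw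
    exact ⟨⟨⟨w, hw.1.1⟩, hw.1.2⟩, Finset.mem_filter.2 ⟨Finset.mem_univ _, hw.2⟩, rfl⟩

theorem cls_le {e : Bool} {v : ℕ} (hv : v ∈ dom e) : cls v ≤ 8 ∧
    (cls v = 8 → v = 0 ∨ v = 255) ∧ (cls v < 8 → inDom e (classRep (cls v)) = true ∧
      (e = true → 4 ≤ cls v) ∧ ∃ p ∈ permsIn e, pim p (classRep (cls v)) = v) := by
  have h := classes_true e
  simp only [classesOK, List.all_eq_true] at h
  have h := h v hv
  by_cases h8 : Nat.beq (cls v) 8 = true
  · rw [h8, cond_true, Bool.or_eq_true] at h
    have e8 := Nat.eq_of_beq_eq_true h8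
    exact ⟨e8.le, fun _ => h.imp Nat.eq_of_beq_eq_true Nat.eq_of_beq_eq_true,
      fun hlt => absurd hlt (by omega)⟩
  · rw [Bool.not_eq_true] at h8
    simp only [h8, cond_false, Bool.and_eq_true, List.any_eq_true, Bool.or_eq_true] at h
    obtain ⟨⟨⟨h1, h2⟩, h3⟩, p, hp, hpv⟩ := h
    have hlt : cls v < 8 := Nat.le_of_ble_eq_true h1
    refine ⟨hlt.le, fun e8 => absurd hlt (by omega), fun _ => ⟨h2, fun he => ?_,
      p, hp, Nat.eq_of_beq_eq_true hpv⟩⟩
    rcases h3 with h3 | h3
    · simp [he] at h3
    · exact Nat.le_of_ble_eq_true h3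

theorem getD_hist (L : List ℕ) {c : ℕ} (hc : c < 8) :
    (hist L).getD c 0 = L.countP fun v => Nat.beq (cls v) c := by
  rw [hist, List.getD_eq_getElem _ _ (by simpa using hc)]
  simp

theorem indicator_sum : ∀ s < 256, ∀ c ≤ 8, ((List.range 8).map fun i =>
    bif s.testBit i && Nat.beq c i then 1 else 0).sum = (bif s.testBit c then 1 else 0 : ℕ) := by
  decide +kernel

theorem countP_sel {s : ℕ} (hs : s < 256) : ∀ {L : List ℕ}, (∀ v ∈ L, cls v ≤ 8) →
    L.countP (sel s) = sumSel s (hist L)
  | [], _ => by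
    refine (List.sum_eq_zero fun x hx => ?_).symm
    obtain ⟨c, hc, rfl⟩ := List.mem_map.1 hx
    rw [getD_hist [] (List.mem_range.1 hc)]
    cases s.testBit c <;> rfl
  | v :: L, hL => by
    have ih := countP_sel hs (L := L) fun w hw => hL w (List.mem_cons_of_mem _ hw)
    have key : (List.range 8).map (fun c => bif s.testBit c then (hist (v :: L)).getD c 0 else 0) =
        (List.range 8).map fun c => (bif s.testBit c then (hist L).getD c 0 else 0) +
          (bif s.testBit c && Nat.beq (cls v) c then 1 else 0) := by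
      refine List.map_congr_left fun c hc => ?_
      rw [getD_hist _ (List.mem_range.1 hc), getD_hist _ (List.mem_range.1 hc), List.countP_cons]
      cases s.testBit c <;> cases Nat.beq (cls v) c <;> simp
    simp only [sumSel]
    rw [key, List.sum_map_add, indicator_sum s hs _ (hL v List.mem_cons_self), List.countP_cons, ih]
    simp only [sumSel, sel]
    by_cases hb : s.testBit (cls v) = true <;> simp [hb]

theorem countP_or {L : List ℕ} {P Q : ℕ → Bool} (h : ∀ v ∈ L, ¬ (P v = true ∧ Q v = true)) :
    L.countP (fun v => P v || Q v) = L.countP P + L.countP Q := by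
  induction L with
  | nil => rfl
  | cons a L ih =>
    have := h a List.mem_cons_self
    rw [List.countP_cons, List.countP_cons, List.countP_cons,
      ih fun v hv => h v (List.mem_cons_of_mem _ hv)]
    cases hP : P a <;> cases hQ : Q a <;> simp_all <;> omega

theorem cls_255 : cls 255 = 8 := by decide +kernel

theorem countP_inO {s : ℕ} (hs : s < 256) {L : List ℕ} (hL : ∀ v ∈ L, cls v ≤ 8) (hnd : L.Nodup) :
    L.countP (inO s) = (bif decide (255 ∈ L) then 1 else 0) + sumSel s (hist L) := by
  rw [show inO s = fun v => Nat.beq v 255 || sel s v from rfl, countP_or, countP_sel hs hL]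
  · congr 1
    by_cases h : 255 ∈ L
    · rw [decide_eq_true h, cond_true,
        List.countP_congr (q := fun v => v == 255) (fun v _ => by simp)]
      exact (List.count_eq_one_of_mem hnd h)
    · rw [decide_eq_false h, cond_false, List.countP_eq_zero]
      intro v hv e
      exact h (Nat.eq_of_beq_eq_true e ▸ hv)
  · rintro v - ⟨h1, h2⟩
    rw [Nat.eq_of_beq_eq_true h1, sel, cls_255, Nat.testBit_lt_two_pow hs] at h2
    exact Bool.false_ne_true h2

theorem sum_groups (e : Bool) (f : List ℕ × Bool × List ℕ → ℕ) :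
    ((permsIn e).map fun p => f (profile e p)).sum = sumG e f := by
  have h := profiles_true e
  simp only [profilesOK, List.all_eq_true, decide_eq_true_iff, profileC_eq] at h
  rw [permsIn, permsOf, sumG]
  revert h
  generalize groupsOf e = T
  intro h
  induction T with
  | nil => rfl
  | cons g T ih =>
    rw [List.flatMap_cons, List.map_append, List.sum_append, List.map_cons, List.sum_cons,
      ih fun g' hg' => h g' (List.mem_cons_of_mem _ hg')]
    congr 1
    rw [List.map_congr_left (g := fun _ => f g.1) fun p hp => by rw [h g List.mem_cons_self p hp]]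
    rw [List.map_const', List.sum_replicate, smul_eq_mul, Nat.mul_comm]

variable {e : Bool} {Γ : Subgroup (Equiv.Perm (V e))}

/-- A group of linear permutations whose stabiliser of `255` consists of the permutations of the
table fixes `255`. -/
theorem fixes_top (lin : ∀ g ∈ Γ, ∀ a b : V e, g (opV a b) = opV (g a) (g b))
    (hup : ∀ g ∈ Γ, g (zV e) = zV e → ∃ p ∈ permsIn e, ∀ v : V e, (g v).1.1 = pim p v.1.1)
    (hlow : ∀ p ∈ permsIn e, ∃ g ∈ Γ, ∀ v : V e, (g v).1.1 = pim p v.1.1) :
    ∀ g ∈ Γ, g (zV e) = zV e := by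
  classical
  choose! real hreal hreal' using hlow
  have hrealz : ∀ p ∈ permsIn e, real p (zV e) = zV e := fun p hp =>
    Subtype.ext (Fin.ext (by rw [hreal' p hp]; exact (perms_spec hp).1))
  have hstb : stb Γ (zV e) = (permsIn e).toFinset.image real := by
    ext g
    rw [mem_stb, Finset.mem_image]
    constructor
    · rintro ⟨hg, hgz⟩
      obtain ⟨p, hp, hpv⟩ := hup g hg hgz
      exact ⟨p, List.mem_toFinset.2 hp,
        Equiv.ext fun v => Subtype.ext (Fin.ext ((hreal' p hp v).trans (hpv v).symm))⟩
    · rintro ⟨p, hp, rfl⟩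
      exact ⟨hreal p (List.mem_toFinset.1 hp), hrealz p (List.mem_toFinset.1 hp)⟩
  have hinj : Set.InjOn real (permsIn e).toFinset := by
    intro p hp p' hp' h
    refine eq_of_pim_eq (List.mem_toFinset.1 hp) (List.mem_toFinset.1 hp') fun v hv hd => ?_
    have := hreal' p (List.mem_toFinset.1 hp) ⟨⟨v, hv⟩, hd⟩
    rw [h, hreal' p' (List.mem_toFinset.1 hp') ⟨⟨v, hv⟩, hd⟩] at this
    exact this.symm
  have hsum : ∀ F : Equiv.Perm (V e) → ℕ,
      ∑ g ∈ stb Γ (zV e), F g = ((permsIn e).map fun p => F (real p)).sum := fun F => by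
    rw [hstb, Finset.sum_image hinj, List.sum_toFinset _ (perms_nodup e)]
  -- the orbit avoids zero
  have hzero : ∀ v : V e, v.1.1 = 0 → v ∉ orb Γ (zV e) := by
    intro v hv hmem
    obtain ⟨g, hg, rfl⟩ := mem_orb.1 hmem
    have e0 : g (opV (zV e) (zV e)) = opV (g (zV e)) (g (zV e)) := lin g hg _ _
    have e1 : opV (g (zV e)) (g (zV e)) = g (zV e) := Subtype.ext (Fin.ext (by simp [opV, hv]))
    have e2 := congrArg (fun a : V e => a.1.1) (g.injective (e0.trans e1))
    simp [opV, zV] at e2
  -- the set of classes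
  set s : ℕ := bitsOf ((List.range 8).filter fun c =>
    decide (∃ v ∈ orb Γ (zV e), cls v.1.1 = c)) with hsdef
  have hsbit : ∀ c, s.testBit c = decide (c < 8 ∧ ∃ v ∈ orb Γ (zV e), cls v.1.1 = c) := fun c => by
    rw [hsdef, testBit_bitsOf]
    simp [List.mem_filter]
  have hs : s < 256 := Nat.lt_pow_two_of_testBit s (n := 8) fun i hi => by
    rw [hsbit]; exact decide_eq_false fun h => absurd h.1 (by omega)
  have horb : ∀ v : V e, v ∈ orb Γ (zV e) ↔ inO s v.1.1 = true := by
    intro v
    obtain ⟨hle, h8, hlt⟩ := cls_le (mem_dom.2 ⟨v.1.2, v.2⟩)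
    simp only [inO, sel, Bool.or_eq_true, hsbit, decide_eq_true_iff]
    constructor
    · intro hv
      rcases eq_or_lt_of_le hle with e8 | hl
      · rcases h8 e8 with h | h
        · exact absurd hv (hzero v h)
        · exact Or.inl (by rw [h]; rfl)
      · exact Or.inr ⟨hl, v, hv, rfl⟩
    · rintro (h | ⟨hl, w, hw, hwv⟩)
      · rw [show v = zV e from Subtype.ext (Fin.ext (Nat.eq_of_beq_eq_true h))]
        exact mem_orb.2 ⟨1, Γ.one_mem, rfl⟩
      · obtain ⟨hrd, -, p, hp, hpv⟩ := hlt hl
        obtain ⟨-, -, p', hp', hpw⟩ := (cls_le (mem_dom.2 ⟨w.1.2, w.2⟩)).2.2 (hwv ▸ hl)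
        have hr256 : classRep (cls v.1.1) < 256 := by
          have : ∀ c < 8, classRep c < 256 := by decide
          exact this _ hl
        let r : V e := ⟨⟨classRep (cls v.1.1), hr256⟩, hrd⟩
        have e1 : real p r = v := Subtype.ext (Fin.ext ((hreal' p hp r).trans hpv))
        have e2 : real p' r = w := Subtype.ext (Fin.ext (by
          rw [hreal' p' hp' r, ← hpw, hwv]))
        rw [← e1, apply_mem_orb (hreal p hp), ← apply_mem_orb (hreal p' hp'), e2]
        exact hw
  intro g₀ hg₀
  by_contra hne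
  have hmem : g₀ (zV e) ∈ orb Γ (zV e) := mem_orb.2 ⟨g₀, hg₀, rfl⟩
  have hs0 : s ≠ 0 := by
    intro h0
    have h := (horb _).1 hmem
    simp only [inO, sel, h0, Nat.zero_testBit, Bool.or_false] at h
    exact hne (Subtype.ext (Fin.ext (Nat.eq_of_beq_eq_true h)))
  have hs16 : e = true → s % 16 = 0 := by
    intro he
    refine Nat.eq_of_testBit_eq fun i => ?_
    rw [show 16 = 2 ^ 4 from rfl, Nat.testBit_mod_two_pow, Nat.zero_testBit, hsbit]
    by_cases hi : i < 4
    · rw [decide_eq_true hi, Bool.true_and]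
      refine decide_eq_false ?_
      rintro ⟨hi8, v, -, hv⟩
      have := ((cls_le (mem_dom.2 ⟨v.1.2, v.2⟩)).2.2 (hv ▸ hi8)).2.1 he
      omega
    · rw [decide_eq_false hi, Bool.false_and]
  -- numbers of fixed points
  have hfixd : ∀ p, ∀ v ∈ fixed e p, cls v ≤ 8 := fun p v hv =>
    (cls_le (List.mem_filter.1 hv).1).1
  have hfix : ∀ p ∈ permsIn e, (fixO Γ (zV e) (real p)).card = kOf s (profile e p) := by
    intro p hp
    have e1 : fixO Γ (zV e) (real p) = Finset.univ.filter
        (fun v : V e => (inO s v.1.1 && Nat.beq (pim p v.1.1) v.1.1) = true) := by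
      ext v
      simp only [fixO, Finset.mem_filter, Finset.mem_univ, true_and, horb, Bool.and_eq_true,
        Subtype.ext_iff, Fin.ext_iff, hreal' p hp]
      exact and_congr_right fun _ => ⟨fun h => by rw [h]; simp, Nat.eq_of_beq_eq_true⟩
    rw [e1, card_filter_dom e fun v => inO s v && Nat.beq (pim p v) v, ← List.countP_filter,
      show (dom e).filter
      (fun v => Nat.beq (pim p v) v) = fixed e p from rfl,
      countP_inO hs (hfixd p) ((dom_nodup e).filter _), kOf, profile]
    have h255 : 255 ∈ fixed e p := List.mem_filter.2 ⟨mem_dom.2 ⟨by norm_num, (inDom_special e).2.1⟩,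
      by rw [(perms_spec hp).1]; rfl⟩
    rw [decide_eq_true h255]
    rfl
  have him : ∀ p ∈ permsIn e, ∀ v : V e, v ∈ imG opV (real p) ↔ v.1.1 ∈ imList e p := by
    intro p hp v
    simp only [imG, imList, Finset.mem_image, Finset.mem_univ, true_and, List.mem_map, mem_dom]
    constructor
    · rintro ⟨a, rfl⟩
      exact ⟨a.1.1, ⟨a.1.2, a.2⟩, by simp [opV, hreal' p hp]⟩
    · rintro ⟨a, ⟨ha, hd⟩, h⟩
      exact ⟨⟨⟨a, ha⟩, hd⟩, Subtype.ext (Fin.ext (by simp [opV, hreal' p hp, h]))⟩
  have himfix : ∀ p ∈ permsIn e,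
      ((fixO Γ (zV e) (real p)).filter fun v => v ∈ imG opV (real p)).card =
        imOf s (profile e p) := by
    intro p hp
    have e1 : (fixO Γ (zV e) (real p)).filter (fun v => v ∈ imG opV (real p)) = Finset.univ.filter
        (fun v : V e => (inO s v.1.1 && (decide (v.1.1 ∈ imList e p) &&
          Nat.beq (pim p v.1.1) v.1.1)) = true) := by
      ext v
      simp only [fixO, Finset.mem_filter, Finset.mem_univ, true_and, horb, Bool.and_eq_true,
        Subtype.ext_iff, Fin.ext_iff, hreal' p hp, him p hp, decide_eq_true_iff]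
      constructor
      · rintro ⟨⟨a, b⟩, c⟩; exact ⟨a, c, by rw [b]; simp⟩
      · rintro ⟨a, c, b⟩; exact ⟨⟨a, Nat.eq_of_beq_eq_true b⟩, c⟩
    have h255 : 255 ∈ fixed e p := List.mem_filter.2 ⟨mem_dom.2 ⟨by norm_num, (inDom_special e).2.1⟩,
      by rw [(perms_spec hp).1]; rfl⟩
    rw [e1, card_filter_dom e fun v => inO s v &&
        (decide (v ∈ imList e p) && Nat.beq (pim p v) v),
      ← List.countP_filter, ← List.filter_filter, show (dom e).filter
      (fun v => Nat.beq (pim p v) v) = fixed e p from rfl,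
      countP_inO hs (fun v hv => hfixd p v (List.mem_filter.1 hv).1)
        (((dom_nodup e).filter _).filter _), imOf, profile]
    have e2 : decide (255 ∈ (fixed e p).filter fun v => decide (v ∈ imList e p)) =
        decide (255 ∈ imList e p) := by simp [List.mem_filter, h255]
    rw [e2]
  -- the tests
  have ht := tests_true e
  simp only [testsAll, List.all_eq_true, List.mem_range, Bool.or_eq_true] at ht
  rcases ht s hs with (h | h) | h
  · exact hs0 (Nat.eq_of_beq_eq_true h)
  · simp only [Bool.and_eq_true, Bool.not_eq_true'] at h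
    rw [hs16 h.1] at h
    simp at h
  simp only [testOK] at h
  generalize (testsOf e).getD (s - 1) (0, 0) = t at h
  obtain ⟨kind, par⟩ := t
  have hcard : (orb Γ (zV e)).card = (dom e).countP (inO s) := by
    rw [← card_filter_dom]
    exact congrArg Finset.card (Finset.ext fun v => by simp [horb])
  match kind, h with
  | 1, h =>
    simp only [Bool.not_eq_true'] at h
    have hd := dvd_card_mul (Γ := Γ) (z := zV e) par
    rw [Finset.card_filter, hsum, hcard, List.map_congr_left
      (g := fun p => bif Nat.beq (kOf s (profile e p)) par then 1 else 0)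
      (fun p hp => by
        rw [hfix p hp]
        by_cases hk : kOf s (profile e p) = par
        · rw [if_pos hk, hk]; simp
        · rw [if_neg hk, show Nat.beq (kOf s (profile e p)) par = false from
            Bool.eq_false_iff.2 fun hb => hk (Nat.eq_of_beq_eq_true hb)]; rfl),
      sum_groups e (fun key => bif Nat.beq (kOf s key) par then 1 else 0)] at hd
    rw [Nat.mod_eq_zero_of_dvd hd] at h
    simp at h
  | 2, h =>
    simp only [Bool.not_eq_true'] at h
    have hd := sum_im (Γ := Γ) (z := zV e) (op := opV) lin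
    rw [hsum, hsum, List.map_congr_left
      (g := fun p => bif (profile e p).2.1 then kOf s (profile e p) else 0)
      (fun p hp => by
        rw [hfix p hp]
        by_cases hk : zV e ∈ imG opV (real p)
        · rw [if_pos hk, show (profile e p).2.1 = true from decide_eq_true ((him p hp _).1 hk)]
          rfl
        · rw [if_neg hk, show (profile e p).2.1 = false from
            decide_eq_false fun hb => hk ((him p hp _).2 hb)]
          rfl),
      List.map_congr_left (g := fun p => imOf s (profile e p)) himfix,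
      sum_groups e (fun key => bif key.2.1 then kOf s key else 0), sum_groups e (imOf s)] at hd
    rw [hd] at h
    simp at h
  | 3, h =>
    simp only [Bool.and_eq_true, Bool.not_eq_true'] at h
    obtain ⟨⟨⟨hlt, hd⟩, hu⟩, hne'⟩ := h
    have hp256 : par < 256 := Nat.le_of_ble_eq_true hlt
    have hc := card_partners (Γ := Γ) (z := zV e) (op := opV) lin
      (u := ⟨⟨par, hp256⟩, hd⟩) ((horb _).2 hu)
    have hl : ∀ u : V e, ((orb Γ (zV e)).filter fun v => opV u v ∈ orb Γ (zV e)).card =
        lam e s u.1.1 := fun u => by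
      rw [lam, ← card_filter_dom]
      exact congrArg Finset.card (Finset.ext fun v => by simp [horb, opV])
    rw [hl, hl] at hc
    rw [show lam e s 255 = lam e s (zV e).1.1 from rfl, ← hc] at hne'
    simp at hne'
  | 0, h => simp at h
  | n + 4, h => simp at h

end CfsgLib.StdDoubleO8
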