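import Cfsg.Agent.StdDoubleO8.Setup
import Cfsg.Agent.StdDoubleO8.Orbit

/-!
The central involution is isolated when the centraliser has no element of order four.
-/

set_option autoImplicit false
set_option linter.style.haveILetI false

namespace CfsgLib.StdDoubleO8

open Cfsg

universe u

variable {G : Type u} [Group G] {L : Subgroup G} {jf : U → G}

/-- The `2`-elements of the centraliser lie in the centre of the standard subgroup. -/
def SmallC (L : Subgroup G) (jf : U → G) : Prop :=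
  ∀ c ∈ Subgroup.centralizer (L : Set G), ∀ k : ℕ, c ^ 2 ^ k = 1 → c = 1 ∨ c = jf zU

namespace Setup

theorem smallC_of [Finite G] (St : Setup L jf)
    (h4 : ∀ c ∈ Subgroup.centralizer (L : Set G), c * c ≠ jf zU) : SmallC L jf := by
  intro c hc k hk
  induction k generalizing c with
  | zero => rw [pow_zero, pow_one] at hk; exact Or.inl hk
  | succ k ih =>
    rw [pow_succ', pow_mul, sq] at hk
    rcases ih _ (mul_mem hc hc) hk with e | e
    · exact St.invol_C hc e
    · exact absurd e (h4 c hc)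

theorem inner_mem_L (St : Setup L jf) (hC : SmallC L jf) {g : G} {l : U} (h : Act jf g l)
    (hl : l ∈ L0) {k : ℕ} (hk : g ^ 2 ^ k = 1) : ∃ l' ∈ L0, g = jf l' := by
  obtain ⟨c, hc, rfl, hck⟩ := St.inner_two h hl hk
  rcases hC c hc _ hck with rfl | rfl
  · exact ⟨l, hl, mul_one _⟩
  · exact ⟨l * zU, mul_mem hl zU_mem, (St.mul _ hl _ zU_mem).symm⟩

end Setup

theorem conj_S {Q : Subgroup U} (hQ : Q ≤ L0) (h2 : IsPGroup 2 Q) :
    ∃ l ∈ L0, ∀ q ∈ Q, l * q * l⁻¹ ∈ S := by
  obtain ⟨l, hl, h⟩ := exists_conj_P (fun q hq => L0_le_Xg (hQ hq)) h2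
  exact ⟨l, hl, fun q hq => mem_S_of_mem_L0 (h q hq) (mul_mem (mul_mem hl (hQ hq)) (inv_mem hl))⟩

theorem isPGroup_of_sq {H : Type*} [Group H] {B : Subgroup H} (h : ∀ b ∈ B, b * b = 1) :
    IsPGroup 2 B := fun b => ⟨1, Subtype.ext (by rw [pow_one, sq]; exact h b b.2)⟩

theorem big_conj {B : Subgroup U} (hBS : ∀ b ∈ B, ∀ b' ∈ B, b * b' = b' * b)
    (hz : zU ∈ B) (hsq : ∀ b ∈ B, b * b = 1) (hcard : 128 ≤ Nat.card B) {l : U}
    (hl : ∀ b ∈ B, l * b * l⁻¹ ∈ S) :
    B.map (MulAut.conj l).toMonoidHom = A7 ∨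
      InB2 (B.map (MulAut.conj l).toMonoidHom) ∧
        Nat.card (B.map (MulAut.conj l).toMonoidHom) = 128 := by
  refine big_elementary ?_ ⟨zU, hz, ?_⟩ ?_ ?_
  · rintro _ ⟨b, hb, rfl⟩; exact hl b hb
  · show l * zU * l⁻¹ = zU
    rw [← zU_comm, mul_inv_cancel_right]
  · rintro _ ⟨b, hb, rfl⟩
    show l * b * l⁻¹ * (l * b * l⁻¹) = 1
    rw [StdDoubleRu.conj_sq_eq, hsq b hb, mul_one, mul_inv_cancel]
  · rwa [Subgroup.card_map_of_injective (MulAut.conj l).injective]

/-- A two-subgroup of the extension centralising the even part of the frame. -/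
theorem conj_fix_A7 {Q : Subgroup U} (hQ : Q ≤ Xg) (h2 : IsPGroup 2 Q) (hA : A7 ≤ Q) :
    ∃ l ∈ L0, (∀ q ∈ Q, l * q * l⁻¹ ∈ P) ∧ A7.map (MulAut.conj l).toMonoidHom = A7 := by
  obtain ⟨l, hl, h⟩ := exists_conj_P hQ h2
  refine ⟨l, hl, h, ?_⟩
  rcases big_conj (B := A7) (fun a ha b hb => A_comm ha.1 hb.1) zU_mem_A7 (fun a ha => A_sq ha.1)
    card_A7.ge (fun a ha => mem_S_of_mem_L0 (h a (hA ha))
      (mul_mem (mul_mem hl ha.2) (inv_mem hl))) with e | ⟨e, -⟩
  · exact e
  · exact absurd (A7_not_B2 e l fun a ha => ⟨a, ha, rfl⟩) id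

theorem conj_mem_cent {l : U} (hfix : A7.map (MulAut.conj l).toMonoidHom = A7) {q : U}
    (hq : l * q * l⁻¹ ∈ P) (hc : ∀ a ∈ A7, q * a = a * q) : l * q * l⁻¹ ∈ A := by
  refine cent_A7 hq fun a ha => ?_
  rw [← hfix] at ha
  obtain ⟨a', ha', rfl⟩ := ha
  show l * q * l⁻¹ * (l * a' * l⁻¹) = l * a' * l⁻¹ * (l * q * l⁻¹)
  calc _ = l * (q * a') * l⁻¹ := by group
    _ = l * (a' * q) * l⁻¹ := by rw [hc a' ha']
    _ = _ := by group

theorem A7_le_L0 : A7 ≤ L0 := fun _ h => h.2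

/-- The centraliser of the even part of the frame in the extension. -/
noncomputable def CA : Subgroup U := Xg ⊓ Subgroup.centralizer (A7 : Set U)

theorem A7_le_CA : A7 ≤ CA := fun _ ha => ⟨L0_le_Xg ha.2,
  Subgroup.mem_centralizer_iff.2 fun _ hb => A_comm hb.1 ha.1⟩

theorem A_le_CA : A ≤ CA := fun _ ha => ⟨P_le_Xg (A_le_P ha),
  Subgroup.mem_centralizer_iff.2 fun _ hb => A_comm hb.1 ha⟩

theorem card_two_CA {Q : Subgroup U} (h2 : IsPGroup 2 Q) (hQ : Q ≤ CA) : Nat.card Q ≤ 256 := by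
  have hnorm : Q ≤ Subgroup.normalizer (A7 : Set U) := fun q hq =>
    Subgroup.mem_normalizer_fintype fun a ha => by
      rw [← Subgroup.mem_centralizer_iff.1 (hQ hq).2 a ha, mul_inv_cancel_right]; exact ha
  obtain ⟨l, hl, hP, hfix⟩ := conj_fix_A7 (Q := Q ⊔ A7)
    (sup_le (hQ.trans inf_le_left) fun a ha => L0_le_Xg ha.2)
    (h2.to_sup_of_normal_right' (isPGroup_of_sq fun a ha => A_sq ha.1) hnorm) le_sup_right
  let f : Q → A := fun q => ⟨l * q * l⁻¹, conj_mem_cent hfix (hP q (Subgroup.mem_sup_left q.2))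
    fun a ha => (Subgroup.mem_centralizer_iff.1 (hQ q.2).2 a ha).symm⟩
  have hf : Function.Injective f := fun a b e =>
    Subtype.ext (mul_left_cancel (mul_right_cancel (congrArg Subtype.val e)))
  exact (Nat.card_le_card_of_injective f hf).trans card_A.le

/-- A conjugation preserving the even part of the frame may be corrected to preserve the frame. -/
theorem exists_fix_A {y : U} (hy : y ∈ Xg) (h7 : ∀ a ∈ A7, y * a * y⁻¹ ∈ A7) :
    ∃ y' : U, (∀ a ∈ A7, y' * a * y'⁻¹ = y * a * y⁻¹) ∧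
      ∀ v < 256, ∃ w < 256, y' * aU v * y'⁻¹ = aU w := by
  haveI : Fact (Nat.Prime 2) := ⟨Nat.prime_two⟩
  have hinv : ∀ a ∈ A7, y⁻¹ * a * y ∈ A7 := by
    intro a ha
    let f : A7 → A7 := fun b => ⟨y * b * y⁻¹, h7 b b.2⟩
    obtain ⟨b, hb⟩ := Finite.surjective_of_injective (f := f) (fun u v e =>
      Subtype.ext (mul_left_cancel (mul_right_cancel (congrArg Subtype.val e)))) ⟨a, ha⟩
    rw [← show y * (b : U) * y⁻¹ = a from congrArg Subtype.val hb]
    rw [show y⁻¹ * (y * (b : U) * y⁻¹) * y = b by group]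
    exact b.2
  set A' : Subgroup U := A.map (MulAut.conj y).toMonoidHom with hA'
  have hA'le : A' ≤ CA := by
    rintro _ ⟨a, ha, rfl⟩
    refine ⟨Xg.mul_mem (Xg.mul_mem hy (P_le_Xg (A_le_P ha))) (Xg.inv_mem hy),
      Subgroup.mem_centralizer_iff.2 fun b hb => ?_⟩
    show b * (y * a * y⁻¹) = y * a * y⁻¹ * b
    calc b * (y * a * y⁻¹) = y * ((y⁻¹ * b * y) * a) * y⁻¹ := by group
      _ = y * (a * (y⁻¹ * b * y)) * y⁻¹ := by rw [A_comm (hinv b hb).1 ha]
      _ = _ := by group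
  have key : ∀ H : Subgroup U, H ≤ CA → IsPGroup 2 H → Nat.card H = 256 →
      ∃ R : Sylow 2 CA, (R : Subgroup CA) = H.subgroupOf CA := by
    intro H hH h2 hc
    obtain ⟨R, hR⟩ := (h2.of_equiv (Subgroup.subgroupOfEquivOfLe hH).symm).exists_le_sylow
    refine ⟨R, (Subgroup.eq_of_le_of_card_ge hR ?_).symm⟩
    rw [Nat.card_congr (Subgroup.subgroupOfEquivOfLe hH).toEquiv, hc,
      ← Subgroup.card_map_of_injective CA.subtype_injective]
    exact card_two_CA (R.2.map _) (Subgroup.map_subtype_le _)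
  obtain ⟨R, hR⟩ := key A A_le_CA (isPGroup_of_sq fun a ha => A_sq ha) card_A
  obtain ⟨R', hR'⟩ := key A' hA'le ((isPGroup_of_sq fun a ha => A_sq ha).map _)
    (by rw [hA', Subgroup.card_map_of_injective (MulAut.conj y).injective, card_A])
  obtain ⟨n, hn⟩ := MulAction.exists_smul_eq CA R' R
  refine ⟨(n : U) * y, fun a ha => ?_, fun v hv => ?_⟩
  · rw [show (n : U) * y * a * ((n : U) * y)⁻¹ = n * (y * a * y⁻¹) * (n : U)⁻¹ by group,
      ← Subgroup.mem_centralizer_iff.1 n.2.2 _ (h7 a ha), mul_inv_cancel_right]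
  · have hm : y * aU v * y⁻¹ ∈ A' := ⟨_, aU_mem_A hv, rfl⟩
    have hmR : (⟨_, hA'le hm⟩ : CA) ∈ (R' : Subgroup CA) := by rw [hR']; exact hm
    have h' : MulAut.conj n • (⟨_, hA'le hm⟩ : CA) ∈ (R : Subgroup CA) := by
      rw [← hn]; exact Subgroup.smul_mem_pointwise_smul _ (MulAut.conj n) _ hmR
    rw [hR] at h'
    obtain ⟨w, hw, e⟩ := (h' : (n : U) * (y * aU v * y⁻¹) * (n : U)⁻¹ ∈ A)
    refine ⟨w, hw, ?_⟩
    rw [e]
    show (n : U) * y * aU v * ((n : U) * y)⁻¹ = (n : U) * (y * aU v * y⁻¹) * (n : U)⁻¹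
    group

/-! ### The lift of the frame -/

/-- The lift of the frame: `x₁` is an involution acting as the first reflection, or the domain is the
even one and no involution of the normaliser acts as an outer element. -/
def IsFrame (jf : U → G) (e : Bool) (x₁ : G) : Prop :=
  bif e then (∀ (x : G) (η : U), x * x = 1 → Act jf x η → η ∈ L0)
  else (x₁ * x₁ = 1 ∧ Act jf x₁ (aU 1))

/-- The lift of a mask. -/
noncomputable def iota (jf : U → G) (x₁ : G) (v : ℕ) : G :=
  bif inDom true v then jf (aU v) else jf (aU (v ^^^ 1)) * x₁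

variable {e : Bool} {x₁ : G}

theorem iota_even {v : ℕ} (h : inDom true v = true) : iota jf x₁ v = jf (aU v) := by
  rw [iota, h, cond_true]

theorem odd_spec {v : ℕ} (hv : v < 256) (h : inDom true v = false) :
    v ^^^ 1 < 256 ∧ inDom true (v ^^^ 1) = true ∧ aU (v ^^^ 1) = aU v * aU 1 := by
  have h1 : v ^^^ 1 < 256 := Nat.xor_lt_two_pow (n := 8) hv (by norm_num)
  have hd : inDom true 1 = false := by decide +kernel
  refine ⟨h1, (aU_mem_L0 h1).1 ?_, (aU_mul hv (by norm_num)).symm⟩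
  rw [← aU_mul hv (by norm_num), L0_mul_iff (aU_mem_Xg _) (aU_mem_Xg _), aU_mem_L0 hv,
    aU_mem_L0 (by norm_num), h, hd]

theorem inDom_false (v : ℕ) : inDom false v = true := rfl

theorem dom_cases {e : Bool} {v : ℕ} (hd : inDom e v = true) :
    inDom true v = true ∨ (inDom true v = false ∧ e = false) := by
  cases e
  · cases h : inDom true v <;> simp
  · exact Or.inl hd

namespace IsFrame

theorem act (hF : IsFrame jf e x₁) (St : Setup L jf) {v : ℕ} (hv : v < 256) (hd : inDom e v = true) :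
    Act jf (iota jf x₁ v) (aU v) := by
  rcases dom_cases hd with h | ⟨h, rfl⟩
  · rw [iota_even h]; exact St.act_jf ((aU_mem_L0 hv).2 h)
  · obtain ⟨h1, h2, h3⟩ := odd_spec hv h
    rw [iota, h, cond_false]
    have h' := (St.act_jf ((aU_mem_L0 h1).2 h2)).mul hF.2
    have e : aU (v ^^^ 1) * aU 1 = aU v := by
      rw [h3, mul_assoc, aU_sq (by norm_num : 1 < 256), mul_one]
    rwa [e] at h'

theorem x1_conj (hF : IsFrame jf false x₁) {m : U} (hm : m ∈ L0) :
    x₁ * jf m = jf (aU 1 * m * aU 1) * x₁ := by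
  have e := hF.2.2 m hm
  rw [inv_eq_of_mul_eq_one_left (aU_sq (by norm_num : 1 < 256))] at e
  rw [← e, inv_mul_cancel_right]

theorem x1_comm (hF : IsFrame jf false x₁) {v : ℕ} (hv : v < 256) (hd : inDom true v = true) :
    x₁ * jf (aU v) = jf (aU v) * x₁ := by
  rw [x1_conj hF ((aU_mem_L0 hv).2 hd), aU_comm (by norm_num) hv, mul_assoc,
    aU_sq (by norm_num : 1 < 256), mul_one]

theorem mul (hF : IsFrame jf e x₁) (St : Setup L jf) {u v : ℕ} (hu : u < 256) (hv : v < 256)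
    (hdu : inDom e u = true) (hdv : inDom e v = true) :
    iota jf x₁ u * iota jf x₁ v = iota jf x₁ (u ^^^ v) := by
  have huv : u ^^^ v < 256 := Nat.xor_lt_two_pow (n := 8) hu hv
  have hpar : (inDom true (u ^^^ v) = true) ↔ (inDom true u = true ↔ inDom true v = true) := by
    rw [← aU_mem_L0 huv, ← aU_mem_L0 hu, ← aU_mem_L0 hv, ← aU_mul hu hv,
      L0_mul_iff (aU_mem_Xg _) (aU_mem_Xg _)]
  rcases dom_cases hdu with h | ⟨h, he⟩ <;> rcases dom_cases hdv with h' | ⟨h', he'⟩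
  · rw [iota_even h, iota_even h', iota_even (hpar.2 (iff_of_true h h')),
      ← St.mul _ ((aU_mem_L0 hu).2 h) _ ((aU_mem_L0 hv).2 h'), aU_mul hu hv]
  · subst he'
    have ho : inDom true (u ^^^ v) = false := Bool.eq_false_iff.2 fun t => by
      have := (hpar.1 t).1 h; rw [h'] at this; exact Bool.noConfusion this
    obtain ⟨b1, b2, -⟩ := odd_spec hv h'
    rw [iota_even h, iota, h', cond_false, iota, ho, cond_false, ← mul_assoc,
      ← St.mul _ ((aU_mem_L0 hu).2 h) _ ((aU_mem_L0 b1).2 b2), aU_mul hu b1, Nat.xor_assoc]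
  · subst he
    have ho : inDom true (u ^^^ v) = false := Bool.eq_false_iff.2 fun t => by
      have := (hpar.1 t).2 h'; rw [h] at this; exact Bool.noConfusion this
    obtain ⟨b1, b2, -⟩ := odd_spec hu h
    rw [iota_even h', iota, h, cond_false, iota, ho, cond_false, mul_assoc, x1_comm hF hv h',
      ← mul_assoc, ← St.mul _ ((aU_mem_L0 b1).2 b2) _ ((aU_mem_L0 hv).2 h'), aU_mul b1 hv,
      Nat.xor_assoc, Nat.xor_comm 1 v, ← Nat.xor_assoc]
  · subst he
    obtain ⟨a1, a2, -⟩ := odd_spec hu h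
    obtain ⟨b1, b2, -⟩ := odd_spec hv h'
    rw [iota, h, cond_false, iota, h', cond_false,
      iota_even (hpar.2 (iff_of_false (by simp [h]) (by simp [h']))),
      show jf (aU (u ^^^ 1)) * x₁ * (jf (aU (v ^^^ 1)) * x₁) =
        jf (aU (u ^^^ 1)) * (x₁ * jf (aU (v ^^^ 1))) * x₁ by group, x1_comm hF b1 b2,
      ← mul_assoc, mul_assoc _ x₁ x₁, hF.1, mul_one,
      ← St.mul _ ((aU_mem_L0 a1).2 a2) _ ((aU_mem_L0 b1).2 b2), aU_mul a1 b1]
    congr 2
    rw [Nat.xor_assoc, ← Nat.xor_assoc 1 v, Nat.xor_comm 1 v, Nat.xor_assoc v, Nat.xor_self,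
      Nat.xor_zero]

theorem zero (St : Setup L jf) : iota jf x₁ 0 = 1 := by
  rw [iota_even (by decide +kernel), aU_zero, St.map_one]

theorem top : iota jf x₁ 255 = jf zU := by
  rw [iota_even (by decide +kernel), aU_top]

theorem inj (hF : IsFrame jf e x₁) (St : Setup L jf) {u v : ℕ} (hu : u < 256) (hv : v < 256)
    (hdu : inDom e u = true) (hdv : inDom e v = true) (h : iota jf x₁ u = iota jf x₁ v) : u = v := by
  have huv : u ^^^ v < 256 := Nat.xor_lt_two_pow (n := 8) hu hv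
  have h1 : iota jf x₁ (u ^^^ v) = 1 := by
    rw [← hF.mul St hu hv hdu hdv, h, hF.mul St hv hv hdv hdv, Nat.xor_self, zero St]
  rcases St.act_trivial (h1 ▸ hF.act St huv (inDom_xor hu hv hdu hdv)) Act.one with e' | e'
  · calc u = u ^^^ v ^^^ v := by rw [Nat.xor_assoc, Nat.xor_self, Nat.xor_zero]
      _ = v := by rw [aU_eq_one huv e', Nat.zero_xor]
  · rw [aU_eq_zU huv e', top] at h1; exact absurd h1 St.z_ne_one

theorem conj_exact (hF : IsFrame jf e x₁) (St : Setup L jf) {l : U} (hl : l ∈ L0) {u v : ℕ}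
    (hu : u < 256) (hv : v < 256) (hdu : inDom e u = true) (h : l * aU u * l⁻¹ = aU v) :
    jf l * iota jf x₁ u * (jf l)⁻¹ = iota jf x₁ v := by
  have hpar : inDom true v = true ↔ inDom true u = true := by
    rw [← aU_mem_L0 hv, ← aU_mem_L0 hu, ← h, conj_mem_L0_iff (L0_le_Xg hl) (aU_mem_Xg _)]
  rcases dom_cases hdu with hu' | ⟨hu', he⟩
  · have hm := (aU_mem_L0 hu).2 hu'
    rw [iota_even hu', iota_even (hpar.2 hu'), ← St.map_inv hl, ← St.mul _ hl _ hm,
      ← St.mul _ (mul_mem hl hm) _ (inv_mem hl), h]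
  · subst he
    have hv' : inDom true v = false := Bool.eq_false_iff.2 fun t => by
      rw [hpar.1 t] at hu'; exact Bool.noConfusion hu'
    obtain ⟨a1, a2, a3⟩ := odd_spec hu hu'
    obtain ⟨b1, b2, b3⟩ := odd_spec hv hv'
    have hm := (aU_mem_L0 a1).2 a2
    have hb : aU 1 * l⁻¹ * aU 1 ∈ L0 := by
      have := conj_mem_L0 (aU_mem_Xg 1) (inv_mem hl)
      rwa [inv_eq_of_mul_eq_one_left (aU_sq (by norm_num : 1 < 256))] at this
    rw [iota, hu', cond_false, iota, hv', cond_false,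
      show jf l * (jf (aU (u ^^^ 1)) * x₁) * (jf l)⁻¹ = jf l * jf (aU (u ^^^ 1)) * (x₁ * (jf l)⁻¹) by
        group,
      ← St.map_inv hl, x1_conj hF (inv_mem hl), ← mul_assoc, ← St.mul _ hl _ hm,
      ← St.mul _ (mul_mem hl hm) _ hb, a3, b3, ← h]
    rw [show l * (aU u * aU 1) * (aU 1 * l⁻¹ * aU 1) = l * aU u * l⁻¹ * aU 1 from
      calc l * (aU u * aU 1) * (aU 1 * l⁻¹ * aU 1) = l * aU u * (aU 1 * aU 1) * l⁻¹ * aU 1 := by
            simp only [mul_assoc]
        _ = _ := by rw [aU_sq (by norm_num : 1 < 256), mul_one]]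

end IsFrame

/-- The lifted frame. -/
noncomputable def frameSub (St : Setup L jf) (hF : IsFrame jf e x₁) : Subgroup G where
  carrier := {a | ∃ v < 256, inDom e v = true ∧ iota jf x₁ v = a}
  one_mem' := ⟨0, by norm_num, (inDom_special e).1, IsFrame.zero St⟩
  mul_mem' := by
    rintro _ _ ⟨u, hu, hdu, rfl⟩ ⟨v, hv, hdv, rfl⟩
    exact ⟨_, Nat.xor_lt_two_pow (n := 8) hu hv, inDom_xor hu hv hdu hdv,
      (hF.mul St hu hv hdu hdv).symm⟩
  inv_mem' := by
    rintro _ ⟨u, hu, hdu, rfl⟩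
    exact ⟨u, hu, hdu, (inv_eq_of_mul_eq_one_left
      (by rw [hF.mul St hu hu hdu hdu, Nat.xor_self, IsFrame.zero St])).symm⟩

theorem inDom_of_even {v : ℕ} (h : inDom true v = true) (e : Bool) : inDom e v = true := by
  cases e
  · rfl
  · exact h

theorem frameSub_sq {St : Setup L jf} {hF : IsFrame jf e x₁} {a : G} (ha : a ∈ frameSub St hF) :
    a * a = 1 := by
  obtain ⟨u, hu, hdu, rfl⟩ := ha
  rw [hF.mul St hu hu hdu hdu, Nat.xor_self, IsFrame.zero St]

theorem z_mem_frame {St : Setup L jf} {hF : IsFrame jf e x₁} : jf zU ∈ frameSub St hF :=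
  ⟨255, by norm_num, (inDom_special e).2.1, IsFrame.top⟩

theorem img_A7_le {St : Setup L jf} {hF : IsFrame jf e x₁} : img St A7 ≤ frameSub St hF := by
  rintro _ ⟨s, hs, -, rfl⟩
  obtain ⟨v, hv, hd, rfl⟩ := mem_A7.1 hs
  exact ⟨v, hv, inDom_of_even hd e, iota_even hd⟩

theorem frame_even_eq {St : Setup L jf} {hF : IsFrame jf true x₁} :
    frameSub St hF = img St A7 := by
  refine le_antisymm ?_ img_A7_le
  rintro _ ⟨v, hv, hd, rfl⟩
  rw [iota_even hd]
  exact jf_mem_img St (mem_A7.2 ⟨v, hv, hd, rfl⟩) ((aU_mem_L0 hv).2 hd)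

theorem card_frame {St : Setup L jf} {hF : IsFrame jf e x₁} :
    Nat.card (frameSub St hF) = (dom e).length := by
  rw [← List.toFinset_card_of_nodup (dom_nodup e), ← Nat.card_eq_finsetCard]
  have hm : ∀ v : ((dom e).toFinset : Finset ℕ), v.1 < 256 ∧ inDom e v.1 = true :=
    fun v => mem_dom.1 (List.mem_toFinset.1 v.2)
  refine (Nat.card_congr (Equiv.ofBijective
    (fun v => (⟨iota jf x₁ v.1, v.1, (hm v).1, (hm v).2, rfl⟩ : frameSub St hF))
    ⟨fun a b h => Subtype.ext (hF.inj St (hm a).1 (hm b).1 (hm a).2 (hm b).2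
      (congrArg Subtype.val h)), ?_⟩)).symm
  rintro ⟨_, v, hv, hd, rfl⟩
  exact ⟨⟨v, List.mem_toFinset.2 (mem_dom.2 ⟨hv, hd⟩)⟩, rfl⟩

theorem dom_length : (dom false).length = 256 ∧ (dom true).length = 128 := by decide +kernel

theorem exists_frame [Finite G] (St : Setup L jf) :
    ∃ (e : Bool) (x₁ : G), IsFrame jf e x₁ := by
  by_cases h : ∀ (x : G) (η : U), x * x = 1 → Act jf x η → η ∈ L0
  · exact ⟨true, 1, h⟩
  push Not at h
  obtain ⟨x, η, hx, hA, hη⟩ := h
  have hη2 : η * η = 1 :=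
    (St.act_trivial (hA.mul hA) (hx ▸ Act.one)).resolve_right (sq_ne_zU hA.1 hη)
  obtain ⟨l, hl, v, hv, hlv⟩ := exists_conj_A hA.1 hη2
  have hodd : inDom true v = false := Bool.eq_false_iff.2 fun t => by
    have := (aU_mem_L0 hv).2 t
    rw [← hlv, conj_mem_L0_iff (L0_le_Xg hl) hA.1] at this
    exact hη this
  obtain ⟨h1, h2, h3⟩ := odd_spec hv hodd
  set x' := jf l * x * (jf l)⁻¹ with hx'
  have hA' : Act jf x' (aU v) := by
    have := ((St.act_jf hl).mul hA).mul (St.act_jf hl).inv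
    rwa [hlv] at this
  have hm := (aU_mem_L0 h1).2 h2
  refine ⟨false, jf (aU (v ^^^ 1)) * x', ?_, ?_⟩
  · have e := hA'.2 _ hm
    rw [aU_comm hv h1, mul_inv_cancel_right] at e
    calc jf (aU (v ^^^ 1)) * x' * (jf (aU (v ^^^ 1)) * x')
        = jf (aU (v ^^^ 1)) * (x' * jf (aU (v ^^^ 1)) * x'⁻¹) * (x' * x') := by group
      _ = 1 := by
        rw [e, ← St.mul _ hm _ hm, aU_sq h1, St.map_one, hx', StdDoubleRu.conj_sq_eq, hx, mul_one,
          mul_inv_cancel, one_mul]
  · have h' := (St.act_jf hm).mul hA'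
    have e' : aU (v ^^^ 1) * aU v = aU 1 := by
      rw [aU_comm h1 hv, h3, ← mul_assoc, aU_sq hv, one_mul]
    rwa [e'] at h'

/-! ### The normaliser of the lifted frame -/

theorem not_x1_z [Finite G] {St : Setup L jf} (hC : SmallC L jf) (hF : IsFrame jf false x₁) {c : G}
    (hc : c ∈ Subgroup.centralizer (L : Set G)) (h : c * x₁ * c⁻¹ = x₁ * jf zU) : False := by
  obtain ⟨o, ho, ⟨k, hk⟩, -⟩ := StdDoubleRu.exists_two_part c (1 : G)
  have hzc : c * jf zU = jf zU * c := (St.mem_C.1 hc _ zU_mem).symm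
  have key : ∀ n : ℕ, c ^ n * x₁ * (c ^ n)⁻¹ = x₁ * jf zU ^ n := by
    intro n
    induction n with
    | zero => simp
    | succ n ih =>
      rw [pow_succ', pow_succ', show c * c ^ n * x₁ * (c * c ^ n)⁻¹ = c * (c ^ n * x₁ * (c ^ n)⁻¹) * c⁻¹
        by group, ih, show c * (x₁ * jf zU ^ n) * c⁻¹ = c * x₁ * c⁻¹ * (c * jf zU ^ n * c⁻¹) by group,
        h, ((show Commute c (jf zU) from hzc).pow_right n).eq, mul_inv_cancel_right, mul_assoc]
  have e := key o
  obtain ⟨j, rfl⟩ := ho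
  rw [show jf zU ^ (2 * j + 1) = jf zU by rw [pow_succ, pow_mul, sq, St.z_sq, one_pow, one_mul]] at e
  have hcomm : c ^ (2 * j + 1) * x₁ * (c ^ (2 * j + 1))⁻¹ = x₁ := by
    rcases hC _ (pow_mem hc _) k hk with e' | e'
    · rw [e']; simp
    · rw [e', ← St.act_z (show Act jf x₁ (aU 1) from hF.2), mul_inv_cancel_right]
  exact St.z_ne_one (mul_eq_left.1 (e.symm.trans hcomm))

/-- An element of the normaliser acts on the masks as its action on the frame. -/
theorem exact_conj [Finite G] {St : Setup L jf} (hC : SmallC L jf) (hF : IsFrame jf e x₁) {g : G}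
    {y : U} (hy : Act jf g y)
    (hg : ∀ v < 256, inDom e v = true → ∃ w < 256, inDom e w = true ∧
      g * iota jf x₁ v * g⁻¹ = iota jf x₁ w)
    {v w : ℕ} (hv : v < 256) (hd : inDom e v = true) (hw : w < 256) (hdw : inDom e w = true)
    (h : g * iota jf x₁ v * g⁻¹ = iota jf x₁ w) : y * aU v * y⁻¹ = aU w := by
  have hA := (hy.mul (hF.act St hv hd)).mul hy.inv
  rw [h] at hA
  -- even masks
  have heven : ∀ {u u' : ℕ}, u < 256 → u' < 256 → inDom true u = true → inDom e u' = true →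
      g * iota jf x₁ u * g⁻¹ = iota jf x₁ u' → y * aU u * y⁻¹ = aU u' := by
    intro u u' hu hu' hdu hdu' hh
    have hpar : inDom true u' = true := by
      rw [← aU_mem_L0 hu']
      have hA' := (hy.mul (hF.act St hu (inDom_of_even hdu e))).mul hy.inv
      rw [hh] at hA'
      exact (St.par_iff (hF.act St hu' hdu') hA').2 (conj_mem_L0 hy.1 ((aU_mem_L0 hu).2 hdu))
    rw [iota_even hdu, iota_even hpar, hy.2 _ ((aU_mem_L0 hu).2 hdu)] at hh
    exact St.inj _ (conj_mem_L0 hy.1 ((aU_mem_L0 hu).2 hdu)) _ ((aU_mem_L0 hu').2 hpar) hh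
  rcases dom_cases hd with hev | ⟨hodd, rfl⟩
  · exact heven hv hw hev hdw h
  -- the first reflection
  have hone : ∀ {u : ℕ}, u < 256 → g * x₁ * g⁻¹ = iota jf x₁ u → y * aU 1 * y⁻¹ = aU u := by
    intro u hu hh
    have hi1 : iota jf x₁ 1 = x₁ := by
      rw [iota, show inDom true 1 = false by decide +kernel, cond_false, Nat.xor_self, aU_zero,
        St.map_one, one_mul]
    rcases St.act_unique (hF.act St hu rfl)
      (hh ▸ (hy.mul (show Act jf x₁ (aU 1) from hF.2)).mul hy.inv) with e' | e'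
    · exact e'
    exfalso
    -- replace the element by one acting inside the double cover
    obtain ⟨l, hl, c, hc, hgl, hlc⟩ : ∃ l ∈ L0, ∃ c ∈ Subgroup.centralizer (L : Set G),
        (g * x₁ * g⁻¹ = jf l * c * x₁ * (jf l * c)⁻¹) ∧ l * aU 1 * l⁻¹ = aU u * zU := by
      by_cases hyl : y ∈ L0
      · obtain ⟨c, hc, hgc⟩ := St.split hy hyl
        exact ⟨y, hyl, c, hc, by rw [← hgc], e'⟩
      · have hyb : y * aU 1 ∈ L0 := (L0_mul_iff hy.1 (aU_mem_Xg 1)).2 (iff_of_false hyl fun t => by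
          have := (aU_mem_L0 (by norm_num : 1 < 256)).1 t
          rw [show inDom true 1 = false by decide +kernel] at this
          exact Bool.noConfusion this)
        obtain ⟨c, hc, hgc⟩ := St.split (hy.mul (show Act jf x₁ (aU 1) from hF.2)) hyb
        refine ⟨y * aU 1, hyb, c, hc, ?_, ?_⟩
        · rw [← hgc]; group
        · rw [← e']; group
    have hu' : u ^^^ 255 < 256 := Nat.xor_lt_two_pow (n := 8) hu (by norm_num)
    have hlu : l * aU 1 * l⁻¹ = aU (u ^^^ 255) := by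
      rw [hlc, ← aU_top, aU_mul hu (by norm_num)]
    have hex := hF.conj_exact St hl (by norm_num : 1 < 256) hu' rfl hlu
    rw [hi1] at hex
    refine not_x1_z (St := St) hC hF hc ?_
    have h2 : c * x₁ * c⁻¹ = (jf l)⁻¹ * iota jf x₁ u * jf l := by
      rw [← hh, hgl]; group
    have htop : iota jf x₁ u = iota jf x₁ (u ^^^ 255) * jf zU := by
      rw [← IsFrame.top (jf := jf) (x₁ := x₁), hF.mul St hu' (by norm_num) rfl rfl, Nat.xor_assoc,
        Nat.xor_self, Nat.xor_zero]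
    rw [h2, htop, ← hex,
      show (jf l)⁻¹ * (jf l * x₁ * (jf l)⁻¹ * jf zU) * jf l = x₁ * ((jf l)⁻¹ * (jf zU * jf l)) by
        group, ← St.z_comm_L (St.mem _ hl), inv_mul_cancel_left]
  obtain ⟨b1, b2, b3⟩ := odd_spec hv hodd
  obtain ⟨u₁, hu₁, -, he₁⟩ := hg 1 (by norm_num) rfl
  obtain ⟨u₂, hu₂, -, he₂⟩ := hg (v ^^^ 1) b1 rfl
  have hi1 : iota jf x₁ 1 = x₁ := by
    rw [iota, show inDom true 1 = false by decide +kernel, cond_false, Nat.xor_self, aU_zero,
      St.map_one, one_mul]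
  have hsum : iota jf x₁ (u₂ ^^^ u₁) = iota jf x₁ w := by
    rw [← hF.mul St hu₂ hu₁ rfl rfl, ← he₂, ← he₁, ← h,
      show g * iota jf x₁ (v ^^^ 1) * g⁻¹ * (g * iota jf x₁ 1 * g⁻¹) =
        g * (iota jf x₁ (v ^^^ 1) * iota jf x₁ 1) * g⁻¹ by group,
      hF.mul St b1 (by norm_num) rfl rfl, Nat.xor_assoc, Nat.xor_self, Nat.xor_zero]
  rw [← hF.inj St (Nat.xor_lt_two_pow (n := 8) hu₂ hu₁) hw rfl rfl hsum, ← aU_mul hu₂ hu₁,
    ← heven b1 hu₂ b2 rfl he₂, ← hone hu₁ (by rwa [hi1] at he₁), b3]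
  calc y * aU v * y⁻¹ = y * (aU v * aU 1) * (aU 1) * y⁻¹ := by
        rw [mul_assoc y (aU v * aU 1), mul_assoc (aU v), aU_sq (by norm_num : 1 < 256), mul_one]
    _ = _ := by group

/-- The normaliser of the lifted frame fixes the central involution. -/
theorem fixes_z [Finite G] {St : Setup L jf} (hC : SmallC L jf) (hF : IsFrame jf e x₁) {g : G}
    (hg : ∀ a ∈ frameSub St hF, g * a * g⁻¹ ∈ frameSub St hF) : g * jf zU * g⁻¹ = jf zU := by
  classical
  let Γ : Subgroup (Equiv.Perm (V e)) :=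
    { carrier := {π | ∃ g : G, ∀ v : V e, g * iota jf x₁ v.1.1 * g⁻¹ = iota jf x₁ (π v).1.1}
      one_mem' := ⟨1, fun v => by simp⟩
      mul_mem' := by
        rintro π π' ⟨a, ha⟩ ⟨b, hb⟩
        refine ⟨a * b, fun v => ?_⟩
        rw [show a * b * iota jf x₁ v.1.1 * (a * b)⁻¹ = a * (b * iota jf x₁ v.1.1 * b⁻¹) * a⁻¹ by group,
          hb, ha]
        rfl
      inv_mem' := by
        rintro π ⟨a, ha⟩
        refine ⟨a⁻¹, fun v => ?_⟩
        have := ha (π⁻¹ v)
        rw [show π (π⁻¹ v) = v from π.apply_symm_apply v] at this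
        rw [← this]
        group }
  have hinj : ∀ {a b : V e}, iota jf x₁ a.1.1 = iota jf x₁ b.1.1 → a = b := fun {a b} h =>
    Subtype.ext (Fin.ext (hF.inj St a.1.2 b.1.2 a.2 b.2 h))
  have hfix := fixes_top (Γ := Γ) ?lin ?hup ?hlow
  case lin =>
    rintro π ⟨a, ha⟩ u v
    refine hinj ?_
    rw [← ha]
    show a * iota jf x₁ (u.1.1 ^^^ v.1.1) * a⁻¹ = iota jf x₁ ((π u).1.1 ^^^ (π v).1.1)
    rw [← hF.mul St u.1.2 v.1.2 u.2 v.2, ← hF.mul St (π u).1.2 (π v).1.2 (π u).2 (π v).2, ← ha u,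
      ← ha v]
    group
  case hup =>
    rintro π ⟨a, ha⟩ hπz
    have haz : a * jf zU = jf zU * a := by
      have := ha (zV e)
      rw [hπz] at this
      change a * iota jf x₁ 255 * a⁻¹ = iota jf x₁ 255 at this
      rw [IsFrame.top] at this
      exact mul_inv_eq_iff_eq_mul.1 this
    obtain ⟨y, hy⟩ := St.act_exists haz
    have hga : ∀ u < 256, inDom e u = true → ∃ w < 256, inDom e w = true ∧
        a * iota jf x₁ u * a⁻¹ = iota jf x₁ w := fun u hu hdu =>
      ⟨(π ⟨⟨u, hu⟩, hdu⟩).1.1, (π ⟨⟨u, hu⟩, hdu⟩).1.2, (π ⟨⟨u, hu⟩, hdu⟩).2, ha ⟨⟨u, hu⟩, hdu⟩⟩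
    have hexact : ∀ v : V e, y * aU v.1.1 * y⁻¹ = aU (π v).1.1 := fun v =>
      exact_conj (St := St) (g := a) hC hF hy hga
        (v := v.1.1) (w := (π v).1.1) v.1.2 v.2 (π v).1.2 (π v).2 (ha v)
    obtain ⟨y', hy'e, hy'A⟩ : ∃ y' : U, (∀ v : V e, y' * aU v.1.1 * y'⁻¹ = y * aU v.1.1 * y⁻¹) ∧
        ∀ v < 256, ∃ w < 256, y' * aU v * y'⁻¹ = aU w := by
      cases e with
      | false => exact ⟨y, fun _ => rfl, fun v hv =>
          ⟨_, (π ⟨⟨v, hv⟩, rfl⟩).1.2, hexact ⟨⟨v, hv⟩, rfl⟩⟩⟩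
      | true =>
        obtain ⟨y', h1, h2⟩ := exists_fix_A hy.1 fun a ha' => by
          obtain ⟨v, hv, hd, rfl⟩ := mem_A7.1 ha'
          exact mem_A7.2 ⟨_, (π ⟨⟨v, hv⟩, hd⟩).1.2, (π ⟨⟨v, hv⟩, hd⟩).2, (hexact ⟨⟨v, hv⟩, hd⟩).symm⟩
        exact ⟨y', fun v => h1 _ (mem_A7.2 ⟨_, v.1.2, v.2, rfl⟩), h2⟩
    obtain ⟨p, hp, hpv⟩ := perm_of_normalizes e hy'A
    refine ⟨p, hp, fun v => ?_⟩
    refine aU_inj (π v).1.2 ?_ ?_
    · obtain ⟨hinj', l, hl, hly⟩ := lifts_perms hp
      exact (conj_aU hinj' hly v.1.2).1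
    · rw [← hpv _ v.1.2, hy'e, hexact]
  case hlow =>
    intro p hp
    obtain ⟨hinj', l, hl, hly⟩ := lifts_perms hp
    have hmem : ∀ v : V e, pim p v.1.1 < 256 ∧ inDom e (pim p v.1.1) = true ∧
        jf l * iota jf x₁ v.1.1 * (jf l)⁻¹ = iota jf x₁ (pim p v.1.1) := fun v => by
      obtain ⟨h1, h2⟩ := conj_aU hinj' hly v.1.2
      refine ⟨h1, ?_, hF.conj_exact St hl v.1.2 h1 v.2 h2⟩
      cases e with
      | false => rfl
      | true =>
        rw [← aU_mem_L0 h1, ← h2, conj_mem_L0_iff (L0_le_Xg hl) (aU_mem_Xg _), aU_mem_L0 v.1.2]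
        exact v.2
    let f : V e → V e := fun v => ⟨⟨_, (hmem v).1⟩, (hmem v).2.1⟩
    have hf : Function.Injective f := fun a b h => hinj (mul_left_cancel (mul_right_cancel
      ((hmem a).2.2.trans ((congrArg (fun v : V e => iota jf x₁ v.1.1) h).trans (hmem b).2.2.symm))))
    exact ⟨Equiv.ofBijective f ⟨hf, Finite.surjective_of_injective hf⟩,
      ⟨jf l, fun v => (hmem v).2.2⟩, fun v => rfl⟩
  -- the permutation of the given element
  have hex : ∀ v : V e, ∃ w : V e, g * iota jf x₁ v.1.1 * g⁻¹ = iota jf x₁ w.1.1 := fun v => by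
    obtain ⟨w, hw, hdw, e'⟩ := hg _ ⟨_, v.1.2, v.2, rfl⟩
    exact ⟨⟨⟨w, hw⟩, hdw⟩, e'.symm⟩
  choose f hf using hex
  have hfi : Function.Injective f := fun a b h => hinj (mul_left_cancel (mul_right_cancel
    ((hf a).trans ((congrArg (fun v : V e => iota jf x₁ v.1.1) h).trans (hf b).symm))))
  have h := hf (zV e)
  rw [show f (zV e) = zV e from
    hfix (Equiv.ofBijective f ⟨hfi, Finite.surjective_of_injective hfi⟩) ⟨g, hf⟩] at h
  change g * iota jf x₁ 255 * g⁻¹ = iota jf x₁ 255 at h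
  rwa [IsFrame.top] at h

/-! ### The elementary subgroups containing the central involution -/

theorem card_two_cent [Finite G] {St : Setup L jf} (hC : SmallC L jf) {T : Subgroup G}
    (h2 : IsPGroup 2 T) (hT : T ≤ Subgroup.centralizer (img St A7 : Set G)) : Nat.card T ≤ 256 := by
  classical
  have hact : ∀ t : T, ∃ y, Act jf (t : G) y := fun t => St.act_exists
    (Subgroup.mem_centralizer_iff.1 (hT t.2) _ (jf_mem_img St zU_mem_A7 zU_mem)).symm
  choose y hy using hact
  have hinner : ∀ t : T, y t ∈ L0 → (t : G) ∈ img St A7 := by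
    intro t ht
    obtain ⟨k, hk⟩ := h2 t
    have hk' : (t : G) ^ 2 ^ k = 1 := congrArg Subtype.val hk
    obtain ⟨l, hl, htl⟩ := St.inner_mem_L hC (hy t) ht hk'
    have hlc : ∀ a ∈ A7, l * a = a * l := fun a ha => by
      have h := Subgroup.mem_centralizer_iff.1 (hT t.2) _ (jf_mem_img St ha ha.2)
      rw [htl, ← St.mul _ hl _ ha.2, ← St.mul _ ha.2 _ hl] at h
      exact (St.inj _ (mul_mem ha.2 hl) _ (mul_mem hl ha.2) h).symm
    have hl2 : l ^ 2 ^ k = 1 := St.inj _ (pow_mem hl _) _ (one_mem _)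
      (by rw [St.map_pow hl, ← htl, hk', St.map_one])
    have hnorm : Subgroup.zpowers l ≤ Subgroup.normalizer (A7 : Set U) :=
      Subgroup.zpowers_le.2 (Subgroup.mem_normalizer_fintype fun a ha => by
        rw [hlc a ha, mul_inv_cancel_right]; exact ha)
    have hQle : Subgroup.zpowers l ⊔ A7 ≤ L0 :=
      sup_le (Subgroup.zpowers_le.2 hl) A7_le_L0
    obtain ⟨m, hm, hP, hfix⟩ := conj_fix_A7 (Q := Subgroup.zpowers l ⊔ A7)
      (fun q hq => L0_le_Xg (hQle hq))
      ((StdDoubleRu.isPGroup_zpowers hl2).to_sup_of_normal_right'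
        (isPGroup_of_sq fun a ha => A_sq ha.1) hnorm) le_sup_right
    have hmA : m * l * m⁻¹ ∈ A :=
      conj_mem_cent hfix (hP l (Subgroup.mem_sup_left (Subgroup.mem_zpowers l))) hlc
    have hm7 : m * l * m⁻¹ ∈ A7 := ⟨hmA, L0.mul_mem (L0.mul_mem hm hl) (L0.inv_mem hm)⟩
    rw [← hfix] at hm7
    obtain ⟨a, ha, hae⟩ := hm7
    rw [htl, ← mul_left_cancel (mul_right_cancel
      (show m * a * m⁻¹ = m * l * m⁻¹ from hae))]
    exact jf_mem_img St ha ha.2
  have h256 : Nat.card (img St A7) * 2 = 256 := by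
    rw [card_img St A7_le_L0, card_A7]
  by_cases hout : ∃ t : T, y t ∉ L0
  · obtain ⟨q, hq⟩ := hout
    have hmem : ∀ t : T, (if y t ∈ L0 then (t : G) else t * q) ∈ img St A7 := by
      intro t
      split_ifs with h
      · exact hinner t h
      · refine hinner (t * q) ((St.par_iff (hy (t * q)) ((hy t).mul (hy q))).2
          ((L0_mul_iff (hy t).1 (hy q).1).2 (iff_of_false h hq)))
    let f : T → img St A7 × Bool := fun t => (⟨_, hmem t⟩, decide (y t ∈ L0))
    have hf : Function.Injective f := by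
      intro a b h
      simp only [f, Prod.mk.injEq, Subtype.mk.injEq, decide_eq_decide] at h
      obtain ⟨h1, h2⟩ := h
      by_cases ha : y a ∈ L0
      · rw [if_pos ha, if_pos (h2.1 ha)] at h1; exact Subtype.ext h1
      · rw [if_neg ha, if_neg (fun t => ha (h2.2 t))] at h1; exact Subtype.ext (mul_right_cancel h1)
    have := Nat.card_le_card_of_injective f hf
    rw [Nat.card_prod, show Nat.card Bool = 2 by simp] at this
    omega
  · push Not at hout
    have hle : T ≤ img St A7 := fun t ht => hinner ⟨t, ht⟩ (hout _)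
    have := Subgroup.card_le_of_le hle
    omega

theorem mem_map_conj {H : Subgroup G} {n a : G} :
    a ∈ H.map (MulAut.conj n).toMonoidHom ↔ n⁻¹ * a * n ∈ H := by
  constructor
  · rintro ⟨b, hb, rfl⟩
    show n⁻¹ * (n * b * n⁻¹) * n ∈ H
    rwa [show n⁻¹ * (n * b * n⁻¹) * n = b by group]
  · intro h
    exact ⟨_, h, show n * (n⁻¹ * a * n) * n⁻¹ = a by group⟩

/-- The elementary subgroups as large as the lifted frame which contain the central involution. -/
theorem conj_big [Finite G] {St : Setup L jf} (hC : SmallC L jf) (hF : IsFrame jf e x₁)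
    {B : Subgroup G} (hBz : jf zU ∈ B) (hB2 : ∀ b ∈ B, b * b = 1)
    (hcard : Nat.card B = (dom e).length) :
    ∃ n : G, n * jf zU = jf zU * n ∧ (B.map (MulAut.conj n).toMonoidHom = frameSub St hF ∨
      (e = true ∧ ∃ B2 : Subgroup U, InB2 B2 ∧ Nat.card B2 = 128 ∧ B2 ≤ S ∧
        B.map (MulAut.conj n).toMonoidHom = img St B2)) := by
  classical
  haveI : Fact (Nat.Prime 2) := ⟨Nat.prime_two⟩
  have hinv : ∀ b ∈ B, b⁻¹ = b := fun b hb => inv_eq_of_mul_eq_one_left (hB2 b hb)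
  have hBc : ∀ a ∈ B, ∀ b ∈ B, a * b = b * a := fun a ha b hb => by
    rw [← hinv _ (mul_mem ha hb), mul_inv_rev, hinv a ha, hinv b hb]
  have hact : ∀ b : B, ∃ y, Act jf (b : G) y := fun b => St.act_exists (hBc _ b.2 _ hBz)
  choose y hy using hact
  let B0 : Subgroup U :=
    { carrier := {l | l ∈ L0 ∧ jf l ∈ B}
      one_mem' := ⟨one_mem _, by rw [St.map_one]; exact one_mem B⟩
      mul_mem' := fun ha hb => ⟨mul_mem ha.1 hb.1, by
        rw [St.mul _ ha.1 _ hb.1]; exact mul_mem ha.2 hb.2⟩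
      inv_mem' := fun ha => ⟨inv_mem ha.1, by rw [St.map_inv ha.1]; exact inv_mem ha.2⟩ }
  have hB0L : B0 ≤ L0 := fun l h => h.1
  have hB0sq : ∀ b ∈ B0, b * b = 1 := fun b hb => St.inj _ (mul_mem hb.1 hb.1) _ (one_mem _)
    (by rw [St.mul _ hb.1 _ hb.1, hB2 _ hb.2, St.map_one])
  have hB0z : zU ∈ B0 := ⟨zU_mem, hBz⟩
  have himg : ∀ b : B, y b ∈ L0 → (b : G) ∈ img St B0 := fun b hb => by
    obtain ⟨l, hl, hbl⟩ := St.inner_mem_L hC (hy b) hb (k := 1) (by rw [pow_one, sq, hB2 _ b.2])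
    exact ⟨l, ⟨hl, hbl ▸ b.2⟩, hl, hbl.symm⟩
  have himgle : img St B0 ≤ B := by
    rintro _ ⟨s, hs, -, rfl⟩; exact hs.2
  have hall : e = true → img St B0 = B := fun he => le_antisymm himgle fun b hb => by
    subst he; exact himg ⟨b, hb⟩ (hF _ _ (hB2 b hb) (hy ⟨b, hb⟩))
  have hB0card : 128 ≤ Nat.card B0 := by
    rw [← card_img St hB0L]
    by_cases hout : ∃ b : B, y b ∉ L0
    · obtain ⟨q, hq⟩ := hout
      have hmem : ∀ t : B, (if y t ∈ L0 then (t : G) else t * q) ∈ img St B0 := by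
        intro t
        split_ifs with h
        · exact himg t h
        · exact himg (t * q) ((St.par_iff (hy (t * q)) ((hy t).mul (hy q))).2
            ((L0_mul_iff (hy t).1 (hy q).1).2 (iff_of_false h hq)))
      let f : B → img St B0 × Bool := fun t => (⟨_, hmem t⟩, decide (y t ∈ L0))
      have hf : Function.Injective f := by
        intro a b h
        simp only [f, Prod.mk.injEq, Subtype.mk.injEq, decide_eq_decide] at h
        obtain ⟨h1, h2⟩ := h
        by_cases ha : y a ∈ L0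
        · rw [if_pos ha, if_pos (h2.1 ha)] at h1; exact Subtype.ext h1
        · rw [if_neg ha, if_neg (fun t => ha (h2.2 t))] at h1
          exact Subtype.ext (mul_right_cancel h1)
      have h := Nat.card_le_card_of_injective f hf
      rw [Nat.card_prod, show Nat.card Bool = 2 by simp] at h
      cases e with
      | false => rw [hcard, dom_length.1] at h; omega
      | true => exact absurd (hF _ _ (hB2 _ q.2) (hy q)) hq
    · push Not at hout
      have hle : B ≤ img St B0 := fun b hb => himg ⟨b, hb⟩ (hout _)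
      have h := Subgroup.card_le_of_le hle
      cases e with
      | false => rw [hcard, dom_length.1] at h; omega
      | true => rw [hcard, dom_length.2] at h; omega
  have hB0c : ∀ a ∈ B0, ∀ b ∈ B0, a * b = b * a := fun a ha b hb =>
    St.inj _ (mul_mem ha.1 hb.1) _ (mul_mem hb.1 ha.1) (by
      rw [St.mul _ ha.1 _ hb.1, St.mul _ hb.1 _ ha.1, hBc _ ha.2 _ hb.2])
  obtain ⟨l, hl, hlS⟩ := conj_S hB0L (isPGroup_of_sq hB0sq)
  set B' := B.map (MulAut.conj (jf l)).toMonoidHom with hB'def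
  set B0' := B0.map (MulAut.conj l).toMonoidHom with hB0'def
  have himg' : img St B0' ≤ B' := by
    rintro _ ⟨s, ⟨s₀, hs₀, rfl⟩, -, rfl⟩
    refine mem_map_conj.2 ?_
    show (jf l)⁻¹ * jf (l * s₀ * l⁻¹) * jf l ∈ B
    rw [St.mul _ (mul_mem hl hs₀.1) _ (inv_mem hl), St.mul _ hl _ hs₀.1, St.map_inv hl,
      show (jf l)⁻¹ * (jf l * jf s₀ * (jf l)⁻¹) * jf l = jf s₀ by group]
    exact hs₀.2
  have hl_z : jf l * jf zU = jf zU * jf l := St.z_comm_L (St.mem _ hl)
  have hcB' : Nat.card B' = (dom e).length := by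
    rw [hB'def, Subgroup.card_map_of_injective (MulAut.conj (jf l)).injective, hcard]
  rcases big_conj hB0c hB0z hB0sq hB0card hlS with hA | ⟨hB, hB128⟩
  · have hA7le : img St A7 ≤ B' := hA ▸ himg'
    cases e with
    | true =>
      refine ⟨jf l, hl_z, Or.inl ?_⟩
      rw [frame_even_eq]
      exact (Subgroup.eq_of_le_of_card_ge hA7le
        (by rw [hcB', card_img St A7_le_L0, card_A7, dom_length.2])).symm
    | false =>
      set M := Subgroup.centralizer (img St A7 : Set G) with hM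
      have hB'c : ∀ a ∈ B', ∀ b ∈ B', a * b = b * a := by
        rintro _ ⟨a, ha, rfl⟩ _ ⟨b, hb, rfl⟩
        rw [← map_mul, ← map_mul, hBc a ha b hb]
      have hB'M : B' ≤ M := fun b hb => Subgroup.mem_centralizer_iff.2 fun a ha =>
        hB'c a (hA7le ha) b hb
      have hVM : frameSub St hF ≤ M := by
        rintro _ ⟨v, hv, hd, rfl⟩
        refine Subgroup.mem_centralizer_iff.2 ?_
        intro a ha
        obtain ⟨u, hu, hdu, rfl⟩ := img_A7_le (hF := hF) ha
        rw [hF.mul St hu hv hdu hd, hF.mul St hv hu hd hdu, Nat.xor_comm]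
      have key : ∀ H : Subgroup G, H ≤ M → IsPGroup 2 H → Nat.card H = 256 →
          ∃ R : Sylow 2 M, (R : Subgroup M) = H.subgroupOf M := by
        intro H hH h2 hc
        obtain ⟨R, hR⟩ := (h2.of_equiv (Subgroup.subgroupOfEquivOfLe hH).symm).exists_le_sylow
        refine ⟨R, (Subgroup.eq_of_le_of_card_ge hR ?_).symm⟩
        rw [Nat.card_congr (Subgroup.subgroupOfEquivOfLe hH).toEquiv, hc,
          ← Subgroup.card_map_of_injective M.subtype_injective]
        exact card_two_cent (St := St) hC (R.2.map _) (Subgroup.map_subtype_le _)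
      obtain ⟨R, hR⟩ := key _ hVM (isPGroup_of_sq fun a ha => frameSub_sq ha)
        (by rw [card_frame, dom_length.1])
      obtain ⟨R', hR'⟩ := key B' hB'M ((isPGroup_of_sq hB2).map _) (by rw [hcB', dom_length.1])
      obtain ⟨m, hm⟩ := MulAction.exists_smul_eq M R' R
      refine ⟨m * jf l, ?_, Or.inl ?_⟩
      · have hmz : (m : G) * jf zU = jf zU * m :=
          (Subgroup.mem_centralizer_iff.1 m.2 _ (jf_mem_img St zU_mem_A7 zU_mem)).symm
        rw [mul_assoc, hl_z, ← mul_assoc, hmz, mul_assoc]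
      · refine Subgroup.eq_of_le_of_card_ge ?_ ?_
        · rintro _ ⟨b, hb, rfl⟩
          have hb' : jf l * b * (jf l)⁻¹ ∈ B' := ⟨b, hb, rfl⟩
          have hmR : (⟨_, hB'M hb'⟩ : M) ∈ (R' : Subgroup M) := by rw [hR']; exact hb'
          have h' : MulAut.conj m • (⟨_, hB'M hb'⟩ : M) ∈ (R : Subgroup M) := by
            rw [← hm]; exact Subgroup.smul_mem_pointwise_smul _ (MulAut.conj m) _ hmR
          rw [hR] at h'
          have h'' : (m : G) * (jf l * b * (jf l)⁻¹) * (m : G)⁻¹ ∈ frameSub St hF := h'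
          show (m : G) * jf l * b * ((m : G) * jf l)⁻¹ ∈ frameSub St hF
          rwa [show (m : G) * jf l * b * ((m : G) * jf l)⁻¹ =
            (m : G) * (jf l * b * (jf l)⁻¹) * (m : G)⁻¹ by group]
        · rw [card_frame, Subgroup.card_map_of_injective (MulAut.conj _).injective, hcard]
  · have hB0'L : B0' ≤ L0 := by
      rintro _ ⟨s, hs, rfl⟩
      exact mul_mem (mul_mem hl hs.1) (inv_mem hl)
    cases e with
    | true =>
      refine ⟨jf l, hl_z, Or.inr ⟨rfl, B0', hB, hB128, ?_, ?_⟩⟩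
      · rintro _ ⟨s, hs, rfl⟩; exact hlS s hs
      · exact (Subgroup.eq_of_le_of_card_ge himg'
          (by rw [hcB', card_img St hB0'L, hB128, dom_length.2])).symm
    | false =>
      exfalso
      have hB0128 : Nat.card B0 = 128 := by
        rw [← hB128, Subgroup.card_map_of_injective (MulAut.conj l).injective]
      obtain ⟨q, hq⟩ : ∃ q : B, y q ∉ L0 := by
        by_contra hne
        push Not at hne
        have hle : B ≤ img St B0 := fun b hb => himg ⟨b, hb⟩ (hne _)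
        have h := Subgroup.card_le_of_le hle
        rw [hcard, card_img St hB0L, hB0128, dom_length.1] at h
        omega
      have hq2 : y q * y q = 1 := (St.act_trivial ((hy q).mul (hy q))
        (by rw [hB2 _ q.2]; exact Act.one)).resolve_right (sq_ne_zU (hy q).1 hq)
      set η := l * y q * l⁻¹ with hη
      have hηX : η ∈ Xg := mul_mem (mul_mem (L0_le_Xg hl) (hy q).1) (inv_mem (L0_le_Xg hl))
      have hηout : η ∉ L0 := fun h => hq ((conj_mem_L0_iff (L0_le_Xg hl) (hy q).1).1 h)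
      have hηc : ∀ b ∈ B0', η * b = b * η := by
        rintro _ ⟨b, hb, rfl⟩
        have h1 : y q * b * (y q)⁻¹ = b := St.inj _ (conj_mem_L0 (hy q).1 hb.1) _ hb.1 (by
          rw [← (hy q).2 b hb.1, hBc _ q.2 _ hb.2, mul_inv_cancel_right])
        show l * y q * l⁻¹ * (l * b * l⁻¹) = l * b * l⁻¹ * (l * y q * l⁻¹)
        calc _ = l * (y q * b) * l⁻¹ := by group
          _ = l * (b * y q) * l⁻¹ := by rw [mul_inv_eq_iff_eq_mul.1 h1]
          _ = _ := by group
      have hnorm : Subgroup.zpowers η ≤ Subgroup.normalizer (B0' : Set U) :=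
        Subgroup.zpowers_le.2 (Subgroup.mem_normalizer_fintype fun a ha => by
          rw [hηc a ha, mul_inv_cancel_right]; exact ha)
      have h21 : η ^ 2 ^ 1 = 1 := by
        rw [pow_one, sq, hη, StdDoubleRu.conj_sq_eq, hq2, mul_one, mul_inv_cancel]
      obtain ⟨l', hl', hl'P⟩ := exists_conj_P (Q := Subgroup.zpowers η ⊔ B0')
        (sup_le (Subgroup.zpowers_le.2 hηX) fun b hb => L0_le_Xg (hB0'L hb))
        ((StdDoubleRu.isPGroup_zpowers h21).to_sup_of_normal_right'
          ((isPGroup_of_sq hB0sq).map _) hnorm)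
      have hB0'sq : ∀ b ∈ B0', b * b = 1 := by
        rintro _ ⟨b, hb, rfl⟩; rw [← map_mul, hB0sq b hb, map_one]
      have hB0'c : ∀ a ∈ B0', ∀ b ∈ B0', a * b = b * a := by
        rintro _ ⟨a, ha, rfl⟩ _ ⟨b, hb, rfl⟩; rw [← map_mul, ← map_mul, hB0c a ha b hb]
      have hz' : zU ∈ B0' := ⟨zU, hB0z, show l * zU * l⁻¹ = zU by
        rw [← zU_comm, mul_inv_cancel_right]⟩
      rcases big_conj hB0'c hz' hB0'sq hB128.ge (l := l') (fun b hb =>
        mem_S_of_mem_L0 (hl'P b (Subgroup.mem_sup_right hb))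
          (mul_mem (mul_mem hl' (hB0'L hb)) (inv_mem hl'))) with hA | ⟨hB'', hB''128⟩
      · refine A7_not_B2 hB l'⁻¹ fun a ha => ?_
        rw [← hA] at ha
        obtain ⟨b, hb, rfl⟩ := ha
        show l'⁻¹ * (l' * b * l'⁻¹) * (l'⁻¹)⁻¹ ∈ B0'
        rwa [show l'⁻¹ * (l' * b * l'⁻¹) * (l'⁻¹)⁻¹ = b by group]
      · refine hB''.not_outer hB''128.ge (hl'P η (Subgroup.mem_sup_left (Subgroup.mem_zpowers η)))
          (fun h => hηout ((conj_mem_L0_iff (L0_le_Xg hl') hηX).1 h)) ?_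
        rintro _ ⟨b, hb, rfl⟩
        show l' * η * l'⁻¹ * (l' * b * l'⁻¹) = l' * b * l'⁻¹ * (l' * η * l'⁻¹)
        calc _ = l' * (η * b) * l'⁻¹ := by group
          _ = l' * (b * η) * l'⁻¹ := by rw [hηc b hb]
          _ = _ := by group

theorem invol_into_frame [Finite G] {St : Setup L jf} (hC : SmallC L jf) (hF : IsFrame jf e x₁)
    {x : G} (hx : x * x = 1) (hxz : x * jf zU = jf zU * x) :
    ∃ n : G, n * jf zU = jf zU * n ∧ n * x * n⁻¹ ∈ frameSub St hF := by
  obtain ⟨η, hη⟩ := St.act_exists hxz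
  by_cases hin : η ∈ L0
  · obtain ⟨l', hl', rfl⟩ := St.inner_mem_L hC hη hin (k := 1) (by rw [pow_one, sq, hx])
    have h2 : l' * l' = 1 := St.inj _ (mul_mem hl' hl') _ (one_mem _)
      (by rw [St.mul _ hl' _ hl', hx, St.map_one])
    obtain ⟨l, hl, v, hv, e'⟩ := exists_conj_A (L0_le_Xg hl') h2
    have hd : inDom true v = true := (aU_mem_L0 hv).1 (e' ▸ mul_mem (mul_mem hl hl') (inv_mem hl))
    refine ⟨jf l, St.z_comm_L (St.mem _ hl), ?_⟩
    rw [← St.map_inv hl, ← St.mul _ hl _ hl', ← St.mul _ (mul_mem hl hl') _ (inv_mem hl), e']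
    exact ⟨v, hv, inDom_of_even hd e, iota_even hd⟩
  · cases e with
    | true => exact absurd (hF _ _ hx hη) hin
    | false =>
      have hη2 : η * η = 1 :=
        (St.act_trivial (hη.mul hη) (hx ▸ Act.one)).resolve_right (sq_ne_zU hη.1 hin)
      obtain ⟨l, hl, v, hv, e'⟩ := exists_conj_A hη.1 hη2
      set x' := jf l * x * (jf l)⁻¹ with hx'
      have hA' : Act jf x' (aU v) := by
        have := ((St.act_jf hl).mul hη).mul (St.act_jf hl).inv
        rwa [e'] at this
      have hx'2 : x' * x' = 1 := by rw [hx', StdDoubleRu.conj_sq_eq, hx, mul_one, mul_inv_cancel]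
      have hcomm : ∀ a ∈ img St A7, x' * a = a * x' := by
        rintro _ ⟨s, hs, hs', rfl⟩
        obtain ⟨u, hu, -, rfl⟩ := mem_A7.1 hs
        have e1 := hA'.2 _ hs'
        rw [aU_comm hv hu, mul_inv_cancel_right] at e1
        exact mul_inv_eq_iff_eq_mul.1 e1
      have hsqA : ∀ a ∈ img St A7, a * a = 1 := by
        rintro _ ⟨s, hs, hs', rfl⟩
        rw [← St.mul _ hs' _ hs', A_sq hs.1, St.map_one]
      let B : Subgroup G :=
        { carrier := {a | a ∈ img St A7 ∨ a * x' ∈ img St A7}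
          one_mem' := Or.inl (one_mem _)
          mul_mem' := by
            rintro a b (ha | ha) (hb | hb)
            · exact Or.inl (mul_mem ha hb)
            · exact Or.inr (by rw [mul_assoc]; exact mul_mem ha hb)
            · refine Or.inr ?_
              rw [mul_assoc, ← hcomm b hb, ← mul_assoc]
              exact mul_mem ha hb
            · refine Or.inl ?_
              have h := mul_mem ha hb
              rwa [mul_assoc, hcomm _ hb, mul_assoc b, hx'2, mul_one] at h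
          inv_mem' := by
            rintro a (ha | ha)
            · exact Or.inl (inv_mem ha)
            · refine Or.inr ?_
              have h := inv_mem ha
              rw [mul_inv_rev, inv_eq_of_mul_eq_one_left hx'2] at h
              rw [← show (x' * a⁻¹) = a⁻¹ * x' from ?_]
              · exact h
              · have hc := hcomm _ ha
                calc x' * a⁻¹ = a⁻¹ * (a * x' * a⁻¹) := by group
                  _ = a⁻¹ * x' := by
                    have : a * x' = x' * a := by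
                      calc a * x' = x' * x' * (a * x') := by rw [hx'2, one_mul]
                        _ = x' * (a * x' * x') := by rw [mul_assoc, hc]
                        _ = x' * a := by rw [mul_assoc a, hx'2, mul_one]
                    rw [this, mul_inv_cancel_right] }
      have hBsq : ∀ b ∈ B, b * b = 1 := by
        rintro b (hb | hb)
        · exact hsqA b hb
        · have hb2 := hsqA _ hb
          calc b * b = b * (x' * x') * b * (x' * x') := by rw [hx'2, mul_one, mul_one]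
            _ = b * x' * (x' * (b * x')) * x' := by group
            _ = (b * x') * (b * x') * (x' * x') := by rw [hcomm _ hb]; group
            _ = 1 := by rw [hb2, hx'2, one_mul]
      have hnot : x' ∉ img St A7 := by
        rintro ⟨s, -, hs', hse⟩
        have h := (St.par_iff hA' (hse ▸ St.act_jf hs')).2 hs'
        rw [← e', conj_mem_L0_iff (L0_le_Xg hl) hη.1] at h
        exact hin h
      have hcB : Nat.card B = 256 := by
        let f : img St A7 × Bool → B := fun q =>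
          ⟨q.1.1 * bif q.2 then x' else 1, by
            cases q.2
            · exact Or.inl (by rw [cond_false, mul_one]; exact q.1.2)
            · exact Or.inr (by rw [cond_true, mul_assoc, hx'2, mul_one]; exact q.1.2)⟩
        have hf : Function.Bijective f := by
          constructor
          · rintro ⟨a, s⟩ ⟨b, t⟩ h
            have h' := congrArg Subtype.val h
            simp only [f] at h'
            cases s <;> cases t <;> simp only [cond_false, cond_true, mul_one] at h'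
            · rw [Subtype.ext h']
            · exact absurd (by rw [eq_inv_mul_of_mul_eq h'.symm]; exact mul_mem (inv_mem b.2) a.2) hnot
            · exact absurd (by rw [eq_inv_mul_of_mul_eq h']; exact mul_mem (inv_mem a.2) b.2) hnot
            · rw [Subtype.ext (mul_right_cancel h')]
          · rintro ⟨b, hb | hb⟩
            · exact ⟨(⟨b, hb⟩, false), Subtype.ext (mul_one b)⟩
            · exact ⟨(⟨_, hb⟩, true), Subtype.ext
                (show b * x' * x' = b by rw [mul_assoc, hx'2, mul_one])⟩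
        rw [← Nat.card_congr (Equiv.ofBijective f hf), Nat.card_prod, card_img St A7_le_L0,
          card_A7, show Nat.card Bool = 2 by simp]
      obtain ⟨n, hn, hB | ⟨he, -⟩⟩ := conj_big hC hF (B := B)
        (Or.inl (jf_mem_img St zU_mem_A7 zU_mem)) hBsq (by rw [hcB, dom_length.1])
      · refine ⟨n * jf l, ?_, ?_⟩
        · rw [mul_assoc, St.z_comm_L (St.mem _ hl), ← mul_assoc, hn, mul_assoc]
        · rw [← hB]
          refine ⟨x', Or.inr (by rw [hx'2]; exact one_mem _), ?_⟩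
          show n * x' * n⁻¹ = _
          rw [hx']; group
      · exact Bool.noConfusion he

/-- The central involution is isolated if the centraliser has no element of order four. -/
theorem Setup.isolated_two [Finite G] (St : Setup L jf)
    (h4 : ∀ c ∈ Subgroup.centralizer (L : Set G), c * c ≠ jf zU) {g : G}
    (hg : g * jf zU * g⁻¹ * jf zU = jf zU * (g * jf zU * g⁻¹)) : g * jf zU * g⁻¹ = jf zU := by
  have hC := St.smallC_of h4
  obtain ⟨e, x₁, hF⟩ := exists_frame St
  obtain ⟨n, hn, hnV⟩ := invol_into_frame (St := St) hC hF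
    (by rw [StdDoubleRu.conj_sq_eq, St.z_sq, mul_one, mul_inv_cancel]) hg
  set g₁ := n * g with hg₁
  have hx : g₁ * jf zU * g₁⁻¹ ∈ frameSub St hF := by
    rwa [show g₁ * jf zU * g₁⁻¹ = n * (g * jf zU * g⁻¹) * n⁻¹ by rw [hg₁]; group]
  suffices h : g₁ * jf zU * g₁⁻¹ = jf zU by
    calc g * jf zU * g⁻¹ = n⁻¹ * (g₁ * jf zU * g₁⁻¹) * n := by rw [hg₁]; group
      _ = n⁻¹ * (jf zU * n) := by rw [h, mul_assoc]
      _ = jf zU := by rw [← hn, inv_mul_cancel_left]
  set B := (frameSub St hF).map (MulAut.conj g₁⁻¹).toMonoidHom with hBdef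
  have hBz : jf zU ∈ B := mem_map_conj.2 (by rwa [inv_inv])
  have hBsq : ∀ b ∈ B, b * b = 1 := by
    rintro _ ⟨a, ha, rfl⟩; rw [← map_mul, frameSub_sq ha]; exact _root_.map_one _
  obtain ⟨m, hm, hcase⟩ := conj_big hC hF hBz hBsq (by
    rw [hBdef, Subgroup.card_map_of_injective (MulAut.conj _).injective, card_frame])
  set h := m * g₁⁻¹ with hh
  have hconj : ∀ a ∈ frameSub St hF, h * a * h⁻¹ ∈ B.map (MulAut.conj m).toMonoidHom := fun a ha =>
    ⟨g₁⁻¹ * a * g₁⁻¹⁻¹, ⟨a, ha, rfl⟩, show m * (g₁⁻¹ * a * g₁⁻¹⁻¹) * m⁻¹ = h * a * h⁻¹ by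
      rw [hh]; group⟩
  have hback : h * jf zU * h⁻¹ = jf zU → g₁ * jf zU * g₁⁻¹ = jf zU := fun e => by
    have e1 : g₁⁻¹ * jf zU * g₁ = jf zU := by
      calc g₁⁻¹ * jf zU * g₁ = m⁻¹ * (h * jf zU * h⁻¹) * m := by rw [hh]; group
        _ = m⁻¹ * (jf zU * m) := by rw [e, mul_assoc]
        _ = jf zU := by rw [← hm, inv_mul_cancel_left]
    calc g₁ * jf zU * g₁⁻¹ = g₁ * (g₁⁻¹ * jf zU * g₁) * g₁⁻¹ := by rw [e1]
      _ = jf zU := by group
  rcases hcase with hV | ⟨he, B2, hB2, hB128, hB2S, hV⟩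
  · exact hback (fixes_z (St := St) hC hF fun a ha => hV ▸ hconj a ha)
  subst he
  refine hback ?_
  have hmem : ∀ a ∈ frameSub St hF, h * a * h⁻¹ ∈ img St B2 := fun a ha => hV ▸ hconj a ha
  have hpull : ∀ b ∈ img St B2, h⁻¹ * b * h ∈ frameSub St hF := fun b hb => by
    rw [← hV] at hb
    obtain ⟨_, ⟨a, ha, rfl⟩, rfl⟩ := hb
    show h⁻¹ * (m * (g₁⁻¹ * a * g₁⁻¹⁻¹) * m⁻¹) * h ∈ frameSub St hF
    rwa [show h⁻¹ * (m * (g₁⁻¹ * a * g₁⁻¹⁻¹) * m⁻¹) * h = a by rw [hh]; group]
  obtain ⟨b, hb, hbL, hbe⟩ := hmem _ z_mem_frame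
  have hbS : ∀ s ∈ S, s * b = b * s := by
    intro s hs
    have hs' := S_le_L0 hs
    have hfixed : h⁻¹ * jf s * h * jf zU * (h⁻¹ * jf s * h)⁻¹ = jf zU := by
      refine fixes_z (St := St) hC hF fun a ha => ?_
      obtain ⟨b', hb', hb'L, e'⟩ := hmem a ha
      have hn' : s * b' * s⁻¹ ∈ B2 :=
        (Subgroup.mem_normalizer_iff.1 (hB2.normal hB128.ge hs) b').1 hb'
      have h3 := hpull _ (jf_mem_img St hn' (mul_mem (mul_mem hs' hb'L) (inv_mem hs')))
      rw [St.mul _ (mul_mem hs' hb'L) _ (inv_mem hs'), St.mul _ hs' _ hb'L, St.map_inv hs', e'] at h3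
      rwa [show h⁻¹ * jf s * h * a * (h⁻¹ * jf s * h)⁻¹ =
        h⁻¹ * (jf s * (h * a * h⁻¹) * (jf s)⁻¹) * h by group]
    refine St.inj _ (mul_mem hs' hbL) _ (mul_mem hbL hs') ?_
    rw [St.mul _ hs' _ hbL, St.mul _ hbL _ hs', hbe]
    calc jf s * (h * jf zU * h⁻¹) = h * (h⁻¹ * jf s * h * jf zU * (h⁻¹ * jf s * h)⁻¹) * h⁻¹ * jf s := by
          group
      _ = _ := by rw [hfixed]
  rcases hB2.central hb hbS with rfl | rfl
  · rw [St.map_one] at hbe
    exact absurd (conj_eq_one_iff.1 hbe.symm) St.z_ne_one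
  rw [← hbe]

end CfsgLib.StdDoubleO8
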