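import Cfsg.Agent.StdDoubleO8.CaseOne
import Cfsg.Agent.StdDoubleO8.CaseTwo
import Cfsg.Agent.OPlusEightTwo.Field
import Cfsg.Agent.ZStar.Theorem
import Cfsg.Prelude.Def_CaseTheorems
import Mathlib.FieldTheory.Finite.Basic

/-!
A double cover of `Ω⁺₈(2)` which is a standard subgroup with cyclic Sylow `2`-subgroups of the
centraliser is normal.
-/

set_option autoImplicit false
set_option linter.style.haveILetI false

namespace CfsgLib.StdDoubleO8

open Cfsg CfsgLib.OPlusEightTwo

universe u v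

variable {G : Type u} [Group G] [Finite G]

theorem exists_equiv_Om {F : Type v} [Field F] [Fintype F] (hF : Fintype.card F = 2) :
    Nonempty (Cfsg.POmega F (Cfsg.quadFormPlus 4 F) ≃* Om) := by
  obtain ⟨e⟩ := pOmega_equiv (K := ZMod 2) (F := F) (ZMod.ringEquivOfPrime F Nat.prime_two hF)
    (QK := OPlusEightTwo.Q) (QF := Cfsg.quadFormPlus 4 F) fun v => by
      simp [OPlusEightTwo.Q, Cfsg.quadFormPlus, map_sum, map_mul]
  exact ⟨e.symm⟩

/-- A standard double cover is parametrised by the double cover of the table. -/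
theorem exists_setup {L : Subgroup G} (hL : IsStandardSubgroup L)
    (hZ : Nat.card ↥(Subgroup.center ↥L) = 2) (hLX : Nonempty ((↥L ⧸ Subgroup.center ↥L) ≃* Om))
    (hR : ∀ R : Sylow 2 ↥(Subgroup.centralizer (L : Set G)),
      IsCyclic ↥(R : Subgroup ↥(Subgroup.centralizer (L : Set G)))) :
    ∃ jf : U → G, Setup L jf := by
  classical
  obtain ⟨eQ⟩ := hLX
  have hperf : Group.IsPerfect L := hL.1.1
  let σ : L →* Om := eQ.toMonoidHom.comp (QuotientGroup.mk' (Subgroup.center L))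
  have hker : σ.ker = Subgroup.center L := by
    ext a; simp [σ]
  have hσ : Cfsg.IsStemExtension σ :=
    ⟨eQ.surjective.comp (QuotientGroup.mk'_surjective _), hker.le,
      fun a _ => by rw [Group.isPerfect_def.mp hperf]; exact Subgroup.mem_top a⟩
  obtain ⟨β, hβ, hβk⟩ := exists_onto σ hσ (by rw [hker, hZ])
  have hk : ∀ g, p1L g = 1 ↔ β g = 1 := fun g => by
    rw [← MonoidHom.mem_ker (f := β), hβk]
    exact ⟨fun h => mem_ker_p1.1 (congrArg Subtype.val h), fun h => Subtype.ext (mem_ker_p1.2 h)⟩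
  let j : L0 →* L := p1L.liftOfSurjective p1L_surjective
    ⟨β, fun g hg => (hk g).1 (MonoidHom.mem_ker.1 hg)⟩
  have hj : ∀ g, j (p1L g) = β g := fun g => MonoidHom.liftOfRightInverse_comp_apply _ _ _ _ g
  have hinj : Function.Injective j := by
    rw [injective_iff_map_eq_one]
    intro l hl
    obtain ⟨g, rfl⟩ := p1L_surjective l
    rw [hj] at hl
    exact (hk g).2 hl
  refine ⟨fun u => if h : u ∈ L0 then (j ⟨u, h⟩ : G) else 1, ⟨hL, hR, ?_, ?_, ?_, ?_⟩⟩
  · intro l hl
    simp only [dif_pos hl]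
    exact (j ⟨l, hl⟩).2
  · intro a ha
    obtain ⟨g, hg⟩ := hβ ⟨a, ha⟩
    refine ⟨(p1L g : U), (p1L g).2, ?_⟩
    simp only [dif_pos (p1L g).2]
    rw [show (⟨(p1L g : U), (p1L g).2⟩ : L0) = p1L g from rfl, hj, hg]
  · intro l hl m hm
    simp only [dif_pos hl, dif_pos hm, dif_pos (mul_mem hl hm)]
    rw [← Subgroup.coe_mul, ← map_mul]
    rfl
  · intro l hl m hm h
    simp only [dif_pos hl, dif_pos hm] at h
    exact congrArg Subtype.val (hinj (Subtype.ext h))

/-- Such a standard subgroup is normal. -/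
theorem normal_of_standard (hO : Cfsg.oddCore G = ⊥) (L : Subgroup G) (hL : IsStandardSubgroup L)
    {F : Type v} [Field F] [Fintype F] (hF : Fintype.card F = 2)
    (hZ : Nat.card ↥(Subgroup.center ↥L) = 2)
    (hLX : Nonempty ((↥L ⧸ Subgroup.center ↥L) ≃* Cfsg.POmega F (Cfsg.quadFormPlus 4 F)))
    (hR : ∀ R : Sylow 2 ↥(Subgroup.centralizer (L : Set G)),
      IsCyclic ↥(R : Subgroup ↥(Subgroup.centralizer (L : Set G)))) : L.Normal := by
  obtain ⟨e⟩ := hLX
  obtain ⟨e'⟩ := exists_equiv_Om hF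
  obtain ⟨jf, St⟩ := exists_setup hL hZ ⟨e.trans e'⟩ hR
  have hiso : IsIsolatedInvolution (jf zU) := by
    refine ⟨St.orderOf_z, fun g hg => ?_⟩
    by_cases h4 : ∃ c ∈ Subgroup.centralizer (L : Set G), c * c = jf zU
    · obtain ⟨c, hc, hc2⟩ := h4
      exact St.isolated_one hc hc2 hg.eq.symm
    · push Not at h4
      exact St.isolated_two h4 hg.eq.symm
  have hzcenter := ZStar.mem_center_of_isolated hiso fun M hM ho => le_bot_iff.1
    (hO ▸ (le_sSup ⟨hM, Nat.coprime_two_right.2 ho⟩ : M ≤ Cfsg.oddCore G))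
  rw [← Subgroup.normalizer_eq_top_iff, eq_top_iff]
  intro g _
  exact StdDoubleRu.centralizer_le St.std St.orderOf_z St.z_mem_C
    (Subgroup.mem_centralizer_singleton_iff.2 (Subgroup.mem_center_iff.1 hzcenter g))

end CfsgLib.StdDoubleO8
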