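import Cfsg.Agent.StdDoubleO8.Setup

/-!
The central involution is isolated when the centraliser has an element of order four.
-/

set_option autoImplicit false
set_option linter.style.haveILetI false

namespace CfsgLib.StdDoubleO8

open Cfsg

universe u

variable {G : Type u} [Group G] [Finite G] {L : Subgroup G} {jf : U → G}

namespace Setup

theorem root_in_sylow (St : Setup L jf) {c₀ : G} (hc₀ : c₀ ∈ Subgroup.centralizer (L : Set G))
    (hc₀2 : c₀ * c₀ = jf zU) (Q : Sylow 2 ↥(Subgroup.centralizer (L : Set G))) :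
    ∃ d : ↥(Subgroup.centralizer (L : Set G)),
      d ∈ (Q : Subgroup ↥(Subgroup.centralizer (L : Set G))) ∧ (d : G) * d = jf zU := by
  haveI : Fact (Nat.Prime 2) := ⟨Nat.prime_two⟩
  obtain ⟨R, hR⟩ := St.exists_cyclic hc₀ (k := 2)
    (by rw [show (2 : ℕ) ^ 2 = 2 * 2 from rfl, pow_mul, sq c₀, hc₀2, sq, St.z_sq])
  obtain ⟨n, rfl⟩ := MulAction.exists_smul_eq ↥(Subgroup.centralizer (L : Set G)) R Q
  refine ⟨n * ⟨c₀, hc₀⟩ * n⁻¹, Subgroup.smul_mem_pointwise_smul _ (MulAut.conj n) _ hR, ?_⟩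
  show (n : G) * c₀ * (n : G)⁻¹ * ((n : G) * c₀ * (n : G)⁻¹) = jf zU
  rw [StdDoubleRu.conj_sq_eq, hc₀2, (St.mem_C.1 n.2 _ zU_mem).symm, mul_inv_cancel_right]

/-- An inner involution commutes with an element of order four of the centraliser. -/
theorem inner_root (St : Setup L jf) {c₀ : G} (hc₀ : c₀ ∈ Subgroup.centralizer (L : Set G))
    (hc₀2 : c₀ * c₀ = jf zU) {w : G} {l : U} (hw : Act jf w l) (hl : l ∈ L0) (hw2 : w * w = 1) :
    ∃ d ∈ Subgroup.centralizer (L : Set G), d * d = jf zU ∧ d * w = w * d := by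
  obtain ⟨c, hc, hwe, hck⟩ := St.inner_two hw hl (k := 1) (by rw [pow_one, sq, hw2])
  obtain ⟨Q, hQ⟩ := St.exists_cyclic hc hck
  obtain ⟨⟨d, hd⟩, hdQ, hd2⟩ := St.root_in_sylow hc₀ hc₀2 Q
  refine ⟨d, hd, hd2, ?_⟩
  have h := St.comm_of_mem_sylow Q hdQ hQ
  rw [hwe, ← mul_assoc, ← St.mem_C.1 hd l hl, mul_assoc, show d * c = c * d from h, mul_assoc]

/-- If a conjugate of the central involution is inner, so is the symmetric one. -/
theorem inner_symm (St : Setup L jf) {c₀ : G} (hc₀ : c₀ ∈ Subgroup.centralizer (L : Set G))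
    (hc₀2 : c₀ * c₀ = jf zU) {g : G} {l : U} (h : Act jf (g * jf zU * g⁻¹) l) (hl : l ∈ L0) :
    ∃ l' ∈ L0, Act jf (g⁻¹ * jf zU * g) l' := by
  obtain ⟨d, -, hd2, hdw⟩ := St.inner_root hc₀ hc₀2 h hl
    (by rw [StdDoubleRu.conj_sq_eq, St.z_sq, mul_one, mul_inv_cancel])
  have hdz : g⁻¹ * d * g * jf zU = jf zU * (g⁻¹ * d * g) := by
    calc g⁻¹ * d * g * jf zU = g⁻¹ * (d * (g * jf zU * g⁻¹)) * g := by group
      _ = g⁻¹ * (g * jf zU * g⁻¹ * d) * g := by rw [hdw]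
      _ = _ := by group
  obtain ⟨η, hη⟩ := St.act_exists hdz
  refine ⟨η * η, sq_mem_L0 hη.1, ?_⟩
  have h2 := hη.mul hη
  rwa [show g⁻¹ * d * g * (g⁻¹ * d * g) = g⁻¹ * (d * d) * g by group, hd2] at h2

/-- An inner conjugate of the central involution equals it. -/
theorem inner_eq (St : Setup L jf) {c₀ : G} (hc₀ : c₀ ∈ Subgroup.centralizer (L : Set G))
    (hc₀2 : c₀ * c₀ = jf zU) {g : G} {l : U} (h : Act jf (g * jf zU * g⁻¹) l) (hl : l ∈ L0) :
    g * jf zU * g⁻¹ = jf zU := by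
  haveI : Fact (Nat.Prime 2) := ⟨Nat.prime_two⟩
  by_contra hne
  obtain ⟨l', hl', hu⟩ := St.inner_symm hc₀ hc₀2 h hl
  obtain ⟨d, hd, hd2, hdu⟩ := St.inner_root hc₀ hc₀2 hu hl'
    (by rw [show g⁻¹ * jf zU * g * (g⁻¹ * jf zU * g) = g⁻¹ * (jf zU * jf zU) * g by group, St.z_sq]
        group)
  have hx2 : g * jf zU * g⁻¹ * (g * jf zU * g⁻¹) = 1 := by
    rw [StdDoubleRu.conj_sq_eq, St.z_sq, mul_one, mul_inv_cancel]
  have hyz : g * d * g⁻¹ * jf zU = jf zU * (g * d * g⁻¹) := by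
    calc g * d * g⁻¹ * jf zU = g * (d * (g⁻¹ * jf zU * g)) * g⁻¹ := by group
      _ = g * (g⁻¹ * jf zU * g * d) * g⁻¹ := by rw [hdu]
      _ = _ := by group
  obtain ⟨η₀, hη₀⟩ := St.act_exists hyz
  have hy2 : g * d * g⁻¹ * (g * d * g⁻¹) = g * jf zU * g⁻¹ := by rw [StdDoubleRu.conj_sq_eq, hd2]
  have h4 : (η₀ * η₀) * (η₀ * η₀) = 1 ∨ (η₀ * η₀) * (η₀ * η₀) = zU := by
    have h' := (hη₀.mul hη₀).mul (hη₀.mul hη₀)
    rw [hy2, hx2] at h'
    exact St.act_trivial h' Act.one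
  have h8 : η₀ ^ 2 ^ 3 = 1 := by
    rw [show η₀ ^ 2 ^ 3 = ((η₀ * η₀) * (η₀ * η₀)) * ((η₀ * η₀) * (η₀ * η₀)) by
      rw [show (2 : ℕ) ^ 3 = 8 from rfl]
      simp only [pow_succ, pow_zero, one_mul, mul_assoc]]
    rcases h4 with e | e <;> rw [e]
    · exact one_mul 1
    · exact zU_sq
  obtain ⟨m, hm, hmP⟩ := exists_conj_P (Subgroup.zpowers_le.2 hη₀.1)
    (StdDoubleRu.isPGroup_zpowers h8)
  set η : U := m * η₀ * m⁻¹ with hηdef
  have hP : η ∈ P := hmP η₀ (Subgroup.mem_zpowers _)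
  set g' : G := jf m * g with hg'def
  set y : G := g' * d * g'⁻¹ with hydef
  set x : G := g' * jf zU * g'⁻¹ with hxdef
  have hy : Act jf y η := by
    have h' := ((St.act_jf hm).mul hη₀).mul (St.act_jf hm).inv
    rwa [show y = jf m * (g * d * g⁻¹) * (jf m)⁻¹ by rw [hydef, hg'def]; group]
  have hyy : y * y = x := by rw [hydef, hxdef, StdDoubleRu.conj_sq_eq, hd2]
  have hxne : x ≠ jf zU := by
    intro e
    refine hne ?_
    calc g * jf zU * g⁻¹ = (jf m)⁻¹ * x * jf m := by rw [hxdef, hg'def]; group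
      _ = (jf m)⁻¹ * (jf zU * jf m) := by rw [e, mul_assoc]
      _ = jf zU := by rw [← St.z_comm_L (St.mem _ hm), inv_mul_cancel_left]
  have hx22 : x * x = 1 := by rw [hxdef, StdDoubleRu.conj_sq_eq, St.z_sq, mul_one, mul_inv_cancel]
  have hη2 : ¬ (η * η = 1 ∨ η * η = zU) := fun he => by
    rcases St.invol_C (St.mem_C_of_act (hyy ▸ hy.mul hy) he) hx22 with e | e
    · exact St.z_ne_one (conj_eq_one_iff.1 e)
    · exact hxne e
  rw [not_or] at hη2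
  have hη4 : (η * η) * (η * η) = 1 ∨ (η * η) * (η * η) = zU := by
    rw [show (η * η) * (η * η) = m * ((η₀ * η₀) * (η₀ * η₀)) * m⁻¹ by rw [hηdef]; group]
    rcases h4 with e | e <;> rw [e]
    · exact Or.inl (by group)
    · exact Or.inr (by rw [← zU_comm, mul_inv_cancel_right])
  obtain ⟨s, hs, t, ht, hs2, ht2, hsn, htn, hstn⟩ := exists_witness hP hη2.1 hη2.2 hη4
  obtain ⟨cx, hcx, hxe⟩ := St.split (hyy ▸ hy.mul hy) (sq_mem_L0 hy.1)
  -- the elements commuting with `x`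
  have hpull : ∀ a ∈ S, a * (η * η) = η * η * a → ∃ ya, Act jf (g'⁻¹ * jf a * g') ya := by
    intro a ha hac
    refine St.act_exists ?_
    have hax : jf a * x = x * jf a := by
      rw [hxe, ← mul_assoc, ← St.mul _ (S_le_L0 ha) _ (sq_mem_L0 hy.1), hac,
        St.mul _ (sq_mem_L0 hy.1) _ (S_le_L0 ha), mul_assoc (jf (η * η)),
        St.mem_C.1 hcx _ (S_le_L0 ha), ← mul_assoc]
    calc g'⁻¹ * jf a * g' * jf zU = g'⁻¹ * (jf a * x) * g' := by rw [hxdef]; group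
      _ = g'⁻¹ * (x * jf a) * g' := by rw [hax]
      _ = _ := by rw [hxdef]; group
  obtain ⟨ys, hys⟩ := hpull s hs hs2
  obtain ⟨yt, hyt⟩ := hpull t ht ht2
  obtain ⟨e, heS, hen, le, hle, hea⟩ : ∃ e ∈ S, e * η ≠ η * e ∧
      ∃ le ∈ L0, Act jf (g'⁻¹ * jf e * g') le := by
    by_cases h1 : ys ∈ L0
    · exact ⟨s, hs, hsn, ys, h1, hys⟩
    by_cases h2 : yt ∈ L0
    · exact ⟨t, ht, htn, yt, h2, hyt⟩
    refine ⟨s * t, mul_mem hs ht, hstn, ys * yt, (L0_mul_iff hys.1 hyt.1).2 (iff_of_false h1 h2), ?_⟩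
    rw [show g'⁻¹ * jf (s * t) * g' = g'⁻¹ * jf s * g' * (g'⁻¹ * jf t * g') by
      rw [St.mul _ (S_le_L0 hs) _ (S_le_L0 ht)]; group]
    exact hys.mul hyt
  obtain ⟨ce, hce, hee⟩ := St.split hea hle
  -- a two-group containing both
  have hy4 : y ^ 2 ^ 2 = 1 := by
    rw [show y ^ 2 ^ 2 = (y * y) * (y * y) by
      rw [show (2 : ℕ) ^ 2 = 4 from rfl]
      simp only [pow_succ, pow_zero, one_mul, mul_assoc], hyy, hx22]
  have hnorm : Subgroup.zpowers y ≤ Subgroup.normalizer (img St S : Set G) := by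
    refine Subgroup.zpowers_le.2 (Subgroup.mem_normalizer_fintype ?_)
    rintro _ ⟨a, ha, ha', rfl⟩
    rw [hy.2 a ha']
    exact jf_mem_img St (mem_S_of_mem_L0 (mul_mem (mul_mem hP (S_le_P ha)) (inv_mem hP))
      (conj_mem_L0 hy.1 ha')) (conj_mem_L0 hy.1 ha')
  have hT : IsPGroup 2 (Subgroup.zpowers y ⊔ img St S : Subgroup G) :=
    (StdDoubleRu.isPGroup_zpowers hy4).to_sup_of_normal_right'
      (isPGroup_img St (P_two.to_le S_le_P)) hnorm
  set T' : Subgroup G := Subgroup.zpowers y ⊔ img St S with hT'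
  let W : Subgroup ↥(Subgroup.centralizer (L : Set G)) :=
    { carrier := {c | ∃ a ∈ L0, g' * (jf a * (c : G)) * g'⁻¹ ∈ T'}
      one_mem' := ⟨1, one_mem _, by simp [St.map_one]⟩
      mul_mem' := by
        rintro c c' ⟨a, ha, h1⟩ ⟨a', ha', h2⟩
        refine ⟨a * a', mul_mem ha ha', ?_⟩
        have h3 := mul_mem h1 h2
        rwa [show g' * (jf (a * a') * ((c * c' : ↥(Subgroup.centralizer (L : Set G))) : G)) * g'⁻¹ =
            g' * (jf a * c) * g'⁻¹ * (g' * (jf a' * c') * g'⁻¹) from ?_]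
        rw [Subgroup.coe_mul, St.mul _ ha _ ha',
          show jf a * jf a' * ((c : G) * c') = jf a * (jf a' * c) * c' by group,
          St.mem_C.1 c.2 _ ha']
        group
      inv_mem' := by
        rintro c ⟨a, ha, h1⟩
        refine ⟨a⁻¹, inv_mem ha, ?_⟩
        rw [St.map_inv ha, Subgroup.coe_inv, ← mul_inv_rev, ← St.mem_C.1 c.2 _ ha,
          show g' * (jf a * (c : G))⁻¹ * g'⁻¹ = (g' * (jf a * c) * g'⁻¹)⁻¹ by group]
        exact inv_mem h1 }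
  have hW : IsPGroup 2 W := by
    rintro ⟨c, a, ha, h1⟩
    obtain ⟨k, hk⟩ := hT ⟨_, h1⟩
    have hk' : (g' * (jf a * (c : G)) * g'⁻¹) ^ 2 ^ k = 1 := congrArg Subtype.val hk
    rw [conj_pow, conj_eq_one_iff] at hk'
    obtain ⟨c', hc', e', hc'k⟩ := St.inner_two (g := jf a * (c : G))
      (by simpa using (St.act_jf ha).mul (St.act_C c.2)) ha hk'
    refine ⟨k + 1, Subtype.ext (Subtype.ext ?_)⟩
    show ((c : G)) ^ 2 ^ (k + 1) = 1
    rw [show (c : G) = c' from mul_left_cancel e', hc'k]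
  obtain ⟨Q, hWQ⟩ := hW.exists_le_sylow
  have hdW : (⟨d, hd⟩ : ↥(Subgroup.centralizer (L : Set G))) ∈ W := ⟨1, one_mem _, by
    show g' * (jf 1 * d) * g'⁻¹ ∈ T'
    rw [St.map_one, one_mul]
    exact Subgroup.mem_sup_left (Subgroup.mem_zpowers y)⟩
  have hceW : (⟨ce, hce⟩ : ↥(Subgroup.centralizer (L : Set G))) ∈ W := ⟨le, hle, by
    show g' * (jf le * ce) * g'⁻¹ ∈ T'
    rw [← hee, show g' * (g'⁻¹ * jf e * g') * g'⁻¹ = jf e by group]
    exact Subgroup.mem_sup_right (jf_mem_img St heS (S_le_L0 heS))⟩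
  have hdc : d * ce = ce * d := St.comm_of_mem_sylow Q (hWQ hdW) (hWQ hceW)
  have hye : y * jf e = jf e * y := by
    have h1 : d * (jf le * ce) = jf le * ce * d := by
      rw [← mul_assoc, ← St.mem_C.1 hd _ hle, mul_assoc, hdc, mul_assoc]
    rw [← hee] at h1
    calc y * jf e = g' * (d * (g'⁻¹ * jf e * g')) * g'⁻¹ := by rw [hydef]; group
      _ = g' * (g'⁻¹ * jf e * g' * d) * g'⁻¹ := by rw [h1]
      _ = _ := by rw [hydef]; group
  refine hen ?_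
  have h1 := hy.2 e (S_le_L0 heS)
  rw [hye, mul_inv_cancel_right] at h1
  exact (eq_mul_inv_iff_mul_eq.1 (St.inj _ (S_le_L0 heS) _ (conj_mem_L0 hy.1 (S_le_L0 heS)) h1))

theorem outer_conj (St : Setup L jf) {c₀ : G} (hc₀ : c₀ ∈ Subgroup.centralizer (L : Set G))
    (hc₀2 : c₀ * c₀ = jf zU) {g : G} {η : U} (h : Act jf (g * jf zU * g⁻¹) η) (hη : η ∉ L0) :
    ∃ k : G, jf zU * (g * jf zU * g⁻¹) = k * jf zU * k⁻¹ := by
  haveI : Fact (Nat.Prime 2) := ⟨Nat.prime_two⟩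
  set x := g * jf zU * g⁻¹ with hx
  have hx2 : x * x = 1 := by rw [hx, StdDoubleRu.conj_sq_eq, St.z_sq, mul_one, mul_inv_cancel]
  have hn : x ∈ Subgroup.normalizer ((Subgroup.centralizer (L : Set G) : Subgroup G) : Set G) := by
    rw [← St.std.2.2.2]
    exact StdDoubleRu.centralizer_le St.std St.orderOf_z St.z_mem_C
      (Subgroup.mem_centralizer_singleton_iff.2 (St.act_z h))
  let ψ : MulAut ↥(Subgroup.centralizer (L : Set G)) :=
    { toFun := fun c => ⟨x * c * x⁻¹, (Subgroup.mem_normalizer_iff.1 hn _).1 c.2⟩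
      invFun := fun c => ⟨x⁻¹ * c * x, (Subgroup.mem_normalizer_iff.1 hn _).2 (by
        simpa [mul_assoc] using c.2)⟩
      left_inv := fun c => Subtype.ext (by simp only; group)
      right_inv := fun c => Subtype.ext (by simp only; group)
      map_mul' := fun c c' => Subtype.ext (by simp only [Subgroup.coe_mul]; group) }
  have hψ : ψ ^ 2 ^ 1 = 1 := by
    refine MulEquiv.ext fun c => Subtype.ext ?_
    rw [pow_one, sq]
    show x * (x * (c : G) * x⁻¹) * x⁻¹ = (c : G)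
    rw [show x * (x * (c : G) * x⁻¹) * x⁻¹ = (x * x) * c * (x * x)⁻¹ by group, hx2]
    group
  obtain ⟨Q, hQ⟩ := (StdDoubleRu.isPGroup_zpowers hψ).nonempty_fixed_point_of_prime_not_dvd_card
    (Sylow 2 ↥(Subgroup.centralizer (L : Set G))) (not_dvd_card_sylow 2 _)
  have hQψ : ψ • Q = Q := hQ ⟨ψ, Subgroup.mem_zpowers ψ⟩
  obtain ⟨d, hdQ, hd2⟩ := St.root_in_sylow hc₀ hc₀2 Q
  have heQ : ψ d ∈ (Q : Subgroup ↥(Subgroup.centralizer (L : Set G))) := by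
    rw [← hQψ]; exact Subgroup.smul_mem_pointwise_smul d ψ _ hdQ
  have he2 : (ψ d : G) * ψ d = jf zU := by
    show x * (d : G) * x⁻¹ * (x * d * x⁻¹) = _
    rw [StdDoubleRu.conj_sq_eq, hd2, St.act_z h, mul_inv_cancel_right]
  have hcom := St.comm_of_mem_sylow Q hdQ heQ
  have hcases : ((ψ d : G))⁻¹ * d = 1 ∨ ((ψ d : G))⁻¹ * d = jf zU := by
    refine St.invol_C (mul_mem (inv_mem (ψ d).2) d.2) ?_
    rw [show ((ψ d : G))⁻¹ * d * ((ψ d : G)⁻¹ * d) = (ψ d : G)⁻¹ * (d * (ψ d : G)⁻¹) * d by group,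
      ← eq_mul_inv_iff_mul_eq.2 (show (ψ d : G)⁻¹ * d * ψ d = d by rw [mul_assoc, hcom]; group),
      show (ψ d : G)⁻¹ * ((ψ d : G)⁻¹ * d) * d = (((ψ d : G)) * ψ d)⁻¹ * ((d : G) * d) by group,
      he2, hd2, inv_mul_cancel]
  rcases hcases with e | e
  · exfalso
    have hdx : (d : G) * x = x * d := by
      have : x * (d : G) * x⁻¹ = d := inv_mul_eq_one.1 e
      calc (d : G) * x = x * d * x⁻¹ * x := by rw [this]
        _ = x * d := inv_mul_cancel_right _ _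
    have hdz : g⁻¹ * d * g * jf zU = jf zU * (g⁻¹ * d * g) := by
      calc g⁻¹ * (d : G) * g * jf zU = g⁻¹ * ((d : G) * x) * g := by rw [hx]; group
        _ = g⁻¹ * (x * d) * g := by rw [hdx]
        _ = _ := by rw [hx]; group
    obtain ⟨η', hη'⟩ := St.act_exists hdz
    have hu : Act jf (g⁻¹ * jf zU * g) (η' * η') := by
      have h2 := hη'.mul hη'
      rwa [show g⁻¹ * (d : G) * g * (g⁻¹ * d * g) = g⁻¹ * (d * d) * g by group, hd2] at h2
    obtain ⟨l, hl, hxl⟩ := St.inner_symm hc₀ hc₀2 (g := g⁻¹) (by rwa [inv_inv]) (sq_mem_L0 hη'.1)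
    rw [inv_inv] at hxl
    exact hη ((St.par_iff h hxl).2 hl)
  · refine ⟨d * g, ?_⟩
    have hd' : (d : G) = x * d * x⁻¹ * jf zU := inv_mul_eq_iff_eq_mul.1 e
    have hxd : x * (d : G) = d * jf zU * x := by
      calc x * (d : G) = x * d * x⁻¹ * (jf zU * jf zU) * x := by rw [St.z_sq]; group
        _ = (x * d * x⁻¹ * jf zU) * jf zU * x := by group
        _ = d * jf zU * x := by rw [← hd']
    have hdz : (d : G) * jf zU = jf zU * d := (St.mem_C.1 d.2 _ zU_mem).symm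
    have hzx : x * jf zU = jf zU * x := St.act_z h
    calc jf zU * x = x * jf zU := hzx.symm
      _ = (x * d) * (d : G)⁻¹ * jf zU := by group
      _ = d * jf zU * x * (d : G)⁻¹ * jf zU := by rw [hxd]
      _ = d * (jf zU * x) * ((d : G)⁻¹ * jf zU) := by group
      _ = d * (x * jf zU) * (jf zU * (d : G)⁻¹) := by
          rw [hzx, (show Commute (d : G) (jf zU) from hdz).inv_left.eq]
      _ = d * x * (jf zU * jf zU) * (d : G)⁻¹ := by group
      _ = (d * g) * jf zU * (d * g)⁻¹ := by rw [St.z_sq, hx]; group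

/-- The central involution is isolated if the centraliser has an element of order four. -/
theorem isolated_one (St : Setup L jf) {c₀ : G} (hc₀ : c₀ ∈ Subgroup.centralizer (L : Set G))
    (hc₀2 : c₀ * c₀ = jf zU) {g : G}
    (hg : g * jf zU * g⁻¹ * jf zU = jf zU * (g * jf zU * g⁻¹)) : g * jf zU * g⁻¹ = jf zU := by
  by_contra hne
  obtain ⟨η₀, hη₀⟩ := St.act_exists hg
  by_cases hin : η₀ ∈ L0
  · exact hne (St.inner_eq hc₀ hc₀2 hη₀ hin)
  set x₀ := g * jf zU * g⁻¹ with hx₀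
  have hx₀2 : x₀ * x₀ = 1 := by rw [hx₀, StdDoubleRu.conj_sq_eq, St.z_sq, mul_one, mul_inv_cancel]
  have hη2 : η₀ * η₀ = 1 :=
    (St.act_trivial (hη₀.mul hη₀) (hx₀2 ▸ Act.one)).resolve_right (sq_ne_zU hη₀.1 hin)
  obtain ⟨l₁, hl₁, v, hv, hlv⟩ := exists_conj_A hη₀.1 hη2
  set g₁ := jf l₁ * g with hg₁
  set x₁ := g₁ * jf zU * g₁⁻¹ with hx₁
  have hact₁ : Act jf x₁ (aU v) := by
    have h' := ((St.act_jf hl₁).mul hη₀).mul (St.act_jf hl₁).inv
    rw [hlv] at h'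
    rwa [show x₁ = jf l₁ * x₀ * (jf l₁)⁻¹ by rw [hx₁, hx₀, hg₁]; group]
  have hvout : aU v ∉ L0 := fun hm =>
    hin ((conj_mem_L0_iff (L0_le_Xg hl₁) hη₀.1).1 (hlv ▸ hm))
  obtain ⟨l, hl, htr⟩ := exists_translation
  obtain ⟨w, hw, hw0, hw255, hwd, hwe⟩ := htr v hv (Bool.eq_false_iff.2 fun hd =>
    hvout ((aU_mem_L0 hv).2 hd))
  have hwL : aU w ∈ L0 := (aU_mem_L0 hw).2 hwd
  set x' := jf l * x₁ * (jf l)⁻¹ with hx'
  have hx'e : x' = jf (aU w) * x₁ := by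
    have e := hact₁.2 l⁻¹ (inv_mem hl)
    calc x' = jf l * (x₁ * jf l⁻¹ * x₁⁻¹) * x₁ := by rw [hx', St.map_inv hl]; group
      _ = jf (l * (aU v * l⁻¹ * (aU v)⁻¹)) * x₁ := by
          rw [e, ← St.mul _ hl _ (conj_mem_L0 (aU_mem_Xg v) (inv_mem hl))]
      _ = jf (aU w) * x₁ := by
          rw [inv_eq_of_mul_eq_one_left (aU_sq hv), ← hwe,
            show l * (aU v * l⁻¹ * aU v) = l * aU v * l⁻¹ * aU v by simp only [mul_assoc]]
  have hwx : x₁ * jf (aU w) = jf (aU w) * x₁ := by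
    have e := hact₁.2 _ hwL
    rw [aU_comm hv hw, mul_inv_cancel_right] at e
    exact mul_inv_eq_iff_eq_mul.1 e
  have hxx' : x' * x₁ = x₁ * x' := by rw [hx'e, ← mul_assoc x₁, hwx]
  have hu₁ : g₁⁻¹ * jf zU * g₁ * jf zU = jf zU * (g₁⁻¹ * jf zU * g₁) := by
    have hc : x₁ * jf zU = jf zU * x₁ := St.act_z hact₁
    calc g₁⁻¹ * jf zU * g₁ * jf zU = g₁⁻¹ * (jf zU * x₁) * g₁ := by rw [hx₁]; group
      _ = g₁⁻¹ * (x₁ * jf zU) * g₁ := by rw [hc]
      _ = _ := by rw [hx₁]; group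
  obtain ⟨yu, hyu⟩ := St.act_exists hu₁
  have hu_out : yu ∉ L0 := fun hm => by
    obtain ⟨la, hla, hA'⟩ := St.inner_symm hc₀ hc₀2 (g := g₁⁻¹) (by rwa [inv_inv]) hm
    rw [inv_inv] at hA'
    exact hvout ((St.par_iff hact₁ hA').2 hla)
  set h := g₁⁻¹ * jf l * g₁ with hh
  have hu' : h * jf zU * h⁻¹ = g₁⁻¹ * x' * g₁ := by rw [hh, hx', hx₁]; group
  have hu'c : h * jf zU * h⁻¹ * jf zU = jf zU * (h * jf zU * h⁻¹) := by
    rw [hu']
    calc g₁⁻¹ * x' * g₁ * jf zU = g₁⁻¹ * (x' * x₁) * g₁ := by rw [hx₁]; group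
      _ = g₁⁻¹ * (x₁ * x') * g₁ := by rw [hxx']
      _ = _ := by rw [hx₁]; group
  obtain ⟨yu', hyu'⟩ := St.act_exists hu'c
  have hzx : jf zU * x₁ = x₁ * jf zU := (St.act_z hact₁).symm
  by_cases hin' : yu' ∈ L0
  · have e := St.inner_eq hc₀ hc₀2 hyu' hin'
    rw [hu'] at e
    have e' : x' = x₁ := by
      calc x' = g₁ * (g₁⁻¹ * x' * g₁) * g₁⁻¹ := by group
        _ = x₁ := by rw [e]
    rw [hx'e] at e'
    exact hw0 (aU_eq_one hw (St.inj _ hwL _ (one_mem _)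
      ((mul_eq_right.1 e').trans St.map_one.symm)))
  · have hx'act : Act jf (jf l * g₁ * jf zU * (jf l * g₁)⁻¹) (aU w * aU v) := by
      rw [show jf l * g₁ * jf zU * (jf l * g₁)⁻¹ = jf (aU w) * x₁ from by
        rw [← hx'e, hx', hx₁]; group]
      exact (St.act_jf hwL).mul hact₁
    obtain ⟨k, hk⟩ := St.outer_conj hc₀ hc₀2 hx'act
      (fun hm => hvout ((Subgroup.mul_mem_cancel_left _ hwL).1 hm))
    rw [show jf l * g₁ * jf zU * (jf l * g₁)⁻¹ = x' by rw [hx', hx₁]; group] at hk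
    have hzx' : x' * jf zU = jf zU * x' := by
      rw [hx'e, mul_assoc, ← hzx, ← mul_assoc, St.z_comm_L (St.mem _ hwL), mul_assoc]
    have hq : (g₁⁻¹ * k) * jf zU * (g₁⁻¹ * k)⁻¹ = (h * jf zU * h⁻¹) * (g₁⁻¹ * jf zU * g₁) := by
      rw [hu', show (g₁⁻¹ * k) * jf zU * (g₁⁻¹ * k)⁻¹ = g₁⁻¹ * (k * jf zU * k⁻¹) * g₁ by group, ← hk,
        ← hzx']
      group
    have e := St.inner_eq hc₀ hc₀2 (g := g₁⁻¹ * k) (hq ▸ hyu'.mul hyu)
      ((L0_mul_iff hyu'.1 hyu.1).2 (iff_of_false hin' hu_out))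
    rw [hq, hu'] at e
    have e' : x' * jf zU = x₁ := by
      calc x' * jf zU = g₁ * (g₁⁻¹ * x' * g₁ * (g₁⁻¹ * jf zU * g₁)) * g₁⁻¹ := by group
        _ = x₁ := by rw [e]
    rw [hx'e, mul_assoc, ← hzx, ← mul_assoc, ← St.mul _ hwL _ zU_mem, mul_eq_right] at e'
    have e'' := St.inj _ (mul_mem hwL zU_mem) _ (one_mem _) (e'.trans St.map_one.symm)
    exact hw255 (aU_eq_zU hw ((eq_inv_of_mul_eq_one_left e'').trans
      (inv_eq_of_mul_eq_one_left zU_sq)))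

end Setup

end CfsgLib.StdDoubleO8
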