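import Cfsg.Agent.StdDoubleO8.Masks

/-!
The checks on the table of the block preserving permutations.
-/

set_option autoImplicit false
set_option Elab.async false
set_option maxRecDepth 100000
set_option maxHeartbeats 0

namespace CfsgLib.StdDoubleO8

/-- The groups of a domain. -/
def groupsOf (e : Bool) : List ((List ℕ × Bool × List ℕ) × List ℕ) :=
  bif e then groupsEven else groupsFull

/-- The permutations of a domain. -/
def permsIn (e : Bool) : List ℕ := permsOf (groupsOf e)

/-- The tests of a domain. -/
def testsOf (e : Bool) : List (ℕ × ℕ) := bif e then testsEven else testsFull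

/-- The exponent of a power of two. -/
def lg (b : ℕ) : ℕ := ((List.range 8).find? fun i => Nat.beq (2 ^ i) b).getD 0

/-- The code of a permutation read off from the images of a few even masks. -/
def decode (F : ℕ → ℕ) : ℕ :=
  let b := F 3 &&& F 5
  codeOf fun i => lg (bif Nat.beq i 0 then b else F (1 + 2 ^ i) ^^^ b)

/-- A member of a set of classes. -/
def sel (s v : ℕ) : Bool := s.testBit (cls v)

/-- A member of the union of classes with the point `255`. -/
def inO (s v : ℕ) : Bool := Nat.beq v 255 || sel s v

/-- The sum of a histogram over selected classes. -/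
def sumSel (s : ℕ) (h : List ℕ) : ℕ :=
  ((List.range 8).map fun c => bif s.testBit c then h.getD c 0 else 0).sum

/-- The number of fixed points in the union. -/
def kOf (s : ℕ) (key : List ℕ × Bool × List ℕ) : ℕ := 1 + sumSel s key.1

/-- The number of fixed points in the union lying in the image of `p - 1`. -/
def imOf (s : ℕ) (key : List ℕ × Bool × List ℕ) : ℕ :=
  (bif key.2.1 then 1 else 0) + sumSel s key.2.2

/-- The sum over all permutations of a function of the profile. -/
def sumG (e : Bool) (f : List ℕ × Bool × List ℕ → ℕ) : ℕ :=
  ((groupsOf e).map fun g => f g.1 * g.2.length).sum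

/-- The partners of a mask in the union. -/
def lam (e : Bool) (s u : ℕ) : ℕ := (dom e).countP fun v => inO s v && inO s (u ^^^ v)

/-- A test which fails for the union of classes. -/
def testOK (e : Bool) (s : ℕ) : Bool :=
  let t := (testsOf e).getD (s - 1) (0, 0)
  match t.1 with
  | 1 => !Nat.beq ((dom e).countP (inO s) * sumG e (fun key => bif Nat.beq (kOf s key) t.2 then 1 else 0) % t.2) 0
  | 2 => !Nat.beq (sumG e fun key => bif key.2.1 then kOf s key else 0) (sumG e (imOf s))
  | 3 => Nat.blt t.2 256 && inDom e t.2 && inO s t.2 && !Nat.beq (lam e s t.2) (lam e s 255)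
  | _ => false

/-- All tests. -/
def testsAll (e : Bool) : Bool :=
  (List.range 256).all fun s => Nat.beq s 0 || (e && !Nat.beq (s % 16) 0) || testOK e s

/-- The profiles of the groups. -/
def profilesOK (e : Bool) : Bool :=
  (groupsOf e).all fun g => g.2.all fun p => decide (profileC e p = g.1)

/-- The permutations fix `255` and are determined by their values on the even masks. -/
def permsOK (e : Bool) : Bool :=
  (permsIn e).all fun p => Nat.beq (pim p 255) 255 && Nat.beq (decode (pim p)) p &&
    Nat.beq (cand (pd p 0) (pd p 1) (pd p 2) (pd p 4)) p

/-- The candidates are in the table. -/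
def candsOK (e : Bool) : Bool :=
  let M := bitsOf ((permsIn e).map keyP)
  (List.range 8).all fun a => (List.range 8).all fun b => (List.range 8).all fun c =>
    (List.range 8).all fun d =>
      !Nat.beq (pim (cand a b c d) 255) 255 || M.testBit (a + 8 * b + 64 * c + 512 * d)

/-- The representatives of the classes. -/
def classRep (c : ℕ) : ℕ := [1, 127, 7, 31, 3, 63, 15, 23].getD c 0

/-- The classes are orbits. -/
def classesOK (e : Bool) : Bool :=
  (dom e).all fun v => bif Nat.beq (cls v) 8 then Nat.beq v 0 || Nat.beq v 255 else
    Nat.blt (cls v) 8 && inDom e (classRep (cls v)) &&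
      ((!e) || Nat.ble 4 (cls v)) &&
        (permsIn e).any fun p => Nat.beq (pim p (classRep (cls v))) v

theorem perms_true : ∀ e, permsOK e = true
  | false => by decide +kernel
  | true => by decide +kernel

theorem cands_true : ∀ e, candsOK e = true
  | false => by decide +kernel
  | true => by decide +kernel

theorem classes_true : ∀ e, classesOK e = true
  | false => by decide +kernel
  | true => by decide +kernel

theorem tests_true : ∀ e, testsAll e = true
  | false => by decide +kernel
  | true => by decide +kernel

theorem distinct_true : ∀ e, freshB (permsIn e) 0 = true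
  | false => by decide +kernel
  | true => by decide +kernel

end CfsgLib.StdDoubleO8
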