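import Cfsg.Agent.StdDoubleO8.Model
import Cfsg.Agent.StdDoubleO8.OrbitChecks
import Cfsg.Agent.StdDoubleO8.Data

/-!
The computations on the Sylow subgroup of the extension of the double cover.
-/

set_option autoImplicit false
set_option Elab.async false
set_option maxRecDepth 100000
set_option maxHeartbeats 0

namespace CfsgLib.StdDoubleO8

open CfsgLib.OPlusEightTwo

/-- The product of codes with its literal constants in place. -/
def mulF (a b : ℕ) : ℕ :=
  Nat.land
    (Nat.add (Nat.add (Nat.add (Nat.add (Nat.add (Nat.add (Nat.add
      (Nat.mul (Nat.land a 0xFF00000000000000FF00000000000000FF00000000000000FF00000000000000FF00000000000000FF00000000000000FF00000000000000FF) (Nat.land b 0xFFFFFFFFFFFFFFFF))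
      (Nat.mul (Nat.land (Nat.shiftRight a 8) 0xFF00000000000000FF00000000000000FF00000000000000FF00000000000000FF00000000000000FF00000000000000FF00000000000000FF)
        (Nat.land (Nat.shiftRight b 64) 0xFFFFFFFFFFFFFFFF)))
      (Nat.mul (Nat.land (Nat.shiftRight a 16) 0xFF00000000000000FF00000000000000FF00000000000000FF00000000000000FF00000000000000FF00000000000000FF00000000000000FF)
        (Nat.land (Nat.shiftRight b 128) 0xFFFFFFFFFFFFFFFF)))
      (Nat.mul (Nat.land (Nat.shiftRight a 24) 0xFF00000000000000FF00000000000000FF00000000000000FF00000000000000FF00000000000000FF00000000000000FF00000000000000FF)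
        (Nat.land (Nat.shiftRight b 192) 0xFFFFFFFFFFFFFFFF)))
      (Nat.mul (Nat.land (Nat.shiftRight a 32) 0xFF00000000000000FF00000000000000FF00000000000000FF00000000000000FF00000000000000FF00000000000000FF00000000000000FF)
        (Nat.land (Nat.shiftRight b 256) 0xFFFFFFFFFFFFFFFF)))
      (Nat.mul (Nat.land (Nat.shiftRight a 40) 0xFF00000000000000FF00000000000000FF00000000000000FF00000000000000FF00000000000000FF00000000000000FF00000000000000FF)
        (Nat.land (Nat.shiftRight b 320) 0xFFFFFFFFFFFFFFFF)))
      (Nat.mul (Nat.land (Nat.shiftRight a 48) 0xFF00000000000000FF00000000000000FF00000000000000FF00000000000000FF00000000000000FF00000000000000FF00000000000000FF)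
        (Nat.land (Nat.shiftRight b 384) 0xFFFFFFFFFFFFFFFF)))
      (Nat.mul (Nat.land (Nat.shiftRight a 56) 0xFF00000000000000FF00000000000000FF00000000000000FF00000000000000FF00000000000000FF00000000000000FF00000000000000FF)
        (Nat.land (Nat.shiftRight b 448) 0xFFFFFFFFFFFFFFFF)))
    0x03030303030303030303030303030303030303030303030303030303030303030303030303030303030303030303030303030303030303030303030303030303

theorem mulF_eq (a b : ℕ) : mulF a b = mulC a b := rfl

/-- Evaluate a number before continuing. -/
noncomputable def force {α : Type} (n : ℕ) (f : ℕ → α) : α :=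
  Nat.rec (f 0) (fun k _ => f (k + 1)) n

theorem force_eq {α : Type} (n : ℕ) (f : ℕ → α) : force n f = f n := by
  cases n <;> rfl

/-- Left multiples of a list. -/
noncomputable def mapF (g : ℕ) : List ℕ → List ℕ
  | [] => []
  | c :: L => force (mulF g c) fun d => d :: mapF g L

theorem mapF_eq (g : ℕ) : ∀ L : List ℕ, mapF g L = L.map (mulC g)
  | [] => rfl
  | c :: L => by rw [mapF, force_eq, mapF_eq g L, List.map_cons, mulF_eq]

/-- The table numbers of the generators inside the double cover. -/
def pcs : List ℕ := [0, 1, 2, 3, 8, 9, 10, 11, 12, 13, 14, 15, 16]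

/-- The code of a polycyclic generator of the Sylow subgroup. -/
def genC (i : ℕ) : ℕ := bif Nat.beq i 0 then rC else c1 (pcs.getD (i - 1) 22)

/-- The code of a word in the generators. -/
def wordC : List ℕ → ℕ
  | [] => oneC
  | a :: w => mulF (genC a) (wordC w)

/-- The elements of the last `k` generators. -/
noncomputable def listP : ℕ → List ℕ
  | 0 => [oneC]
  | k + 1 => listP k ++ force (genC (13 - k)) fun g => mapF g (listP k)

/-- The code of the central involution. -/
def cZ : ℕ := c1 16

/-- Commutation of codes. -/
def cm (a b : ℕ) : Bool := Nat.beq (mulF a b) (mulF b a)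

/-- The code squares to one. -/
def sq1 (a : ℕ) : Bool := Nat.beq (mulF a a) oneC

/-- Membership of a number in a list. -/
def memL (L : List ℕ) (a : ℕ) : Bool := L.any fun b => Nat.beq a b

theorem memL_iff {L : List ℕ} {a : ℕ} : memL L a = true ↔ a ∈ L := by
  simp only [memL, List.any_eq_true]
  exact ⟨fun ⟨b, hb, e⟩ => Nat.eq_of_beq_eq_true e ▸ hb, fun h => ⟨a, h, Nat.beq_refl a⟩⟩

/-- Equality of lists of numbers. -/
def eqL : List ℕ → List ℕ → Bool
  | [], [] => true
  | a :: L, b :: M => Nat.beq a b && eqL L M
  | _, _ => false

theorem eqL_sound : ∀ {L M : List ℕ}, eqL L M = true → L = M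
  | [], [], _ => rfl
  | a :: L, b :: M, h => by
    simp only [eqL, Bool.and_eq_true] at h
    rw [Nat.eq_of_beq_eq_true h.1, eqL_sound h.2]
  | [], _ :: _, h => by simp [eqL] at h
  | _ :: _, [], h => by simp [eqL] at h

/-- The polycyclic rules. -/
def rulesOK : Bool :=
  (List.range 14).all fun i => (List.range 14).all fun j => Nat.blt j i ||
    ((ruleData.getD (14 * i + j) []).all fun a => Nat.blt i a && Nat.blt a 14) &&
      bif Nat.beq i j then Nat.beq (mulF (genC i) (genC j)) (wordC (ruleData.getD (14 * i + j) []))
      else Nat.beq (mulF (genC i) (genC j))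
        (mulF (wordC (ruleData.getD (14 * i + j) [])) (genC i))

theorem rules_true : rulesOK = true := by decide +kernel

/-- No element outside the double cover squares to the central involution. -/
noncomputable def notSquareOK : Bool :=
  (mapF rC (listP 13)).all fun c => !Nat.beq (mulF c c) cZ

theorem notSquare_true : notSquareOK = true := by decide +kernel

/-- The code of an element of the frame. -/
def aC (v : ℕ) : ℕ := acData.getD v 0

/-- The frame is elementary abelian, and its elements are distinguished. -/
def frameOK : Bool :=
  Nat.beq (aC 0) oneC && Nat.beq (aC 255) cZ &&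
    ((List.range 8).all fun i => Nat.beq (aC (2 ^ i)) (wordC (frameWords.getD i [])) &&
      (match frameWords.getD i [] with
        | [] => false
        | a :: w => Nat.beq a 0 && w.all fun b => Nat.blt 0 b && Nat.blt b 14)) &&
    (List.range 256).all fun v => wf (aC v) && (!Nat.beq (aC v) oneC || Nat.beq v 0) &&
      (!Nat.beq (aC v) cZ || Nat.beq v 255) &&
      (List.range 8).all fun i => Nat.beq (mulF (aC v) (aC (2 ^ i))) (aC (v ^^^ 2 ^ i))

theorem frame_true : frameOK = true := by decide +kernel

/-- The even masks which span the even part of the frame. -/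
def evenBasis : List ℕ := [3, 5, 9, 17, 33, 65, 129]

/-- The centraliser of the even part of the frame in the Sylow subgroup is the frame. -/
noncomputable def centOK : Bool :=
  (listP 14).all fun c => !(evenBasis.all fun v => cm c (aC v)) || memL acData c

theorem cent_true : centOK = true := by decide +kernel

/-- The second subgroup commutes with no element outside the double cover. -/
noncomputable def b2OuterOK : Bool :=
  (mapF rC (listP 13)).all fun c => !(b2Data.all fun b => cm c b)

theorem b2Outer_true : b2OuterOK = true := by decide +kernel

/-- The second subgroup is normalised by the Sylow subgroup of the double cover, which centralises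
only the central involution in it. -/
def b2NormalOK : Bool :=
  ((List.range 13).all fun k => rowOK (genC (k + 1))) &&
    b2Data.all fun b => !((List.range 13).all fun k => cm (genC (k + 1)) b) ||
      Nat.beq b oneC || Nat.beq b cZ
where
  rowOK (g : ℕ) : Bool :=
    b2Data.all fun b => (b2Data.any fun b' => Nat.beq (mulF g b) (mulF b' g))

theorem b2Normal_true : b2NormalOK = true := by decide +kernel

/-- An entry of an element minus the identity. -/
def entryAt (c i j : ℕ) : ℕ := dig c (8 * i + j) + bif Nat.beq i j then 3 else 0

/-- A decomposition of rank two modulo two. -/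
def decOK (c d : ℕ) : Bool :=
  (List.range 8).all fun i => (List.range 8).all fun j =>
    Nat.beq (entryAt c i j % 2)
      (((bif (d % 256).testBit i && (d / 256 % 256).testBit j then 1 else 0) +
        (bif (d / 65536 % 256).testBit i && (d / 16777216 % 256).testBit j then 1 else 0)) % 2)

/-- A product of a column and a row. -/
def vecOK (c : ℕ) (d : ℕ × ℕ) : Bool :=
  (List.range 8).all fun i => (List.range 8).all fun j =>
    Nat.beq (entryAt c i j % 4) (d.1 / 4 ^ i % 4 * (d.2 / 4 ^ j % 4) % 4)

/-- The decompositions. -/
def ranksOK : Bool :=
  Nat.beq b2Dec.length b2Data.length &&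
    ((List.range 128).all fun k => wf (b2Data.getD k 0) &&
      decOK (b2Data.getD k 0) (b2Dec.getD k 0)) &&
    ((List.range 8).all fun i => vecOK (aC (2 ^ i)) (frameVecs.getD i (0, 0))) &&
    (List.range 4).all fun k => decOK (aC ([15, 51, 85, 150].getD k 0)) (blockDec.getD k 0)

theorem ranks_true : ranksOK = true := by decide +kernel

/-- A minor of size two is nonzero modulo four. -/
def minor2OK (c d : ℕ) : Bool :=
  !Nat.beq ((entryAt c (d % 8) (d / 64 % 8) * entryAt c (d / 8 % 8) (d / 512 % 8) +
    3 * (entryAt c (d % 8) (d / 512 % 8) * entryAt c (d / 8 % 8) (d / 64 % 8))) % 4) 0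

/-- A minor of size three is odd. -/
def minor3OK (c d : ℕ) : Bool :=
  let e := fun a b => entryAt c (d / 8 ^ a % 8) (d / 8 ^ (3 + b) % 8)
  Nat.beq ((e 0 0 * (e 1 1 * e 2 2) + e 0 1 * (e 1 2 * e 2 0) + e 0 2 * (e 1 0 * e 2 1) +
    e 0 2 * (e 1 1 * e 2 0) + e 0 1 * (e 1 0 * e 2 2) + e 0 0 * (e 1 2 * e 2 1)) % 2) 1

/-- Elements of the frame are told apart by their minors. -/
def minorsOK : Bool :=
  ((List.range 256).all fun v => Nat.beq v 0 || Nat.beq v 255 ||
    (List.range 8).any (fun i => Nat.beq v (2 ^ i)) || minor2OK (aC v) (minor2.getD v 0)) &&
    ((List.range 8).all fun a => (List.range 8).all fun b => (List.range 8).all fun c =>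
      (List.range 8).all fun d =>
        Nat.beq a b || Nat.beq a c || Nat.beq a d || Nat.beq b c || Nat.beq b d || Nat.beq c d ||
          Nat.beq (a ^^^ b ^^^ c ^^^ d) 0 ||
            minor3OK (aC (2 ^ a + 2 ^ b + 2 ^ c + 2 ^ d))
              (minor3.getD (2 ^ a + 2 ^ b + 2 ^ c + 2 ^ d) 0)) &&
    minor3OK (aC 23) (minor3.getD 23 0)

theorem minors_true : minorsOK = true := by decide +kernel

/-- The representative modulo the central involution. -/
noncomputable def canon (c : ℕ) : ℕ :=
  force (mulF c cZ) fun d => bif Nat.blt d c then d else c

/-- Every inner involution of the Sylow subgroup is represented. -/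
noncomputable def repsOK : Bool :=
  (invReps.all wf) &&
    (listP 13).all fun c => !sq1 c || Nat.beq c oneC || Nat.beq c cZ || memL invReps (canon c)

theorem reps_true : repsOK = true := by decide +kernel

/-- The even part of the frame as a list. -/
def a7List : List ℕ := ((List.range 256).filter (inDom true)).map aC

/-- The representatives lie in a list closed under the centre. -/
def inBoth (L els : List ℕ) : Bool := els.all fun e => memL L e && memL L (mulF e cZ)

/-- The search for large elementary subgroups. -/
noncomputable def search : ℕ → List ℕ → List ℕ → Bool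
  | 0, _, _ => false
  | fuel + 1, els, cands =>
    Nat.blt (els.length + cands.length) 64 ||
      match cands with
      | [] => inBoth a7List els || inBoth b2Data els
      | g :: rest =>
        search fuel els rest &&
          let new := mapC g els
          (!(new.all fun h => memL els h || memL (g :: rest) h) ||
            search fuel (els ++ new) (rest.filter fun e => !memL new e && cm g e))
where
  mapC (g : ℕ) : List ℕ → List ℕ
    | [] => []
    | e :: els => force (canon (mulF g e)) fun d => d :: mapC g els

/-- The whole search. -/
noncomputable def searchOK : Bool := search 400 [canon oneC] invReps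

theorem search_true : searchOK = true := by decide +kernel

/-- An entry of the fusion chains. -/
def chainAt (i : ℕ) : ℕ × ℕ := (chainRows.getD (i / 32) []).getD (i % 32) (0, 0)

/-- An entry of the table of permutations. -/
def permAt (k : ℕ) : ℕ × ℕ := (permRows.getD (k / 32) []).getD (k % 32) (0, 0)

/-- An entry of the fusion chains is justified. -/
def chainEntryOK (i : ℕ) (q : ℕ × ℕ) : Bool :=
  wf q.1 && bif Nat.beq (q.2 % 464) 463 then
    Nat.blt (q.2 / 464) 256 && Nat.beq q.1 (aC (q.2 / 464))
  else
    Nat.blt (q.2 / 464) i && Nat.blt (q.2 % 464) sys.len &&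
      Nat.beq (mulF (c1 (q.2 % 464)) q.1)
        (mulF (chainAt (q.2 / 464)).1 (c1 (q.2 % 464)))

/-- The chains, and their coverage of the involutions. -/
noncomputable def chainsOK : Bool :=
  ((List.range chainCount).all fun i => chainEntryOK i (chainAt i)) &&
    chainIdx.all (fun i => Nat.blt i chainCount) &&
    eqL ((listP 14).filter sq1) (chainIdx.map fun i => (chainAt i).1)

theorem chains_true : chainsOK = true := by decide +kernel

/-- A pair of witnesses for an element. -/
noncomputable def witOK (c a w : ℕ) : Bool :=
  force (witElts.getD (w % 64) oneC) fun s => force (witElts.getD (w / 64) oneC) fun t =>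
    cm s a && cm t a && !cm s c && !cm t c && !cm (mulF s t) c &&
      Nat.blt (w % 64) witElts.length && Nat.blt (w / 64) witElts.length

/-- The square has order two modulo the centre. -/
noncomputable def needWit (c : ℕ) : Bool :=
  force (mulF c c) fun a => !(Nat.beq a oneC || Nat.beq a cZ) &&
    force (mulF a a) fun b => Nat.beq b oneC || Nat.beq b cZ

/-- Match the elements with their witnesses. -/
noncomputable def witScan : List ℕ → List ℕ → Bool
  | [], _ => true
  | c :: L, W =>
    bif needWit c then
      (match W with
        | [] => false
        | w :: W' => witOK c (mulF c c) w && witScan L W')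
    else witScan L W

/-- All witnesses. -/
noncomputable def witnessOK : Bool :=
  witScan (listP 14) witData &&
    inList (listP 13)
where
  inList (L : List ℕ) : Bool := witElts.all fun s => memL L s

theorem witness_true : witnessOK = true := by decide +kernel

/-- The composition of coded permutations. -/
def compP (p q : ℕ) : ℕ := codeOf fun i => pd p (pd q i)

/-- A coded permutation determined by an affine frame. -/
def isCand (p : ℕ) : Bool := Nat.beq (cand (pd p 0) (pd p 1) (pd p 2) (pd p 4)) p

/-- The lifts of the permutations. -/
def permsLiftOK : Bool :=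
  (permGens.all fun g => Nat.blt g.1 sys.len && (List.range 8).all fun i =>
    Nat.beq (mulF (c1 g.1) (aC (2 ^ i))) (mulF (aC (2 ^ pd g.2 i)) (c1 g.1))) &&
  Nat.beq (permAt 0).1 (codeOf fun i => i) &&
  ((List.range permCount).all fun k => isCand (permAt k).1) &&
  (List.range permCount).all fun k => Nat.beq k 0 ||
    (Nat.blt ((permAt k).2 % 8) permGens.length &&
      Nat.blt ((permAt k).2 / 8) k &&
      Nat.beq (permAt k).1
        (compP (permGens.getD ((permAt k).2 % 8) (0, 0)).2
          (permAt ((permAt k).2 / 8)).1))

theorem permsLift_true : permsLiftOK = true := by decide +kernel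

/-- Every permutation of the tables has a lift. -/
def permsCovered (e : Bool) : Bool :=
  let M := bitsOf ((List.range permCount).map fun k => keyP (permAt k).1)
  (permsIn e).all fun p => M.testBit (keyP p)

theorem covered_true : ∀ e, permsCovered e = true
  | false => by decide +kernel
  | true => by decide +kernel

/-- A translation moves every odd mask. -/
def translationOK : Bool :=
  (List.range 256).all fun v => inDom true v ||
    (!Nat.beq (pim (permGens.getD 2 (0, 0)).2 v ^^^ v) 0 &&
      !Nat.beq (pim (permGens.getD 2 (0, 0)).2 v ^^^ v) 255 &&
      Nat.blt (pim (permGens.getD 2 (0, 0)).2 v) 256)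

theorem translation_true : translationOK = true := by decide +kernel

/-- The permutation generators are permutations. -/
def permInjOK : Bool :=
  permGens.all fun g => (List.range 8).all fun i => (List.range 8).all fun j =>
    Nat.beq i j || !Nat.beq (pd g.2 i) (pd g.2 j)

theorem permInj_true : permInjOK = true := by decide +kernel

/-- The central involution is minus one. -/
def negOK : Bool :=
  wf cZ && (List.range 8).all fun i => (List.range 8).all fun j =>
    Nat.beq (dig cZ (8 * i + j)) (bif Nat.beq i j then 3 else 0)

theorem neg_true : negOK = true := by decide +kernel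

end CfsgLib.StdDoubleO8
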