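import Mathlib.GroupTheory.Perm.Basic
import Mathlib.Algebra.Group.Subgroup.Finite
import Mathlib.Algebra.BigOperators.Group.Finset.Basic
import Mathlib.Data.Fintype.Perm
import Mathlib.Algebra.BigOperators.Ring.Finset
import Mathlib.Tactic.Group
import Mathlib.Tactic.Tauto

/-!
Three necessary conditions on the orbit of a point under a group of permutations preserving a
binary operation, in terms of the stabiliser of the point.
-/

set_option autoImplicit false

namespace CfsgLib.StdDoubleO8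

open Finset

variable {V : Type*} [Fintype V] [DecidableEq V] (op : V → V → V) (Γ : Subgroup (Equiv.Perm V))
  (z : V)

open Classical in
/-- The orbit of the point. -/
noncomputable def orb : Finset V := univ.filter fun v => ∃ g ∈ Γ, g z = v

open Classical in
/-- The stabiliser of the point. -/
noncomputable def stb (u : V) : Finset (Equiv.Perm V) := univ.filter fun g => g ∈ Γ ∧ g u = u

open Classical in
/-- The elements of the group. -/
noncomputable def els : Finset (Equiv.Perm V) := univ.filter fun g => g ∈ Γ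

/-- The fixed points in the orbit. -/
noncomputable def fixO (g : Equiv.Perm V) : Finset V := (orb Γ z).filter fun v => g v = v

/-- The image of `g - 1`. -/
def imG (g : Equiv.Perm V) : Finset V := univ.image fun a => op (g a) a

variable {op Γ z}

theorem mem_orb {v : V} : v ∈ orb Γ z ↔ ∃ g ∈ Γ, g z = v := by simp [orb]

theorem mem_stb {u : V} {g : Equiv.Perm V} : g ∈ stb Γ u ↔ g ∈ Γ ∧ g u = u := by simp [stb]

theorem mem_els {g : Equiv.Perm V} : g ∈ els Γ ↔ g ∈ Γ := by simp [els]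

theorem apply_mem_orb {v : V} {g : Equiv.Perm V} (hg : g ∈ Γ) : g v ∈ orb Γ z ↔ v ∈ orb Γ z := by
  rw [mem_orb, mem_orb]
  constructor
  · rintro ⟨k, hk, e⟩
    exact ⟨g⁻¹ * k, Γ.mul_mem (Γ.inv_mem hg) hk, by rw [Equiv.Perm.mul_apply, e]; simp⟩
  · rintro ⟨k, hk, e⟩
    exact ⟨g * k, Γ.mul_mem hg hk, by rw [Equiv.Perm.mul_apply, e]⟩

theorem card_fixO_conj {g h : Equiv.Perm V} (hh : h ∈ Γ) :
    (fixO Γ z (h * g * h⁻¹)).card = (fixO Γ z g).card := by
  have e : fixO Γ z (h * g * h⁻¹) = (fixO Γ z g).image h := by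
    ext v
    simp only [fixO, mem_filter, mem_image]
    constructor
    · rintro ⟨hv, e⟩
      refine ⟨h⁻¹ v, ⟨(apply_mem_orb (Γ.inv_mem hh)).2 hv, ?_⟩, by simp⟩
      have := congrArg (h⁻¹ : Equiv.Perm V) e
      simpa [Equiv.Perm.mul_apply] using this
    · rintro ⟨w, ⟨hw, e⟩, rfl⟩
      exact ⟨(apply_mem_orb hh).2 hw, by simp [Equiv.Perm.mul_apply, e]⟩
  rw [e, card_image_of_injective _ h.injective]

theorem imG_conj (lin : ∀ g ∈ Γ, ∀ a b, g (op a b) = op (g a) (g b)) {g h : Equiv.Perm V}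
    (hh : h ∈ Γ) : imG op (h * g * h⁻¹) = (imG op g).image h := by
  ext v
  simp only [imG, mem_image, mem_univ, true_and, Equiv.Perm.mul_apply]
  constructor
  · rintro ⟨a, rfl⟩
    exact ⟨op (g (h⁻¹ a)) (h⁻¹ a), ⟨h⁻¹ a, rfl⟩, by rw [lin h hh]; simp⟩
  · rintro ⟨_, ⟨a, rfl⟩, rfl⟩
    exact ⟨h a, by rw [lin h hh]; simp⟩

/-- Sums over stabilisers of points of the orbit agree. -/
theorem sum_stb (F : V → Equiv.Perm V → ℕ)
    (hF : ∀ h ∈ Γ, ∀ g u, F (h u) (h * g * h⁻¹) = F u g) {u : V} (hu : u ∈ orb Γ z) :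
    ∑ g ∈ stb Γ u, F u g = ∑ g ∈ stb Γ z, F z g := by
  obtain ⟨k, hk, rfl⟩ := mem_orb.1 hu
  refine (Finset.sum_bij' (fun g _ => k * g * k⁻¹) (fun g _ => k⁻¹ * g * k) ?_ ?_ ?_ ?_ ?_).symm
  · intro g hg
    obtain ⟨hg1, hg2⟩ := mem_stb.1 hg
    exact mem_stb.2 ⟨Γ.mul_mem (Γ.mul_mem hk hg1) (Γ.inv_mem hk), by simp [Equiv.Perm.mul_apply, hg2]⟩
  · intro g hg
    obtain ⟨hg1, hg2⟩ := mem_stb.1 hg
    exact mem_stb.2 ⟨Γ.mul_mem (Γ.mul_mem (Γ.inv_mem hk) hg1) hk, by simp [Equiv.Perm.mul_apply, hg2]⟩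
  · intro g _; group
  · intro g _; group
  · intro g _; exact (hF k hk g z).symm

/-- Reversing the order of summation over the orbit. -/
theorem sum_fix (F : V → Equiv.Perm V → ℕ) :
    ∑ g ∈ els Γ, ∑ u ∈ fixO Γ z g, F u g = ∑ u ∈ orb Γ z, ∑ g ∈ stb Γ u, F u g := by
  refine Finset.sum_comm' fun g u => ?_
  simp only [mem_els, fixO, mem_filter, mem_stb]
  tauto

/-- The number of elements of the stabiliser with a given number of fixed points. -/
theorem dvd_card_mul (k : ℕ) : k ∣ (orb Γ z).card *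
    ((stb Γ z).filter fun g => (fixO Γ z g).card = k).card := by
  classical
  let F : V → Equiv.Perm V → ℕ := fun _ g => if (fixO Γ z g).card = k then 1 else 0
  have h2 : ∀ u ∈ orb Γ z, ∑ g ∈ stb Γ u, F u g = ∑ g ∈ stb Γ z, F z g := fun u hu =>
    sum_stb F (fun h hh g u => by simp only [F, card_fixO_conj hh]) hu
  have e : ((stb Γ z).filter fun g => (fixO Γ z g).card = k).card = ∑ g ∈ stb Γ z, F z g := by
    rw [Finset.card_filter]
  rw [e, ← smul_eq_mul, ← Finset.sum_const, ← Finset.sum_congr rfl h2, ← sum_fix F]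
  refine Finset.dvd_sum fun g _ => ?_
  rw [Finset.sum_const, smul_eq_mul]
  by_cases hc : (fixO Γ z g).card = k
  · exact hc ▸ Dvd.intro _ rfl
  · simp [hc]

/-- Fixed points lying in the image of `g - 1` and the point itself lying there. -/
theorem sum_im (lin : ∀ g ∈ Γ, ∀ a b, g (op a b) = op (g a) (g b)) :
    ∑ g ∈ stb Γ z, (if z ∈ imG op g then (fixO Γ z g).card else 0) =
      ∑ g ∈ stb Γ z, ((fixO Γ z g).filter fun v => v ∈ imG op g).card := by
  classical
  let F₁ : V → Equiv.Perm V → ℕ := fun u g => if u ∈ imG op g then (fixO Γ z g).card else 0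
  let F₂ : V → Equiv.Perm V → ℕ := fun _ g => ((fixO Γ z g).filter fun v => v ∈ imG op g).card
  have h1 : ∀ h ∈ Γ, ∀ g u, F₁ (h u) (h * g * h⁻¹) = F₁ u g := fun h hh g u => by
    simp only [F₁, card_fixO_conj hh, imG_conj lin hh, h.injective.mem_finset_image]
  have h2 : ∀ h ∈ Γ, ∀ g u, F₂ (h u) (h * g * h⁻¹) = F₂ u g := fun h hh g u => by
    simp only [F₂]
    have e : (fixO Γ z (h * g * h⁻¹)).filter (fun v => v ∈ imG op (h * g * h⁻¹)) =
        ((fixO Γ z g).filter fun v => v ∈ imG op g).image h := by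
      ext v
      simp only [fixO, mem_filter, mem_image, imG_conj lin hh]
      constructor
      · rintro ⟨⟨hv, e⟩, w, hw, rfl⟩
        refine ⟨w, ⟨⟨(apply_mem_orb hh).1 hv, h.injective ?_⟩, hw⟩, rfl⟩
        simpa [Equiv.Perm.mul_apply] using e
      · rintro ⟨w, ⟨⟨hw, e⟩, hw'⟩, rfl⟩
        exact ⟨⟨(apply_mem_orb hh).2 hw, by simp [Equiv.Perm.mul_apply, e]⟩, w, hw', rfl⟩
    rw [e, card_image_of_injective _ h.injective]
  have e : ∀ g, ∑ u ∈ fixO Γ z g, F₁ u g = ∑ u ∈ fixO Γ z g, F₂ u g := fun g => by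
    simp only [F₁, F₂, Finset.sum_const, smul_eq_mul, ← Finset.sum_filter]
    rw [Nat.mul_comm]
  have key : (orb Γ z).card * ∑ g ∈ stb Γ z, F₁ z g =
      (orb Γ z).card * ∑ g ∈ stb Γ z, F₂ z g := by
    rw [← smul_eq_mul, ← smul_eq_mul, ← Finset.sum_const, ← Finset.sum_const,
      ← Finset.sum_congr rfl (fun u hu => sum_stb F₁ h1 hu),
      ← Finset.sum_congr rfl (fun u hu => sum_stb F₂ h2 hu), ← sum_fix F₁, ← sum_fix F₂]
    exact Finset.sum_congr rfl fun g _ => e g
  exact Nat.eq_of_mul_eq_mul_left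
    (Finset.card_pos.2 ⟨z, mem_orb.2 ⟨1, Γ.one_mem, rfl⟩⟩) key

/-- The number of partners of a point inside the orbit. -/
theorem card_partners (lin : ∀ g ∈ Γ, ∀ a b, g (op a b) = op (g a) (g b)) {u : V}
    (hu : u ∈ orb Γ z) : ((orb Γ z).filter fun v => op u v ∈ orb Γ z).card =
      ((orb Γ z).filter fun v => op z v ∈ orb Γ z).card := by
  obtain ⟨k, hk, rfl⟩ := mem_orb.1 hu
  have e : (orb Γ z).filter (fun v => op (k z) v ∈ orb Γ z) =
      ((orb Γ z).filter fun v => op z v ∈ orb Γ z).image k := by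
    ext v
    simp only [mem_filter, mem_image]
    constructor
    · rintro ⟨hv, h⟩
      refine ⟨k⁻¹ v, ⟨(apply_mem_orb (Γ.inv_mem hk)).2 hv, (apply_mem_orb hk).1 ?_⟩, by simp⟩
      rw [lin k hk]; simpa using h
    · rintro ⟨w, ⟨hw, h⟩, rfl⟩
      exact ⟨(apply_mem_orb hk).2 hw, by rw [← lin k hk]; exact (apply_mem_orb hk).2 h⟩
  rw [e, card_image_of_injective _ k.injective]

end CfsgLib.StdDoubleO8
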