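import Cfsg.Agent.OPlusEightTwo.Mult
import Cfsg.Agent.OutPOmega.TrialityOut
import Cfsg.Agent.SchurTheory.CoverUnique
import Mathlib.GroupTheory.GroupAction.Quotient
import Mathlib.Algebra.Group.Action.End

/-!
Automorphisms of the universal cover `E` of `Ω⁺₈(2)`: lifts, triality on the kernel, and the
stabiliser of a central involution.
-/

set_option autoImplicit false
set_option linter.style.haveILetI false
set_option maxRecDepth 20000

namespace CfsgLib.StdDoubleO8

open CfsgLib.OPlusEightTwo CfsgLib.Schur.Pc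
open scoped commutatorElement

universe u

/-- The simple group. -/
abbrev Om : Type := Cfsg.POmega (ZMod 2) OPlusEightTwo.Q

instance finite_Om : Finite Om := Finite.of_surjective _ toG_surjective

/-- Homomorphisms from a perfect group agreeing modulo the centre are equal. -/
theorem ext_hom {A H : Type*} [Group A] [Group H] (hA : commutator A = ⊤) (f g : A →* H)
    (h : ∀ a, (f a)⁻¹ * g a ∈ Subgroup.center H) : f = g := by
  have hd : ∀ a b : A, (f (a * b))⁻¹ * g (a * b) = (f a)⁻¹ * g a * ((f b)⁻¹ * g b) := by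
    intro a b
    have hc := Subgroup.mem_center_iff.1 (h a) (f b)⁻¹
    calc (f (a * b))⁻¹ * g (a * b) = (f b)⁻¹ * ((f a)⁻¹ * g a) * g b := by
          rw [map_mul, map_mul]; group
      _ = (f a)⁻¹ * g a * (f b)⁻¹ * g b := by rw [hc]
      _ = _ := by group
  let d : A →* Subgroup.center H :=
    MonoidHom.mk' (fun a => ⟨(f a)⁻¹ * g a, h a⟩) fun a b => Subtype.ext (hd a b)
  have hle : commutator A ≤ d.ker := by
    rw [commutator_def, Subgroup.commutator_le]
    intro x _ y _
    rw [MonoidHom.mem_ker, map_commutatorElement, commutatorElement_eq_one_iff_mul_comm]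
    exact Subtype.ext (Subgroup.mem_center_iff.1 (d y).2 (d x))
  refine MonoidHom.ext fun a => inv_mul_eq_one.1 ?_
  exact congrArg Subtype.val (hle (hA ▸ Subgroup.mem_top a) : d a = 1)

theorem center_Om : Subgroup.center Om = ⊥ := by
  rw [eq_bot_iff]
  intro q hq
  obtain ⟨g, rfl⟩ := QuotientGroup.mk_surjective q
  have hg : g ∈ Subgroup.center (Cfsg.Omega (ZMod 2) OPlusEightTwo.Q) := by
    rw [Subgroup.mem_center_iff]
    intro h
    have e := (QuotientGroup.eq (s := Subgroup.center _)).1
      (Subgroup.mem_center_iff.1 hq (QuotientGroup.mk h))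
    rw [center_omega, Subgroup.mem_bot, inv_mul_eq_one] at e
    exact e
  exact Subgroup.mem_bot.2 ((QuotientGroup.eq_one_iff g).2 hg)

theorem ker_toG_eq_center : toG.ker = Subgroup.center E := by
  refine le_antisymm ker_le_center fun g hg => ?_
  rw [MonoidHom.mem_ker, ← Subgroup.mem_bot, ← center_Om, Subgroup.mem_center_iff]
  intro q
  obtain ⟨h, rfl⟩ := toG_surjective q
  rw [← map_mul, Subgroup.mem_center_iff.1 hg h, map_mul]

theorem toG_stem : Cfsg.IsStemExtension toG :=
  ⟨toG_surjective, ker_le_center, fun z _ => cover_perfect ▸ Subgroup.mem_top z⟩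

/-- The kernel consists of four elements. -/
theorem ker_cases {g : E} (hg : g ∈ toG.ker) :
    g = 1 ∨ g = x 16 ∨ g = x 17 ∨ g = x 16 * x 17 := by
  classical
  have hnd := four_nodup
  set L : List E := ([[], [zAt 0], [zAt 1], [zAt 0, zAt 1]] : List (List ℕ)).map (ev x) with hL
  have hmem : ∀ w ∈ L, w ∈ toG.ker := by
    intro w hw
    simp only [hL, List.mem_map, List.mem_cons, List.not_mem_nil, or_false] at hw
    obtain ⟨u, hu, rfl⟩ := hw
    refine ev_mem _ fun a ha => ?_
    rcases hu with rfl | rfl | rfl | rfl <;>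
      simp only [List.mem_cons, List.not_mem_nil, or_false] at ha
    · exact ha ▸ (zAt_spec (by norm_num)).1
    · exact ha ▸ (zAt_spec (by norm_num)).1
    · rcases ha with rfl | rfl
      · exact (zAt_spec (by norm_num)).1
      · exact (zAt_spec (by norm_num)).1
  have hcard : Nat.card toG.ker = 4 := card_all.2
  have h : g ∈ L := by
    by_contra hgL
    have hnd' : (g :: L).Nodup := List.nodup_cons.2 ⟨hgL, hnd⟩
    have hle : Nat.card {w : E // w ∈ (g :: L).toFinset} ≤ Nat.card toG.ker :=
      Nat.card_le_card_of_injective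
        (fun w => (⟨w.1, by
          rcases List.mem_cons.1 (List.mem_toFinset.1 w.2) with h | h
          · rw [h]; exact hg
          · exact hmem _ h⟩ : toG.ker))
        fun a b e => Subtype.ext (congrArg (fun z : toG.ker => (z : E)) e)
    rw [hcard, Nat.card_eq_finsetCard, List.toFinset_card_of_nodup hnd'] at hle
    simp [hL] at hle
  simp only [hL, List.map_cons, List.map_nil, List.mem_cons, List.not_mem_nil, or_false,
    Schur.Pc.ev_cons, Schur.Pc.ev_nil, mul_one] at h
  exact h

theorem ker_distinct : x 16 ≠ 1 ∧ x 17 ≠ 1 ∧ x 16 ≠ x 17 ∧ x 16 * x 17 ≠ x 17 ∧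
    x 16 * x 17 ≠ x 16 := by
  have h := four_nodup
  simp only [List.map_cons, List.map_nil, List.nodup_cons, List.mem_cons, List.not_mem_nil,
    or_false, Schur.Pc.ev_cons, Schur.Pc.ev_nil, mul_one, not_or, List.nodup_nil, and_true] at h
  obtain ⟨⟨h1, h2, -⟩, ⟨h4, h5⟩, h6, -⟩ := h
  exact ⟨fun e => h1 e.symm, fun e => h2 e.symm, h4, fun e => h6 e.symm, fun e => h5 e.symm⟩

theorem ker_equiv : Nonempty (toG.ker ≃* SchurTheory.mult Om) := by
  obtain ⟨e⟩ := exists_ker_equiv
  obtain ⟨e'⟩ := SchurTheory.hasSchurMultiplier_iff.1 multiplier_two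
  exact ⟨e.trans e'⟩

theorem coprime_ab : (Nat.card (Abelianization Om)).Coprime (Nat.card (SchurTheory.mult Om)) := by
  haveI : Subsingleton (Abelianization Om) :=
    QuotientGroup.subsingleton_iff.2 (Group.isPerfect_def.mp pOmega_perfect)
  rw [Nat.card_of_subsingleton (1 : Abelianization Om)]
  exact Nat.coprime_one_left _

/-- Every automorphism of the simple group lifts to the cover. -/
theorem exists_lift_aut (φ : MulAut Om) : ∃ e : MulAut E, ∀ g, toG (e g) = φ (toG g) := by
  obtain ⟨k⟩ := ker_equiv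
  let σ₂ : E →* Om := φ.symm.toMonoidHom.comp toG
  have hker : σ₂.ker = toG.ker := by ext g; simp [σ₂]
  obtain ⟨e, he⟩ := SchurTheory.exists_iso_of_coprime coprime_ab toG σ₂ toG_stem
    ⟨φ.symm.surjective.comp toG_surjective, hker ▸ ker_le_center,
      fun z _ => cover_perfect ▸ Subgroup.mem_top z⟩ k ((MulEquiv.subgroupCongr hker).trans k)
  refine ⟨e, fun g => ?_⟩
  have h : φ.symm (toG (e g)) = toG g := DFunLike.congr_fun he g
  rw [← h, φ.apply_symm_apply]

/-- The automorphism induced on the simple group. -/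
theorem exists_descent (e : MulAut E) : ∃ φ : MulAut Om, ∀ g, toG (e g) = φ (toG g) := by
  have hk : ∀ g, toG g = 1 ↔ toG (e g) = 1 := by
    intro g
    rw [← MonoidHom.mem_ker, ← MonoidHom.mem_ker, ker_toG_eq_center]
    constructor
    · intro h
      exact Subgroup.mem_center_iff.2 fun a => e.symm.injective (by
        simp only [map_mul, MulEquiv.symm_apply_apply]; exact Subgroup.mem_center_iff.1 h _)
    · intro h
      exact Subgroup.mem_center_iff.2 fun a => e.injective (by
        simp only [map_mul]; exact Subgroup.mem_center_iff.1 h _)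
  let f : Om →* Om := toG.liftOfSurjective toG_surjective
    ⟨toG.comp e.toMonoidHom, fun g hg => (hk g).1 hg⟩
  have hf : ∀ g, f (toG g) = toG (e g) := fun g => MonoidHom.liftOfRightInverse_comp_apply _ _ _ _ g
  have hinj : Function.Injective f := by
    rw [injective_iff_map_eq_one]
    intro q hq
    obtain ⟨g, rfl⟩ := toG_surjective q
    rw [hf] at hq
    exact (hk g).2 hq
  have hsurj : Function.Surjective f := fun q => by
    obtain ⟨g, rfl⟩ := toG_surjective q
    exact ⟨toG (e.symm g), by rw [hf, e.apply_symm_apply]⟩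
  exact ⟨MulEquiv.ofBijective f ⟨hinj, hsurj⟩, fun g => (hf g).symm⟩

theorem card_mulAut_Om : Nat.card (MulAut Om) ≤ 6 * 174182400 := by
  obtain ⟨e⟩ := OutPOmega.out_eight_charTwo (F := ZMod 2) (f := 1) le_rfl (by simp)
  have hout : Nat.card (Cfsg.Out Om) = 6 := by
    rw [Nat.card_congr e.toEquiv, Nat.card_prod, Nat.card_perm, Nat.card_fin,
      Nat.card_congr (Multiplicative.toAdd : Multiplicative (ZMod 1) ≃ ZMod 1)]
    simp [Nat.factorial]
  have hinn : Nat.card (Cfsg.Inn Om) ≤ 174182400 := by
    rw [← card_pOmega]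
    exact Nat.card_le_card_of_surjective _ MulAut.conj.rangeRestrict_surjective
  rw [← Subgroup.index_mul_card (Cfsg.Inn Om)]
  exact Nat.mul_le_mul hout.le hinn

theorem card_mulAut_E : Nat.card (MulAut E) ≤ 6 * 174182400 := by
  choose φ hφ using exists_descent
  haveI : Finite (MulAut Om) :=
    Finite.of_injective (fun β : MulAut Om => (β : Om → Om)) DFunLike.coe_injective
  refine le_trans (Nat.card_le_card_of_injective φ fun e e' h => ?_) card_mulAut_Om
  have := ext_hom cover_perfect e.toMonoidHom e'.toMonoidHom fun g => by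
    rw [← ker_toG_eq_center, MonoidHom.mem_ker]
    simp [hφ, h]
  exact MulEquiv.ext fun g => DFunLike.congr_fun this g

/-- Triality on the eight generators. -/
def piTri (a : ℕ) : ℕ := [2, 1, 3, 0, 6, 5, 7, 4].getD a 0

/-- The root of a generator. -/
def rootOf (a : ℕ) : Fin 24 := [18, 14, 13, 12, 5, 9, 10, 11].getD a 0

/-- The generators are root elements. -/
def rootsOK : Bool :=
  (List.range 8).all fun a => (List.finRange 8).all fun c => (List.finRange 8).all fun d =>
    decide (((par a (8 * c.val + d.val) : ℕ) : ZMod 2) =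
      OutPOmega.rootFun (F := ZMod 2) (rootOf a) 1
        (fun i => if i = finSumFinEquiv.symm d then 1 else 0) (finSumFinEquiv.symm c))

theorem roots_ok : rootsOK = true := by decide +kernel

theorem root_perm : ∀ a < 8, piTri a < 8 ∧ rootOf (piTri a) = OutPOmega.triRoot (rootOf a) := by
  decide +kernel

/-- The checks on the two central words. -/
def triWordsOK : Bool :=
  sys.weq [2, 3, 2, 3] [17] && sys.weq [0, 2, 0, 2] [16] && sys.weq [3, 0, 3, 0] [16, 17] &&
    sys.weq [0, 3, 0, 3] [16, 17] && sys.weq [3, 2, 3, 2] [17]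

theorem tri_words : triWordsOK = true := by decide +kernel

theorem words_spec : x 2 * x 3 * x 2 * x 3 = x 17 ∧ x 0 * x 2 * x 0 * x 2 = x 16 ∧
    x 3 * x 0 * x 3 * x 0 = x 16 * x 17 ∧ x 0 * x 3 * x 0 * x 3 = x 16 * x 17 ∧
    x 3 * x 2 * x 3 * x 2 = x 17 := by
  have h := tri_words
  simp only [triWordsOK, Bool.and_eq_true] at h
  have conv : ∀ {u v : List ℕ}, sys.weq u v = true → ev x u = ev x v := fun h =>
    Sys.weq_sound sys_ok h
  refine ⟨?_, ?_, ?_, ?_, ?_⟩ <;>
    [have e := conv h.1.1.1.1; have e := conv h.1.1.1.2; have e := conv h.1.1.2; have e := conv h.1.2;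
      have e := conv h.2] <;>
    simpa [Schur.Pc.ev_cons, Schur.Pc.ev_nil, mul_assoc] using e

/-- A map which sends generators to generators up to centre sends a central word likewise. -/
theorem map_word (e : E →* E) {a b a' b' : ℕ} {c d : E} (ha : (x a')⁻¹ * e (x a) = c)
    (hb : (x b')⁻¹ * e (x b) = d) (hc : c ∈ toG.ker) (hd : d ∈ toG.ker) :
    e (x a * x b * x a * x b) = x a' * x b' * x a' * x b' := by
  have sq : ∀ {c : E}, c ∈ toG.ker → c * c = 1 := by
    intro c hc
    have h0 : x 16 ∈ toG.ker ∧ x 16 ∈ Subgroup.center E ∧ x 16 * x 16 = 1 :=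
      zAt_spec (i := 0) (by norm_num)
    have h1 : x 17 ∈ toG.ker ∧ x 17 ∈ Subgroup.center E ∧ x 17 * x 17 = 1 :=
      zAt_spec (i := 1) (by norm_num)
    rcases ker_cases hc with rfl | rfl | rfl | rfl
    · exact mul_one 1
    · exact h0.2.2
    · exact h1.2.2
    · have hcomm := Subgroup.mem_center_iff.1 h0.2.1 (x 17)
      calc x 16 * x 17 * (x 16 * x 17) = x 16 * (x 17 * x 16) * x 17 := by group
        _ = (x 16 * x 16) * (x 17 * x 17) := by rw [hcomm]; group
        _ = 1 := by rw [show x 16 * x 16 = 1 from h0.2.2, show x 17 * x 17 = 1 from h1.2.2, mul_one]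
  have ha' : e (x a) = x a' * c := by rw [← ha]; group
  have hb' : e (x b) = x b' * d := by rw [← hb]; group
  have hcc := Subgroup.mem_center_iff.1 (ker_le_center hc)
  have hdd := Subgroup.mem_center_iff.1 (ker_le_center hd)
  have hcd : x a' * c * (x b' * d) = x a' * x b' * (c * d) := by
    calc x a' * c * (x b' * d) = x a' * (c * x b') * d := by group
      _ = _ := by rw [← hcc (x b')]; group
  have hz : c * d ∈ toG.ker := mul_mem hc hd
  have hzz := Subgroup.mem_center_iff.1 (ker_le_center hz)
  calc e (x a * x b * x a * x b) = x a' * c * (x b' * d) * (x a' * c * (x b' * d)) := by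
        rw [map_mul, map_mul, map_mul, ha', hb']; group
    _ = x a' * x b' * ((c * d) * (x a' * x b')) * (c * d) := by rw [hcd]; group
    _ = x a' * x b' * x a' * x b' * ((c * d) * (c * d)) := by rw [← hzz (x a' * x b')]; group
    _ = _ := by rw [sq hz, mul_one]

/-- The lift of triality moves the central involutions cyclically. -/
theorem exists_tri : ∃ e : MulAut E, e (x 17) = x 16 * x 17 ∧ e (x 16) = x 17 := by
  obtain ⟨R, τ, hR, -, hτ⟩ := OutPOmega.exists_root_data (F := ZMod 2)
  have hmk : ∀ a < 8, toG (x a) = QuotientGroup.mk (R (rootOf a) 1) := by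
    intro a ha
    refine congrArg (QuotientGroup.mk) (Subtype.ext (Subtype.ext ?_))
    rw [repOmega_coe]
    refine Units.ext (Matrix.ext fun c d => ?_)
    have h := roots_ok
    simp only [rootsOK, List.all_eq_true, List.mem_range, decide_eq_true_iff] at h
    have h' := h a ha (ix c) (List.mem_finRange _) (ix d) (List.mem_finRange _)
    rw [rep_x (Nat.lt_of_lt_of_le ha len_eq.2), h', Equiv.symm_apply_apply, Equiv.symm_apply_apply,
      ← hR]
    simp [Matrix.mulVec, dotProduct]
  obtain ⟨e, he⟩ := exists_lift_aut τ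
  have key : ∀ a < 8, (x (piTri a))⁻¹ * e (x a) ∈ toG.ker := by
    intro a ha
    rw [MonoidHom.mem_ker, map_mul, map_inv]
    refine inv_mul_eq_one.2 ?_
    rw [he, hmk a ha, hmk _ (root_perm a ha).1, (root_perm a ha).2]
    refine (Eq.trans ?_ (hτ (rootOf a) 1).symm)
    rw [mul_one]
    congr
    exact ((by decide : ∀ r : Fin 24, ((OutPOmega.triSign r : ℤ) : ZMod 2) = 1) _).symm
  refine ⟨e, ?_, ?_⟩
  · obtain ⟨w1, -, w3, -, -⟩ := words_spec
    rw [← w3]
    nth_rw 1 [← w1]
    exact map_word e.toMonoidHom rfl rfl (key 2 (by norm_num)) (key 3 (by norm_num))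
  · obtain ⟨w1, w2, -, -, -⟩ := words_spec
    rw [← w2, ← w1]
    exact map_word e.toMonoidHom rfl rfl (key 0 (by norm_num)) (key 2 (by norm_num))

/-- The stabiliser of the central involution `x 17` in the automorphism group. -/
def stab17 : Subgroup (MulAut E) := MulAction.stabilizer (MulAut E) (x 17)

theorem card_stab17 : Nat.card stab17 ≤ 348364800 := by
  obtain ⟨e, h1, h2⟩ := exists_tri
  obtain ⟨-, -, h16, h1617, h1617'⟩ := ker_distinct
  haveI : Finite (MulAut E) :=
    Finite.of_injective (fun β : MulAut E => (β : E → E)) DFunLike.coe_injective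
  have h16_17 : e (x 16 * x 17) = x 16 := by
    have hc0 : x 16 ∈ Subgroup.center E := (zAt_spec (i := 0) (by norm_num)).2.1
    rw [map_mul, h1, h2, ← mul_assoc,
      Subgroup.mem_center_iff.1 hc0 (x 17), mul_assoc,
      show x 17 * x 17 = 1 from (zAt_spec (i := 1) (by norm_num)).2.2, mul_one]
  have horb : 3 ≤ Nat.card (MulAction.orbit (MulAut E) (x 17)) := by
    let f : Fin 3 → MulAction.orbit (MulAut E) (x 17) :=
      ![⟨x 17, MulAction.mem_orbit_self _⟩, ⟨x 16 * x 17, e, h1⟩,
        ⟨x 16, e * e, by show e (e (x 17)) = _; rw [h1, h16_17]⟩]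
    have hf : Function.Injective f := by
      intro i j h
      have hv := congrArg Subtype.val h
      fin_cases i <;> fin_cases j <;>
        first
        | rfl
        | exact absurd hv h16
        | exact absurd hv h16.symm
        | exact absurd hv h1617
        | exact absurd hv h1617.symm
        | exact absurd hv h1617'
        | exact absurd hv h1617'.symm
    simpa using Nat.card_le_card_of_injective f hf
  have h := Nat.card_congr (MulAction.orbitProdStabilizerEquivGroup (MulAut E) (x 17))
  rw [Nat.card_prod] at h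
  have h' := Nat.mul_le_mul_right (Nat.card stab17) horb
  change Nat.card _ * Nat.card stab17 = _ at h
  have := card_mulAut_E
  omega

/-- A stem double cover of the simple group is the image of `E` with a prescribed kernel. -/
theorem exists_onto {L : Type u} [Group L] [Finite L] (σ : L →* Om) (hσ : Cfsg.IsStemExtension σ)
    (h2 : Nat.card σ.ker = 2) : ∃ β : E →* L, Function.Surjective β ∧
      (∀ g, g ∈ β.ker ↔ g = 1 ∨ g = x 17) := by
  obtain ⟨Γ, iΓ, fΓ, σ', hσ', ⟨k'⟩, β', hβ', hcomp⟩ := SchurTheory.exists_cover_over σ hσ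
  obtain ⟨k⟩ := ker_equiv
  obtain ⟨i, hi⟩ := SchurTheory.exists_iso_of_coprime coprime_ab toG σ' toG_stem hσ' k k'
  let β : E →* L := β'.comp i.toMonoidHom
  have hβ : Function.Surjective β := hβ'.comp i.surjective
  have hσβ : ∀ g, σ (β g) = toG g := fun g => by
    rw [← hi]; exact DFunLike.congr_fun hcomp (i g)
  have hle : β.ker ≤ toG.ker := fun g hg => by
    rw [MonoidHom.mem_ker, ← hσβ, MonoidHom.mem_ker.1 hg, map_one]
  have hcard : Nat.card β.ker = 2 := by
    have h1 := Subgroup.index_mul_card β.ker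
    rw [Subgroup.index_ker, MonoidHom.range_eq_top.2 hβ, Subgroup.card_top, card_all.1] at h1
    have h3 := Subgroup.index_mul_card σ.ker
    rw [Subgroup.index_ker, MonoidHom.range_eq_top.2 hσ.1, Subgroup.card_top, h2, card_pOmega] at h3
    rw [← h3] at h1
    omega
  obtain ⟨u, hu, hu1⟩ : ∃ u ∈ β.ker, u ≠ 1 := by
    have hne : β.ker ≠ ⊥ := fun h => by rw [h] at hcard; simp at hcard
    obtain ⟨u, hu⟩ := Subgroup.ne_bot_iff_exists_ne_one.1 hne
    exact ⟨u, u.2, fun e => hu (Subtype.ext e)⟩
  have hker : ∀ g, g ∈ β.ker ↔ g = 1 ∨ g = u := by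
    intro g
    refine ⟨fun hg => ?_, by rintro (rfl | rfl); exacts [one_mem _, hu]⟩
    by_contra h
    rw [not_or] at h
    classical
    haveI := Fintype.ofFinite β.ker
    have h3 : ({⟨1, one_mem _⟩, ⟨u, hu⟩, ⟨g, hg⟩} : Finset β.ker).card = 3 :=
      Finset.card_eq_three.2 ⟨_, _, _, fun e => hu1 (congrArg Subtype.val e).symm,
        fun e => h.1 (congrArg Subtype.val e).symm, fun e => h.2 (congrArg Subtype.val e).symm, rfl⟩
    have := Finset.card_le_univ ({⟨1, one_mem _⟩, ⟨u, hu⟩, ⟨g, hg⟩} : Finset β.ker)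
    rw [h3, ← Nat.card_eq_fintype_card, hcard] at this
    omega
  obtain ⟨e, he1, he2⟩ := exists_tri
  have hsq : ∀ {a b : E}, e a = b → e.symm b = a := fun h => by rw [← h, e.symm_apply_apply]
  obtain ⟨d, hd⟩ : ∃ d : MulAut E, d (x 17) = u := by
    rcases ker_cases (hle hu) with h | h | h | h
    · exact absurd h hu1
    · exact ⟨e.symm, (hsq he2).trans h.symm⟩
    · exact ⟨1, h.symm⟩
    · exact ⟨e, he1.trans h.symm⟩
  refine ⟨β.comp d.toMonoidHom, hβ.comp d.surjective, fun g => ?_⟩
  rw [MonoidHom.mem_ker, MonoidHom.comp_apply, ← MonoidHom.mem_ker, hker]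
  simp only [MulEquiv.coe_toMonoidHom]
  constructor
  · rintro (h | h)
    · exact Or.inl (d.injective (h.trans (map_one d).symm))
    · exact Or.inr (d.injective (h.trans hd.symm))
  · rintro (rfl | rfl)
    exacts [Or.inl (map_one d), Or.inr hd]

end CfsgLib.StdDoubleO8
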