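import Cfsg.Agent.StdDoubleO8.Frame
import Cfsg.Agent.StdDoubleO8.Orbit

/-!
Elementary subgroups, fusion of involutions, witnesses and the permutations of the frame.
-/

set_option autoImplicit false
set_option linter.style.haveILetI false
set_option maxRecDepth 20000

namespace CfsgLib.StdDoubleO8

open CfsgLib.OPlusEightTwo
open CfsgLib.Schur.Pc (gen_mem_tailSubgroup tailSubgroup_mono)

theorem exists_of_mem_listP : ∀ k ≤ 14, ∀ c ∈ listP k, ∃ u ∈ T (14 - k), cd u = c
  | 0, _, c, hc => by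
    rw [listP, List.mem_singleton] at hc
    exact ⟨1, one_mem _, by rw [cd_one, hc]⟩
  | k + 1, hk, c, hc => by
    rw [listP, force_eq, mapF_eq, List.mem_append] at hc
    have hle : T (14 - k) ≤ T (14 - (k + 1)) := tailSubgroup_mono _ (by omega)
    rcases hc with h | h
    · obtain ⟨u, hu, e⟩ := exists_of_mem_listP k (by omega) c h
      exact ⟨u, hle hu, e⟩
    · obtain ⟨d, hd, rfl⟩ := List.mem_map.1 h
      obtain ⟨u, hu, rfl⟩ := exists_of_mem_listP k (by omega) d hd
      refine ⟨genU (14 - (k + 1)) * u,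
        mul_mem (gen_mem_tailSubgroup genU le_rfl (by omega)) (hle hu), ?_⟩
      rw [cd_mul, cd_genU, show 14 - (k + 1) = 13 - k by omega]

/-- The elementary subgroups of order at least `2 ^ 7` of the Sylow subgroup of the double cover. -/
theorem big_elementary {B : Subgroup U} (hBS : B ≤ S) (hz : zU ∈ B) (hsq : ∀ b ∈ B, b * b = 1)
    (hcard : 128 ≤ Nat.card B) : B = A7 ∨ InB2 B ∧ Nat.card B = 128 := by
  have hinv : ∀ b ∈ B, b⁻¹ = b := fun b hb => inv_eq_of_mul_eq_one_left (hsq b hb)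
  have hcomm : ∀ a ∈ B, ∀ b ∈ B, a * b = b * a := fun a ha b hb => by
    rw [← hinv _ (mul_mem ha hb), mul_inv_rev, hinv a ha, hinv b hb]
  have hr := reps_true
  simp only [repsOK, Bool.and_eq_true, List.all_eq_true, Bool.or_eq_true, Bool.not_eq_true'] at hr
  have hcov : ∀ b ∈ B, canon (cd b) ∈ [canon oneC] ++ invReps := by
    intro b hb
    rcases hr.2 _ (cd_mem_list13 (hBS hb)) with ((h | h) | h) | h
    · rw [sq1_iff.2 (hsq b hb)] at h; exact Bool.noConfusion h
    · rw [Nat.eq_of_beq_eq_true h]; exact List.mem_append_left _ (List.mem_singleton_self _)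
    · refine List.mem_append_left _ (List.mem_singleton.2 ?_)
      rw [Nat.eq_of_beq_eq_true h, ← cd_zU, ← cd_one, ← one_mul zU, canon_mul_zU]
    · exact List.mem_append_right _ (memL_iff.1 h)
  have hels : ∀ e ∈ [canon oneC], ∃ b ∈ B, cd b = e := by
    intro e he
    rw [List.mem_singleton] at he
    rw [he, ← cd_one]
    rcases canon_cases 1 with h | h <;> rw [h]
    · exact ⟨1, one_mem B, rfl⟩
    · exact ⟨_, by rw [one_mul]; exact hz, rfl⟩
  rcases search_sound hz hcomm hcard 400 _ _ search_true (List.mem_singleton_self _) hels hcov with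
    h | h
  · left
    refine Subgroup.eq_of_le_of_card_ge (fun b hb => ?_) (card_A7.le.trans hcard)
    have hm := h b hb
    simp only [a7List, List.mem_map, List.mem_filter, List.mem_range] at hm
    obtain ⟨v, ⟨hv, hd⟩, e⟩ := hm
    exact mem_A7.2 ⟨v, hv, hd, cd_inj (by rw [cd_aU hv, e])⟩
  · right
    classical
    have hlen : b2Data.toFinset.card ≤ 128 :=
      (List.toFinset_card_le _).trans_eq (by decide +kernel)
    let f : B → (b2Data.toFinset : Finset ℕ) := fun b => ⟨cd b.1, List.mem_toFinset.2 (h _ b.2)⟩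
    have hf : Function.Injective f := fun a b e => Subtype.ext (cd_inj (congrArg Subtype.val e))
    have hle := Nat.card_le_card_of_injective f hf
    rw [Nat.card_eq_finsetCard] at hle
    refine ⟨fun u => ⟨fun hu => h u hu, fun hu => ?_⟩, by omega⟩
    have hb : Function.Bijective f :=
      (Nat.bijective_iff_injective_and_card f).2 ⟨hf, by rw [Nat.card_eq_finsetCard]; omega⟩
    obtain ⟨b, e⟩ := hb.2 ⟨cd u, List.mem_toFinset.2 hu⟩
    rw [← cd_inj (congrArg Subtype.val e)]
    exact b.2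

theorem chain_conj : ∀ i < chainCount, ∀ u : U, cd u = (chainAt i).1 →
    ∃ l ∈ L0, ∃ v < 256, l * u * l⁻¹ = aU v := by
  intro i
  induction i using Nat.strong_induction_on with
  | _ i ih =>
    intro hi u hu
    have h := chains_true
    simp only [chainsOK, chainEntryOK, mulF_eq, Bool.and_eq_true, List.all_eq_true, List.mem_range] at h
    have hq := (h.1.1 i hi).2
    generalize (chainAt i) = q at hu hq
    cases hk : Nat.beq (q.2 % 464) 463 <;> rw [hk] at hq
    · simp only [cond_false, Bool.and_eq_true] at hq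
      obtain ⟨⟨h1, h2⟩, e⟩ := hq
      have hpar : q.2 / 464 < i := Nat.le_of_ble_eq_true h1
      rw [← hu, ← cd_p1 (Nat.le_of_ble_eq_true h2)] at e
      set l : U := p1 (x (q.2 % 464)) with hl
      set p := (chainAt (q.2 / 464)).1 with hp
      have e' : cd (l * u * l⁻¹) = p := by
        rw [cd_mul, cd_mul, Nat.eq_of_beq_eq_true e]
        have hwf : wf p = true := by
          have := (h.1.1 (q.2 / 464) (hpar.trans hi)).1
          exact this
        refine Eq.trans (?_ : _ = encM (toM p)) (encM_toM hwf)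
        rw [← encM_toM (wf_mulC (mulC p (cd l)) (cd l⁻¹)), toM_mulC (wf_mulC _ _) (wf_cd _),
          toM_mulC hwf (wf_cd _), coe_cd, coe_cd, mul_assoc, ← Units.val_mul, mul_inv_cancel,
          Units.val_one, mul_one]
      obtain ⟨l', hl', v, hv, e''⟩ := ih _ hpar (hpar.trans hi) _ e'
      refine ⟨l' * l, mul_mem hl' (p1_apply_mem _), v, hv, ?_⟩
      rw [← e'']; group
    · simp only [cond_true, Bool.and_eq_true] at hq
      obtain ⟨h1, e⟩ := hq
      have hv : q.2 / 464 < 256 := Nat.le_of_ble_eq_true h1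
      refine ⟨1, one_mem _, q.2 / 464, hv, ?_⟩
      rw [one_mul, inv_one, mul_one]
      exact cd_inj (by rw [hu, Nat.eq_of_beq_eq_true e, cd_aU hv])

/-- Involutions of the extension are conjugate into the frame. -/
theorem exists_conj_A {η : U} (hη : η ∈ Xg) (h2 : η * η = 1) :
    ∃ l ∈ L0, ∃ v < 256, l * η * l⁻¹ = aU v := by
  obtain ⟨l, hl, hlP⟩ := exists_conj_P (Subgroup.zpowers_le.2 hη)
    (StdDoubleRu.isPGroup_zpowers (k := 1) (by rw [pow_one, sq, h2]))
  have hP := hlP η (Subgroup.mem_zpowers _)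
  have hm : cd (l * η * l⁻¹) ∈ (listP 14).filter sq1 :=
    List.mem_filter.2 ⟨cd_mem_list14 hP, sq1_iff.2 (by rw [StdDoubleRu.conj_sq_eq, h2]; group)⟩
  have h := chains_true
  simp only [chainsOK, Bool.and_eq_true, List.all_eq_true] at h
  rw [eqL_sound h.2, List.mem_map] at hm
  obtain ⟨i, hi, e⟩ := hm
  obtain ⟨l', hl', v, hv, e'⟩ := chain_conj i (Nat.le_of_ble_eq_true (h.1.2 i hi)) _ e.symm
  exact ⟨l' * l, mul_mem hl' hl, v, hv, by rw [← e']; group⟩

theorem witScan_sound : ∀ L W : List ℕ, witScan L W = true → ∀ c ∈ L, needWit c = true →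
    ∃ w, witOK c (mulF c c) w = true
  | [], _, _, _, hc, _ => absurd hc List.not_mem_nil
  | d :: L, W, h, c, hc, hn => by
    rw [witScan.eq_def] at h
    simp only at h
    by_cases hd : needWit d = true
    · rw [hd, cond_true] at h
      cases W with
      | nil => exact Bool.noConfusion h
      | cons w W =>
        simp only [Bool.and_eq_true] at h
        rcases List.mem_cons.1 hc with rfl | hc
        · exact ⟨w, h.1⟩
        · exact witScan_sound L W h.2 c hc hn
    · rw [Bool.not_eq_true] at hd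
      rw [hd, cond_false] at h
      rcases List.mem_cons.1 hc with rfl | hc
      · rw [hn] at hd; exact Bool.noConfusion hd
      · exact witScan_sound L W h c hc hn

/-- Witnesses for an element with a square of order two modulo the centre. -/
theorem exists_witness {η : U} (hη : η ∈ P) (h1 : η * η ≠ 1) (hz : η * η ≠ zU)
    (h4 : (η * η) * (η * η) = 1 ∨ (η * η) * (η * η) = zU) :
    ∃ s ∈ S, ∃ t ∈ S, s * (η * η) = η * η * s ∧ t * (η * η) = η * η * t ∧
      s * η ≠ η * s ∧ t * η ≠ η * t ∧ s * t * η ≠ η * (s * t) := by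
  have h := witness_true
  simp only [witnessOK, witnessOK.inList, Bool.and_eq_true, List.all_eq_true] at h
  have hn : needWit (cd η) = true := by
    simp only [needWit, mulF_eq, force_eq, ← cd_mul, ← cd_one, ← cd_zU, Bool.and_eq_true, Bool.not_eq_true',
      Bool.or_eq_true, Bool.or_eq_false_iff]
    refine ⟨⟨?_, ?_⟩, ?_⟩
    · exact Bool.eq_false_iff.2 fun e => h1 (cd_inj (Nat.eq_of_beq_eq_true e))
    · exact Bool.eq_false_iff.2 fun e => hz (cd_inj (Nat.eq_of_beq_eq_true e))
    · rcases h4 with e | e <;> rw [e]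
      · exact Or.inl (Nat.beq_refl _)
      · exact Or.inr (Nat.beq_refl _)
  obtain ⟨w, hw⟩ := witScan_sound _ _ h.1 _ (cd_mem_list14 hη) hn
  simp only [witOK, mulF_eq, force_eq, Bool.and_eq_true, Bool.not_eq_true'] at hw
  obtain ⟨⟨⟨⟨⟨⟨hsa, hta⟩, hs⟩, ht⟩, hst⟩, hl1⟩, hl2⟩ := hw
  have hS : ∀ i, i < witElts.length → ∃ s ∈ S, cd s = witElts.getD i oneC := fun i hi => by
    rw [List.getD_eq_getElem _ _ hi]
    exact exists_of_mem_listP 13 (by norm_num) _ (memL_iff.1 (h.2 _ (List.getElem_mem hi)))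
  obtain ⟨s, hsS, es⟩ := hS _ (Nat.le_of_ble_eq_true hl1)
  obtain ⟨t, htS, et⟩ := hS _ (Nat.le_of_ble_eq_true hl2)
  rw [← es, ← cd_mul] at hsa
  rw [← et, ← cd_mul] at hta
  rw [← es] at hs
  rw [← et] at ht
  rw [← es, ← et, ← cd_mul] at hst
  have hne : ∀ {a b : U}, cm (cd a) (cd b) = false → a * b ≠ b * a := fun hf e => by
    rw [cm_iff.2 e] at hf; exact Bool.noConfusion hf
  exact ⟨s, hsS, t, htS, cm_iff.1 hsa, cm_iff.1 hta, hne hs, hne ht, hne hst⟩

/-! ### Permutations of the frame -/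

theorem pd_lt (p i : ℕ) : pd p i < 8 := Nat.mod_lt _ (by norm_num)

theorem pd_codeOf' {f : ℕ → ℕ} (hf : ∀ i < 8, f i < 8) {i : ℕ} (hi : i < 8) :
    pd (codeOf f) i = f i := by
  have := hf 0 (by norm_num); have := hf 1 (by norm_num); have := hf 2 (by norm_num)
  have := hf 3 (by norm_num); have := hf 4 (by norm_num); have := hf 5 (by norm_num)
  have := hf 6 (by norm_num); have := hf 7 (by norm_num)
  interval_cases i <;> simp only [pd, codeOf] <;> omega

theorem testBit_pimK (p : ℕ) (hinj : ∀ i < 8, ∀ j < 8, pd p i = pd p j → i = j) :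
    ∀ k ≤ 8, ∀ v j, (pimK p k v).testBit j = true → ∃ i < k, pd p i = j
  | 0, _, v, j, h => by simp [pimK] at h
  | k + 1, hk, v, j, h => by
    rw [pimK] at h
    cases hb : v.testBit k
    · rw [hb, cond_false, Nat.add_zero] at h
      obtain ⟨i, hi, e⟩ := testBit_pimK p hinj k (by omega) v j h
      exact ⟨i, by omega, e⟩
    · rw [hb, cond_true] at h
      have hfree : (pimK p k v).testBit (pd p k) = false := Bool.eq_false_iff.2 fun hh => by
        obtain ⟨i, hi, e⟩ := testBit_pimK p hinj k (by omega) v _ hh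
        have := hinj i (by omega) k (by omega) e
        omega
      by_cases hj : pd p k = j
      · exact ⟨k, Nat.lt_succ_self k, hj⟩
      · rw [add_two_pow_eq_xor hfree, Nat.testBit_xor, Nat.testBit_two_pow] at h
        simp only [hj, decide_false, Bool.xor_false] at h
        obtain ⟨i, hi, e⟩ := testBit_pimK p hinj k (by omega) v j h
        exact ⟨i, by omega, e⟩
where
  add_two_pow_eq_xor {a j : ℕ} (h : a.testBit j = false) : a + 2 ^ j = a ^^^ 2 ^ j := by
    have hpow : 2 ^ (j + 1) = 2 * 2 ^ j := by rw [pow_succ]; ring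
    have hr : a % 2 ^ (j + 1) = a % 2 ^ j := by rw [mod_two_pow_step, h, cond_false]
    have hrlt : a % 2 ^ j < 2 ^ j := Nat.mod_lt _ (Nat.two_pow_pos j)
    have hlt : 2 ^ j + a % 2 ^ j < 2 ^ (j + 1) := by omega
    have e1 : a = 2 ^ (j + 1) * (a / 2 ^ (j + 1)) + a % 2 ^ j := by
      rw [← hr]; exact (Nat.div_add_mod _ _).symm
    have e2 : a = 2 ^ (j + 1) * (a / 2 ^ (j + 1)) ||| a % 2 ^ j := by
      rw [← Nat.two_pow_add_eq_or_of_lt (by omega : a % 2 ^ j < 2 ^ (j + 1))]; exact e1
    have e3 : a + 2 ^ j = 2 ^ (j + 1) * (a / 2 ^ (j + 1)) ||| (2 ^ j ||| a % 2 ^ j) := by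
      have e4 : 2 ^ j + a % 2 ^ j = 2 ^ j ||| a % 2 ^ j := by
        simpa using Nat.two_pow_add_eq_or_of_lt hrlt 1
      rw [← e4, ← Nat.two_pow_add_eq_or_of_lt hlt]; omega
    have hq : (2 ^ (j + 1) * (a / 2 ^ (j + 1))).testBit j = false := by
      rw [Nat.testBit_two_pow_mul]; simp
    conv_rhs => rw [e2]
    rw [e3]
    refine Nat.eq_of_testBit_eq fun i => ?_
    simp only [Nat.testBit_or, Nat.testBit_xor, Nat.testBit_two_pow]
    by_cases hij : j = i
    · subst hij; simp [hq, Nat.testBit_lt_two_pow hrlt]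
    · simp [hij]

/-- A lift of a permutation acts on the frame through the permutation. -/
theorem conj_aU {p : ℕ} {y : U} (hinj : ∀ i < 8, ∀ j < 8, pd p i = pd p j → i = j)
    (hy : ∀ i < 8, y * aU (2 ^ i) * y⁻¹ = aU (2 ^ pd p i)) {v : ℕ} (hv : v < 256) :
    pim p v < 256 ∧ y * aU v * y⁻¹ = aU (pim p v) := by
  have key : ∀ k ≤ 8, pimK p k v < 256 ∧ y * aU (v % 2 ^ k) * y⁻¹ = aU (pimK p k v) := by
    intro k
    induction k with
    | zero => intro _; exact ⟨by norm_num [pimK], by simp [pimK, Nat.mod_one, aU_zero]⟩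
    | succ k ih =>
      intro hk
      obtain ⟨h1, h2⟩ := ih (by omega)
      rw [pimK, mod_two_pow_step]
      cases hb : v.testBit k
      · rw [cond_false, cond_false, Nat.add_zero]; exact ⟨h1, h2⟩
      · have hfree : (pimK p k v).testBit (pd p k) = false := Bool.eq_false_iff.2 fun hh => by
          obtain ⟨i, hi, e⟩ := testBit_pimK p hinj k (by omega) v _ hh
          have := hinj i (by omega) k (by omega) e
          omega
        have hp : 2 ^ pd p k < 256 := Nat.pow_lt_pow_right (by norm_num) (pd_lt p k) (n := 8)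
        have hk' : v % 2 ^ k < 256 := lt_of_le_of_lt (Nat.mod_le _ _) hv
        have hk2 : 2 ^ k < 256 := Nat.pow_lt_pow_right (by norm_num) (by omega) (n := 8)
        rw [cond_true, cond_true, testBit_pimK.add_two_pow_eq_xor p hfree]
        refine ⟨Nat.xor_lt_two_pow (n := 8) h1 hp, ?_⟩
        rw [← aU_mul hk' hk2, ← aU_mul h1 hp, ← h2, ← hy k (by omega)]
        group
  have h := key 8 le_rfl
  rw [Nat.mod_eq_of_lt (by simpa using hv)] at h
  exact h

/-- The permutation is induced by the double cover. -/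
def Lifts (p : ℕ) : Prop :=
  (∀ i < 8, ∀ j < 8, pd p i = pd p j → i = j) ∧
    ∃ l ∈ L0, ∀ i < 8, l * aU (2 ^ i) * l⁻¹ = aU (2 ^ pd p i)

theorem lifts_gen {g : ℕ × ℕ} (hg : g ∈ permGens) : Lifts g.2 ∧
    ∀ i < 8, p1 (x g.1) * aU (2 ^ i) * (p1 (x g.1))⁻¹ = aU (2 ^ pd g.2 i) := by
  have h := permsLift_true
  simp only [permsLiftOK, mulF_eq, Bool.and_eq_true, List.all_eq_true, List.mem_range] at h
  obtain ⟨hlt, hq⟩ := h.1.1.1 g hg
  have key : ∀ i < 8, p1 (x g.1) * aU (2 ^ i) * (p1 (x g.1))⁻¹ = aU (2 ^ pd g.2 i) := fun i hi => by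
    have e := hq i hi
    have hk : ∀ {j}, j < 8 → 2 ^ j < 256 := fun hj => Nat.pow_lt_pow_right (by norm_num) hj (n := 8)
    rw [← cd_p1 (Nat.le_of_ble_eq_true hlt), ← cd_aU (hk hi), ← cd_aU (hk (pd_lt _ _)), ← cd_mul,
      ← cd_mul] at e
    rw [cd_inj (Nat.eq_of_beq_eq_true e), mul_inv_cancel_right]
  refine ⟨⟨fun i hi j hj e => ?_, _, p1_apply_mem _, key⟩, key⟩
  have hp := permInj_true
  simp only [permInjOK, List.all_eq_true, List.mem_range, Bool.or_eq_true, Bool.not_eq_true'] at hp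
  rcases hp g hg i hi j hj with h' | h'
  · exact Nat.eq_of_beq_eq_true h'
  · rw [e, Nat.beq_refl] at h'; exact Bool.noConfusion h'

theorem lifts_cert : ∀ k < permCount, Lifts (permAt k).1 := by
  intro k
  induction k using Nat.strong_induction_on with
  | _ k ih =>
    intro hk
    have h := permsLift_true
    simp only [permsLiftOK, mulF_eq, Bool.and_eq_true, List.all_eq_true, List.mem_range, Bool.or_eq_true] at h
    rcases h.2 k hk with h' | ⟨⟨hg, hpar⟩, e⟩
    · rw [Nat.eq_of_beq_eq_true h', Nat.eq_of_beq_eq_true h.1.1.2]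
      have hid : ∀ i < 8, pd (codeOf fun i => i) i = i := fun i hi =>
        pd_codeOf' (fun j hj => hj) hi
      exact ⟨fun i hi j hj e => by rwa [hid i hi, hid j hj] at e, 1, one_mem _, fun i hi => by
        rw [hid i hi]; simp⟩
    · rw [Nat.eq_of_beq_eq_true e, compP]
      have hg' : (permAt k).2 % 8 < permGens.length := Nat.le_of_ble_eq_true hg
      rw [List.getD_eq_getElem _ _ hg']
      obtain ⟨⟨hi1, l1, hl1, h1⟩, -⟩ := lifts_gen (List.getElem_mem hg')
      have hpar' : (permAt k).2 / 8 < k := Nat.le_of_ble_eq_true hpar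
      obtain ⟨hi2, l2, hl2, h2⟩ := ih _ hpar' (hpar'.trans hk)
      generalize permGens[(permAt k).2 % 8]'hg' = g at hi1 h1 ⊢
      generalize (permAt ((permAt k).2 / 8)).1 = r at hi2 h2 ⊢
      have hp : ∀ i < 8, pd (codeOf fun i => pd g.2 (pd r i)) i = pd g.2 (pd r i) := fun i hi =>
        pd_codeOf' (fun j _ => pd_lt _ _) hi
      refine ⟨fun i hi j hj e' => ?_, l1 * l2, mul_mem hl1 hl2, fun i hi => ?_⟩
      · rw [hp i hi, hp j hj] at e'
        exact hi2 i hi j hj (hi1 _ (pd_lt _ _) _ (pd_lt _ _) e')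
      · rw [hp i hi, ← h1 _ (pd_lt _ _), ← h2 i hi]
        group

theorem lifts_perms {e : Bool} {p : ℕ} (hp : p ∈ permsIn e) : Lifts p := by
  have h := covered_true e
  simp only [permsCovered, List.all_eq_true] at h
  have hm := h p hp
  rw [testBit_bitsOf, decide_eq_true_iff, List.mem_map] at hm
  obtain ⟨k, hk, e1⟩ := hm
  rw [List.mem_range] at hk
  have hh := permsLift_true
  simp only [permsLiftOK, mulF_eq, Bool.and_eq_true, List.all_eq_true, List.mem_range, isCand] at hh
  have hc := Nat.eq_of_beq_eq_true (hh.1.2 k hk)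
  have hl := lifts_cert k hk
  generalize (permAt k).1 = q at e1 hc hl
  have := pd_lt q 0; have := pd_lt q 1; have := pd_lt q 2; have := pd_lt q 4
  have := pd_lt p 0; have := pd_lt p 1; have := pd_lt p 2; have := pd_lt p 4
  simp only [keyP] at e1
  have e0 : pd q 0 = pd p 0 := by omega
  have e1' : pd q 1 = pd p 1 := by omega
  have e2 : pd q 2 = pd p 2 := by omega
  have e4 : pd q 4 = pd p 4 := by omega
  have hq : q = p := by rw [← hc, e0, e1', e2, e4, (perms_spec hp).2.2]
  exact hq ▸ hl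

/-- An element of the double cover moving all odd masks. -/
theorem exists_translation : ∃ l ∈ L0, ∀ v < 256, inDom true v = false →
    ∃ w < 256, w ≠ 0 ∧ w ≠ 255 ∧ inDom true w = true ∧ l * aU v * l⁻¹ * aU v = aU w := by
  have hg : permGens.getD 2 (0, 0) ∈ permGens := by decide +kernel
  obtain ⟨⟨hinj, l, hl, hy⟩, -⟩ := lifts_gen hg
  refine ⟨l, hl, fun v hv hd => ?_⟩
  have h := translation_true
  simp only [translationOK, List.all_eq_true, List.mem_range, Bool.or_eq_true, Bool.and_eq_true,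
    Bool.not_eq_true'] at h
  rcases h v hv with h' | ⟨⟨h1, h2⟩, -⟩
  · rw [hd] at h'; exact Bool.noConfusion h'
  obtain ⟨hlt, e⟩ := conj_aU hinj hy hv
  refine ⟨_, Nat.xor_lt_two_pow (n := 8) hlt hv, fun e0 => ?_, fun e1 => ?_, ?_, by
    rw [e, aU_mul hlt hv]⟩
  · rw [e0, Nat.beq_refl] at h1; exact Bool.noConfusion h1
  · rw [e1, Nat.beq_refl] at h2; exact Bool.noConfusion h2
  · have hm : aU v ∉ L0 := fun hm => by rw [(aU_mem_L0 hv).1 hm] at hd; exact Bool.noConfusion hd
    rw [← aU_mem_L0 (Nat.xor_lt_two_pow (n := 8) hlt hv), ← aU_mul hlt hv,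
      L0_mul_iff (aU_mem_Xg _) (aU_mem_Xg _), ← e,
      conj_mem_L0_iff (Subgroup.mem_sup_left hl) (aU_mem_Xg _)]

/-- An element normalising the frame permutes it as a permutation preserving the blocks does. -/
theorem perm_of_normalizes (e : Bool) {y : U}
    (hy : ∀ v < 256, ∃ w < 256, y * aU v * y⁻¹ = aU w) :
    ∃ p ∈ permsIn e, ∀ v < 256, y * aU v * y⁻¹ = aU (pim p v) := by
  have hk : ∀ {j}, j < 8 → 2 ^ j < 256 := fun hj => Nat.pow_lt_pow_right (by norm_num) hj (n := 8)
  have hone : ∀ i, ∃ j < 8, i < 8 → y * aU (2 ^ i) * y⁻¹ = aU (2 ^ j) := by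
    intro i
    by_cases hi : i < 8
    · obtain ⟨w, hw, hwe⟩ := hy _ (hk hi)
      have hr : RankOne (aU (2 ^ i)) := by
        have hb := rankOne_bU hi
        rwa [show bU i = aU (2 ^ i) from cd_inj (by rw [cd_bU hi, cd_aU (hk hi)])] at hb
      have hr' := hr.conj y
      rw [hwe] at hr'
      rcases weight_one_of_rankOne hw hr' with h0 | h255 | ⟨j, hj, hj'⟩
      · exfalso
        rw [h0, aU_zero, conj_eq_one_iff] at hwe
        exact (Nat.two_pow_pos i).ne' (aU_eq_one (hk hi) hwe)
      · exfalso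
        rw [h255, aU_top, mul_inv_eq_iff_eq_mul, zU_comm, mul_right_inj] at hwe
        have := aU_eq_zU (hk hi) hwe
        interval_cases i <;> simp at this
      · exact ⟨j, hj, fun _ => hj' ▸ hwe⟩
    · exact ⟨0, by norm_num, fun h => absurd h hi⟩
  choose f hf hfe using hone
  have hpd : ∀ i < 8, pd (codeOf f) i = f i := fun i hi => pd_codeOf' (fun j _ => hf j) hi
  have hinj : ∀ i < 8, ∀ j < 8, pd (codeOf f) i = pd (codeOf f) j → i = j := by
    intro i hi j hj h
    rw [hpd i hi, hpd j hj] at h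
    have h' := (hfe i hi).trans (h ▸ (hfe j hj).symm)
    exact Nat.pow_right_injective le_rfl (aU_inj (hk hi) (hk hj) (mul_left_cancel (mul_right_cancel h')))
  have hconj := fun v (hv : v < 256) => conj_aU (y := y) hinj
    (fun i hi => by rw [hpd i hi]; exact hfe i hi) hv
  have hne : ∀ i < 8, ∀ j < 8, i ≠ j → f i ≠ f j := fun i hi j hj hij h =>
    hij (hinj i hi j hj (by rw [hpd i hi, hpd j hj, h]))
  have hblock : ∀ a < 8, ∀ b < 8, ∀ c < 8, ∀ d < 8, a ≠ b → a ≠ c → a ≠ d → b ≠ c → b ≠ d → c ≠ d →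
      2 ^ a + 2 ^ b + 2 ^ c + 2 ^ d ∈ [15, 51, 85, 150] →
      pim (codeOf f) (2 ^ a + 2 ^ b + 2 ^ c + 2 ^ d) = 2 ^ f a + 2 ^ f b + 2 ^ f c + 2 ^ f d →
      f d = f a ^^^ f b ^^^ f c := by
    intro a ha b hb c hc d hd h1 h2 h3 h4 h5 h6 hm hp
    have hv : 2 ^ a + 2 ^ b + 2 ^ c + 2 ^ d < 256 := by
      revert hm; generalize 2 ^ a + 2 ^ b + 2 ^ c + 2 ^ d = m; intro hm
      revert hm; simp; omega
    obtain ⟨hlt, he⟩ := hconj _ hv
    rw [hp] at hlt he
    exact block_of_rankTwo (hf a) (hf b) (hf c) (hf d)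
      ⟨hne a ha b hb h1, hne a ha c hc h2, hne a ha d hd h3, hne b hb c hc h4, hne b hb d hd h5,
        hne c hc d hd h6⟩ hlt (he ▸ (rankTwo_block hm).conj y)
  have hp : ∀ i < 8, pd (codeOf f) i = f i := hpd
  refine ⟨codeOf f, mem_perms e hf ?_ ?_ ?_ ?_ ?_, fun v hv => (hconj v hv).2⟩
  · obtain ⟨hlt, he⟩ := hconj 255 (by norm_num)
    rw [aU_top, ← zU_comm, mul_inv_cancel_right] at he
    exact aU_eq_zU hlt he.symm
  · exact hblock 0 (by norm_num) 1 (by norm_num) 2 (by norm_num) 3 (by norm_num) (by norm_num)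
      (by norm_num) (by norm_num) (by norm_num) (by norm_num) (by norm_num) (by simp)
      (by simp [pim, pimK, hp, Nat.testBit, Nat.shiftRight_eq_div_pow])
  · exact hblock 0 (by norm_num) 1 (by norm_num) 4 (by norm_num) 5 (by norm_num) (by norm_num)
      (by norm_num) (by norm_num) (by norm_num) (by norm_num) (by norm_num) (by simp)
      (by simp [pim, pimK, hp, Nat.testBit, Nat.shiftRight_eq_div_pow])
  · exact hblock 0 (by norm_num) 2 (by norm_num) 4 (by norm_num) 6 (by norm_num) (by norm_num)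
      (by norm_num) (by norm_num) (by norm_num) (by norm_num) (by norm_num) (by simp)
      (by simp [pim, pimK, hp, Nat.testBit, Nat.shiftRight_eq_div_pow])
  · exact hblock 1 (by norm_num) 2 (by norm_num) 4 (by norm_num) 7 (by norm_num) (by norm_num)
      (by norm_num) (by norm_num) (by norm_num) (by norm_num) (by norm_num) (by simp)
      (by simp [pim, pimK, hp, Nat.testBit, Nat.shiftRight_eq_div_pow])

end CfsgLib.StdDoubleO8
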