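import Cfsg.Agent.StdDoubleO8.Sylow

/-!
The frame of eight commuting reflections, the elementary subgroups of order at least `2 ^ 7`, and
the conjugacy of involutions.
-/

set_option autoImplicit false
set_option linter.style.haveILetI false
set_option maxRecDepth 20000

namespace CfsgLib.StdDoubleO8

open CfsgLib.OPlusEightTwo
open CfsgLib.Schur.Pc (ev gen_mem_tailSubgroup)

/-- A reflection of the frame. -/
noncomputable def bU (i : ℕ) : U := ev genU (frameWords.getD i [])

/-- A product of reflections. -/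
noncomputable def aUK : ℕ → ℕ → U
  | 0, _ => 1
  | k + 1, v => aUK k v * bif v.testBit k then bU k else 1

/-- The element of the frame of a mask. -/
noncomputable def aU (v : ℕ) : U := aUK 8 v

theorem frame_spec : (∀ i < 8, aC (2 ^ i) = wordC (frameWords.getD i []) ∧
    ∃ w, frameWords.getD i [] = 0 :: w ∧ ∀ b ∈ w, 0 < b ∧ b < 14) ∧
    ∀ v < 256, wf (aC v) = true ∧ (aC v = oneC → v = 0) ∧ (aC v = cZ → v = 255) ∧
      ∀ i < 8, mulC (aC v) (aC (2 ^ i)) = aC (v ^^^ 2 ^ i) := by
  have h := frame_true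
  simp only [frameOK, mulF_eq, Bool.and_eq_true, List.all_eq_true, List.mem_range] at h
  refine ⟨fun i hi => ?_, fun v hv => ?_⟩
  · obtain ⟨h1, h2⟩ := h.1.2 i hi
    refine ⟨Nat.eq_of_beq_eq_true h1, ?_⟩
    revert h2
    cases frameWords.getD i [] with
    | nil => intro h2; simp at h2
    | cons a w =>
      intro h2
      simp only [Bool.and_eq_true, List.all_eq_true] at h2
      exact ⟨w, by rw [Nat.eq_of_beq_eq_true h2.1], fun b hb =>
        ⟨Nat.le_of_ble_eq_true (h2.2 b hb).1, Nat.le_of_ble_eq_true (h2.2 b hb).2⟩⟩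
  · obtain ⟨⟨⟨h1, h2⟩, h3⟩, h4⟩ := h.2 v hv
    simp only [Bool.or_eq_true, Bool.not_eq_true'] at h2 h3
    refine ⟨h1, fun e => ?_, fun e => ?_, fun i hi => Nat.eq_of_beq_eq_true (h4 i hi)⟩
    · rcases h2 with h2 | h2
      · rw [e, Nat.beq_refl] at h2; exact Bool.noConfusion h2
      · exact Nat.eq_of_beq_eq_true h2
    · rcases h3 with h3 | h3
      · rw [e, Nat.beq_refl] at h3; exact Bool.noConfusion h3
      · exact Nat.eq_of_beq_eq_true h3

theorem aC_zero : aC 0 = oneC ∧ aC 255 = cZ := by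
  have h := frame_true
  simp only [frameOK, mulF_eq, Bool.and_eq_true] at h
  exact ⟨Nat.eq_of_beq_eq_true h.1.1.1, Nat.eq_of_beq_eq_true h.1.1.2⟩

theorem cd_bU {i : ℕ} (hi : i < 8) : cd (bU i) = aC (2 ^ i) := by
  rw [bU, cd_ev, (frame_spec.1 i hi).1]

theorem bU_mem_P {i : ℕ} (hi : i < 8) : bU i ∈ P := by
  obtain ⟨w, hw, hb⟩ := (frame_spec.1 i hi).2
  rw [bU, hw]
  refine Schur.Pc.ev_mem _ fun b h => gen_mem_tailSubgroup genU (Nat.zero_le b) ?_
  rcases List.mem_cons.1 h with rfl | h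
  · norm_num
  · exact (hb b h).2

theorem bU_not_mem {i : ℕ} (hi : i < 8) : bU i ∉ L0 := by
  obtain ⟨w, hw, hb⟩ := (frame_spec.1 i hi).2
  rw [bU, hw, Schur.Pc.ev_cons, genU_zero]
  intro h
  have hw' : ev genU w ∈ L0 := Schur.Pc.ev_mem _ fun b hb' => genU_mem_L0 (hb b hb').1
  exact rU_not_mem (by simpa using mul_mem h (inv_mem hw'))

theorem mod_two_pow_step (v k : ℕ) :
    v % 2 ^ (k + 1) = bif v.testBit k then v % 2 ^ k ^^^ 2 ^ k else v % 2 ^ k := by
  refine Nat.eq_of_testBit_eq fun j => ?_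
  cases hb : v.testBit k <;> simp only [cond_true, cond_false, Nat.testBit_xor,
    Nat.testBit_two_pow, Nat.testBit_mod_two_pow] <;>
    rcases lt_trichotomy j k with h | rfl | h
  · simp [h, Nat.lt_succ_of_lt h]
  · simp [hb]
  · simp [show ¬ j < k + 1 by omega, show ¬ j < k by omega]
  · simp [h, Nat.lt_succ_of_lt h, h.ne']
  · simp [hb]
  · simp [show ¬ j < k + 1 by omega, show ¬ j < k by omega, show k ≠ j by omega]

theorem cd_mul_aUK {u : U} {a : ℕ} (ha : a < 256) (hu : cd u = aC a) :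
    ∀ k ≤ 8, ∀ v, cd (u * aUK k v) = aC (a ^^^ v % 2 ^ k)
  | 0, _, v => by rw [aUK, mul_one, hu, pow_zero, Nat.mod_one, Nat.xor_zero]
  | k + 1, hk, v => by
    rw [aUK, ← mul_assoc, mod_two_pow_step]
    have ih := cd_mul_aUK ha hu k (by omega) v
    cases hb : v.testBit k
    · rw [cond_false, cond_false, mul_one, ih]
    · rw [cond_true, cond_true, cd_mul, ih, cd_bU (by omega), ← Nat.xor_assoc,
        (frame_spec.2 _ (Nat.xor_lt_two_pow (n := 8) ha (lt_of_lt_of_le (Nat.mod_lt _
          (Nat.two_pow_pos k)) (Nat.pow_le_pow_right (by norm_num) (by omega))))).2.2.2 k (by omega)]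

theorem cd_aU {v : ℕ} (hv : v < 256) : cd (aU v) = aC v := by
  have h := cd_mul_aUK (u := 1) (a := 0) (by norm_num) (by rw [cd_one, aC_zero.1]) 8 le_rfl v
  rwa [one_mul, Nat.zero_xor, Nat.mod_eq_of_lt (by simpa using hv)] at h

theorem aU_mul {u v : ℕ} (hu : u < 256) (hv : v < 256) : aU u * aU v = aU (u ^^^ v) := by
  refine cd_inj ?_
  rw [cd_aU (Nat.xor_lt_two_pow (n := 8) hu hv), show aU u * aU v = aU u * aUK 8 v from rfl,
    cd_mul_aUK hu (cd_aU hu) 8 le_rfl v, Nat.mod_eq_of_lt (by simpa using hv)]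

theorem aU_zero : aU 0 = 1 := cd_inj (by rw [cd_aU (by norm_num), aC_zero.1, cd_one])

theorem aU_top : aU 255 = zU := cd_inj (by rw [cd_aU (by norm_num), aC_zero.2, cd_zU])

theorem aU_sq {v : ℕ} (hv : v < 256) : aU v * aU v = 1 := by
  rw [aU_mul hv hv, Nat.xor_self, aU_zero]

theorem aU_comm {u v : ℕ} (hu : u < 256) (hv : v < 256) : aU u * aU v = aU v * aU u := by
  rw [aU_mul hu hv, aU_mul hv hu, Nat.xor_comm]

theorem aU_eq_one {v : ℕ} (hv : v < 256) (h : aU v = 1) : v = 0 :=
  (frame_spec.2 v hv).2.1 (by rw [← cd_aU hv, h, cd_one])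

theorem aU_eq_zU {v : ℕ} (hv : v < 256) (h : aU v = zU) : v = 255 :=
  (frame_spec.2 v hv).2.2.1 (by rw [← cd_aU hv, h, cd_zU])

theorem aU_inj {u v : ℕ} (hu : u < 256) (hv : v < 256) (h : aU u = aU v) : u = v := by
  have e : aU (u ^^^ v) = 1 := by rw [← aU_mul hu hv, h, aU_sq hv]
  have h0 := aU_eq_one (Nat.xor_lt_two_pow (n := 8) hu hv) e
  rw [← Nat.xor_zero u, ← h0, ← Nat.xor_assoc, Nat.xor_self, Nat.zero_xor]

theorem aUK_mem_P : ∀ k ≤ 8, ∀ v, aUK k v ∈ P
  | 0, _, _ => one_mem _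
  | k + 1, hk, v => mul_mem (aUK_mem_P k (by omega) v)
    (by cases v.testBit k <;> [exact one_mem _; exact bU_mem_P (by omega)])

theorem aU_mem_P (v : ℕ) : aU v ∈ P := aUK_mem_P 8 le_rfl v

theorem aU_mem_Xg (v : ℕ) : aU v ∈ Xg := P_le_Xg (aU_mem_P v)

/-- The parity of the lowest bits of a mask. -/
def parK : ℕ → ℕ → Bool
  | 0, _ => false
  | k + 1, v => xor (parK k v) (v.testBit k)

theorem parK_eight : ∀ v < 256, parK 8 v = parTab.testBit v := by decide +kernel

theorem aUK_mem_L0 : ∀ k ≤ 8, ∀ v, aUK k v ∈ L0 ↔ parK k v = false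
  | 0, _, v => iff_of_true (one_mem _) rfl
  | k + 1, hk, v => by
    rw [aUK, parK]
    cases v.testBit k
    · rw [cond_false, mul_one, Bool.xor_false]; exact aUK_mem_L0 k (by omega) v
    · rw [cond_true, L0_mul_iff (P_le_Xg (aUK_mem_P k (by omega) v))
        (P_le_Xg (bU_mem_P (by omega))), aUK_mem_L0 k (by omega) v]
      simp [bU_not_mem (show k < 8 by omega)]

theorem aU_mem_L0 {v : ℕ} (hv : v < 256) : aU v ∈ L0 ↔ inDom true v = true := by
  rw [aU, aUK_mem_L0 8 le_rfl v, parK_eight v hv, inDom]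
  simp

/-- The frame. -/
noncomputable def A : Subgroup U where
  carrier := {u | ∃ v < 256, aU v = u}
  one_mem' := ⟨0, by norm_num, aU_zero⟩
  mul_mem' := by
    rintro _ _ ⟨u, hu, rfl⟩ ⟨v, hv, rfl⟩
    exact ⟨u ^^^ v, Nat.xor_lt_two_pow (n := 8) hu hv, (aU_mul hu hv).symm⟩
  inv_mem' := by
    rintro _ ⟨u, hu, rfl⟩
    exact ⟨u, hu, (inv_eq_of_mul_eq_one_left (aU_sq hu)).symm⟩

/-- The even part of the frame. -/
noncomputable def A7 : Subgroup U := A ⊓ L0

theorem aU_mem_A {v : ℕ} (hv : v < 256) : aU v ∈ A := ⟨v, hv, rfl⟩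

theorem A_le_P : A ≤ P := by rintro _ ⟨v, -, rfl⟩; exact aU_mem_P v

theorem A_comm {a b : U} (ha : a ∈ A) (hb : b ∈ A) : a * b = b * a := by
  obtain ⟨u, hu, rfl⟩ := ha; obtain ⟨v, hv, rfl⟩ := hb; exact aU_comm hu hv

theorem A_sq {a : U} (ha : a ∈ A) : a * a = 1 := by
  obtain ⟨u, hu, rfl⟩ := ha; exact aU_sq hu

theorem mem_A7 {u : U} : u ∈ A7 ↔ ∃ v < 256, inDom true v = true ∧ aU v = u := by
  constructor
  · rintro ⟨⟨v, hv, rfl⟩, h⟩; exact ⟨v, hv, (aU_mem_L0 hv).1 h, rfl⟩
  · rintro ⟨v, hv, hd, rfl⟩; exact ⟨⟨v, hv, rfl⟩, (aU_mem_L0 hv).2 hd⟩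

theorem A7_le_S : A7 ≤ S := fun _ h => mem_S_of_mem_L0 (A_le_P h.1) h.2

theorem zU_mem_A7 : zU ∈ A7 := mem_A7.2 ⟨255, by norm_num, by decide +kernel, aU_top⟩

theorem card_A : Nat.card A = 256 := by
  rw [← Nat.card_fin 256]
  refine Nat.card_congr (Equiv.ofBijective
    (fun v : Fin 256 => (⟨aU v.val, aU_mem_A v.isLt⟩ : A))
    ⟨fun a b h => Fin.ext (aU_inj a.isLt b.isLt (congrArg Subtype.val h)), ?_⟩).symm
  rintro ⟨_, v, hv, rfl⟩
  exact ⟨⟨v, hv⟩, rfl⟩

theorem dom_even_length : (dom true).length = 128 := by decide +kernel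

theorem card_A7_aux {L : List ℕ} (hnd : L.Nodup)
    (hL : ∀ v, v ∈ L ↔ v < 256 ∧ inDom true v = true) : Nat.card A7 = L.length := by
  rw [← List.toFinset_card_of_nodup hnd, ← Nat.card_eq_finsetCard]
  have hm : ∀ v : (L.toFinset : Finset ℕ), v.1 < 256 ∧ inDom true v.1 = true :=
    fun v => (hL v.1).1 (List.mem_toFinset.1 v.2)
  let f : {v // v ∈ L.toFinset} → A7 := fun v =>
    ⟨aU v.1, mem_A7.2 ⟨v.1, (hm v).1, (hm v).2, rfl⟩⟩
  have hf : Function.Bijective f := by
    refine ⟨fun a b h => Subtype.ext (aU_inj (hm a).1 (hm b).1 (congrArg Subtype.val h)), ?_⟩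
    rintro ⟨u, hu⟩
    obtain ⟨v, hv, hd, rfl⟩ := mem_A7.1 hu
    exact ⟨⟨v, List.mem_toFinset.2 ((hL v).2 ⟨hv, hd⟩)⟩, rfl⟩
  exact (Nat.card_congr (Equiv.ofBijective f hf)).symm

theorem card_A7 : Nat.card A7 = 128 :=
  (card_A7_aux ((List.nodup_range (n := 256)).filter (inDom true))
    (fun v => by rw [List.mem_filter, List.mem_range])).trans dom_even_length

theorem acData_length : acData.length = 256 := by decide +kernel

theorem mem_A_of_cd {u : U} (h : cd u ∈ acData) : u ∈ A := by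
  obtain ⟨v, hv, e⟩ := List.getElem_of_mem h
  have hv' : v < 256 := acData_length ▸ hv
  refine ⟨v, hv', cd_inj ?_⟩
  rw [cd_aU hv', aC, List.getD_eq_getElem _ _ hv, e]

theorem evenBasis_dom : ∀ v ∈ evenBasis, v < 256 ∧ inDom true v = true := by decide +kernel

theorem cent_A7 {u : U} (hu : u ∈ P) (h : ∀ a ∈ A7, u * a = a * u) : u ∈ A := by
  have hc := cent_true
  simp only [centOK, List.all_eq_true, Bool.or_eq_true, Bool.not_eq_true'] at hc
  rcases hc _ (cd_mem_list14 hu) with h' | h'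
  · exfalso
    have ht : (evenBasis.all fun v => cm (cd u) (aC v)) = true := by
      refine List.all_eq_true.2 fun v hv => ?_
      obtain ⟨hv256, hd⟩ := evenBasis_dom v hv
      rw [← cd_aU hv256, cm_iff]
      exact h _ (mem_A7.2 ⟨v, hv256, hd, rfl⟩)
    rw [ht] at h'
    exact Bool.noConfusion h'
  · exact mem_A_of_cd (memL_iff.1 h')

attribute [irreducible] aU bU

/-! ### The second subgroup -/

/-- A set of codes of the second subgroup. -/
def InB2 (B : Subgroup U) : Prop := ∀ u : U, (u ∈ B ↔ cd u ∈ b2Data)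

theorem InB2.exists_mem {B : Subgroup U} (hB : InB2 B) (hc : 128 ≤ Nat.card B) {c : ℕ}
    (h : c ∈ b2Data) : ∃ b ∈ B, cd b = c := by
  classical
  by_contra hne
  push Not at hne
  have hlt : (b2Data.toFinset.erase c).card < 128 := by
    rw [Finset.card_erase_of_mem (List.mem_toFinset.2 h)]
    have := List.toFinset_card_le b2Data
    have : b2Data.length = 128 := by decide +kernel
    omega
  have := Nat.card_le_card_of_injective
    (fun b : B => (⟨cd b.1, Finset.mem_erase.2 ⟨hne _ b.2, List.mem_toFinset.2 ((hB _).1 b.2)⟩⟩ :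
      (b2Data.toFinset.erase c : Finset ℕ)))
    fun a b e => Subtype.ext (cd_inj (congrArg Subtype.val e))
  rw [Nat.card_eq_finsetCard] at this
  omega

theorem InB2.not_outer {B : Subgroup U} (hB : InB2 B) (hc : 128 ≤ Nat.card B) {u : U} (hu : u ∈ P)
    (hl : u ∉ L0) (hcomm : ∀ b ∈ B, u * b = b * u) : False := by
  have h := b2Outer_true
  simp only [b2OuterOK, List.all_eq_true, Bool.not_eq_true'] at h
  have h' := h _ (cd_mem_outer hu hl)
  have ht : (b2Data.all fun b => cm (cd u) b) = true := by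
    refine List.all_eq_true.2 fun c hc' => ?_
    obtain ⟨b, hb, rfl⟩ := hB.exists_mem hc hc'
    exact cm_iff.2 (hcomm b hb)
  rw [ht] at h'
  exact Bool.noConfusion h'

theorem InB2.normal {B : Subgroup U} (hB : InB2 B) (hc : 128 ≤ Nat.card B) {s : U} (hs : s ∈ S) :
    s ∈ Subgroup.normalizer (B : Set U) := by
  revert s
  show S ≤ Subgroup.normalizer (B : Set U)
  rw [S, T, Schur.Pc.tailSubgroup, Subgroup.closure_le]
  rintro _ ⟨i, ⟨hi1, hi2⟩, rfl⟩
  refine Subgroup.mem_normalizer_fintype fun n hn => ?_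
  have h := b2Normal_true
  simp only [b2NormalOK, b2NormalOK.rowOK, mulF_eq, Bool.and_eq_true, List.all_eq_true, List.mem_range,
    List.any_eq_true] at h
  obtain ⟨c, hcm, e⟩ := h.1 (i - 1) (by omega) _ ((hB n).1 hn)
  obtain ⟨b, hb, rfl⟩ := hB.exists_mem hc hcm
  rw [show i - 1 + 1 = i by omega, ← cd_genU, ← cd_mul, ← cd_mul] at e
  show genU i * n * (genU i)⁻¹ ∈ B
  rw [cd_inj (Nat.eq_of_beq_eq_true e), mul_inv_cancel_right]
  exact hb

theorem InB2.central {B : Subgroup U} (hB : InB2 B) {u : U} (hu : u ∈ B)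
    (h : ∀ s ∈ S, s * u = u * s) : u = 1 ∨ u = zU := by
  have hh := b2Normal_true
  simp only [b2NormalOK, Bool.and_eq_true, List.all_eq_true, Bool.or_eq_true,
    Bool.not_eq_true'] at hh
  rcases hh.2 _ ((hB u).1 hu) with (h' | h') | h'
  · exfalso
    have ht : ((List.range 13).all fun k => cm (genC (k + 1)) (cd u)) = true := by
      refine List.all_eq_true.2 fun k hk => ?_
      rw [← cd_genU, cm_iff]
      exact h _ (gen_mem_tailSubgroup genU (by omega)
        (by have := List.mem_range.1 hk; omega))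
    rw [ht] at h'
    exact Bool.noConfusion h'
  · exact Or.inl (cd_inj (by rw [cd_one]; exact Nat.eq_of_beq_eq_true h'))
  · exact Or.inr (cd_inj (by rw [cd_zU]; exact Nat.eq_of_beq_eq_true h'))

/-! ### Ranks -/

/-- An element minus the identity, modulo two. -/
noncomputable def mred (u : U) : Matrix (Fin 8) (Fin 8) (ZMod 2) :=
  ((u : M8) - 1).map (ZMod.castHom two_dvd_four (ZMod 2))

/-- An element minus the identity has rank at most two modulo two. -/
def RankTwo (u : U) : Prop := ∃ a b c d : Fin 8 → ZMod 2,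
  mred u = Matrix.vecMulVec a b + Matrix.vecMulVec c d

/-- An element minus the identity is a product of a column and a row. -/
def RankOne (u : U) : Prop := ∃ a b : Fin 8 → ZMod 4, (u : M8) - 1 = Matrix.vecMulVec a b

theorem conj_sub_one (y u : U) :
    ((y * u * y⁻¹ : U) : M8) - 1 = (y : M8) * ((u : M8) - 1) * ((y⁻¹ : U) : M8) := by
  rw [Matrix.mul_sub, Matrix.sub_mul, Matrix.mul_one, ← Units.val_mul, ← Units.val_mul,
    ← Units.val_mul, mul_inv_cancel, Units.val_one]

theorem RankOne.conj {u : U} (h : RankOne u) (y : U) : RankOne (y * u * y⁻¹) := by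
  obtain ⟨a, b, e⟩ := h
  exact ⟨Matrix.mulVec (y : M8) a, Matrix.vecMul b ((y⁻¹ : U) : M8), by
    rw [conj_sub_one, e, Matrix.mul_vecMulVec, Matrix.vecMulVec_mul]⟩

theorem RankTwo.conj {u : U} (h : RankTwo u) (y : U) : RankTwo (y * u * y⁻¹) := by
  obtain ⟨a, b, c, d, e⟩ := h
  let φ := ZMod.castHom two_dvd_four (ZMod 2)
  refine ⟨Matrix.mulVec ((y : M8).map φ) a, Matrix.vecMul b (((y⁻¹ : U) : M8).map φ),
    Matrix.mulVec ((y : M8).map φ) c, Matrix.vecMul d (((y⁻¹ : U) : M8).map φ), ?_⟩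
  rw [mred, conj_sub_one, Matrix.map_mul, Matrix.map_mul, show ((u : M8) - 1).map φ = mred u from rfl,
    e, Matrix.mul_add, Matrix.add_mul, Matrix.mul_vecMulVec, Matrix.vecMulVec_mul,
    Matrix.mul_vecMulVec, Matrix.vecMulVec_mul]

theorem three_eq : (3 : ZMod 4) = -1 := by decide

theorem sub_one_apply (u : U) (i j : Fin 8) :
    ((u : M8) - 1) i j = ((entryAt (cd u) i j : ℕ) : ZMod 4) := by
  rw [Matrix.sub_apply, entryAt, Nat.cast_add, ← coe_cd u]
  show ((dig (cd u) (8 * i.val + j.val) : ℕ) : ZMod 4) - _ = _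
  by_cases h : i = j
  · subst h; rw [Matrix.one_apply_eq, Nat.beq_refl, cond_true, Nat.cast_ofNat, three_eq, sub_eq_add_neg]
  · rw [Matrix.one_apply_ne h, show Nat.beq i.val j.val = false from Bool.eq_false_iff.2 fun e =>
      h (Fin.ext (Nat.eq_of_beq_eq_true e)), cond_false, Nat.cast_zero, sub_zero, add_zero]

theorem mred_apply (u : U) (i j : Fin 8) :
    mred u i j = ((entryAt (cd u) i j : ℕ) : ZMod 2) := by
  rw [mred, Matrix.map_apply, sub_one_apply, map_natCast]

theorem rankTwo_of_dec {u : U} {d : ℕ} (h : decOK (cd u) d = true) : RankTwo u := by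
  refine ⟨fun i => ((if (d % 256).testBit i.val then 1 else 0 : ℕ) : ZMod 2),
    fun j => ((if (d / 256 % 256).testBit j.val then 1 else 0 : ℕ) : ZMod 2),
    fun i => ((if (d / 65536 % 256).testBit i.val then 1 else 0 : ℕ) : ZMod 2),
    fun j => ((if (d / 16777216 % 256).testBit j.val then 1 else 0 : ℕ) : ZMod 2), ?_⟩
  simp only [decOK, List.all_eq_true, List.mem_range] at h
  ext i j
  have e := Nat.eq_of_beq_eq_true (h i.val i.isLt j.val j.isLt)
  rw [mred_apply, Matrix.add_apply, Matrix.vecMulVec_apply, Matrix.vecMulVec_apply, ← ZMod.natCast_mod,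
    e, ZMod.natCast_mod, ← Nat.cast_mul, ← Nat.cast_mul, ← Nat.cast_add]
  cases (d % 256).testBit i.val <;> cases (d / 256 % 256).testBit j.val <;>
    cases (d / 65536 % 256).testBit i.val <;> cases (d / 16777216 % 256).testBit j.val <;> rfl

theorem not_rankTwo {u : U} {d : ℕ} (h : minor3OK (cd u) d = true) : ¬ RankTwo u := by
  rintro ⟨a, b, a', b', e⟩
  let r : ℕ → Fin 8 := fun k => ⟨d / 8 ^ k % 8, Nat.mod_lt _ (by norm_num)⟩
  have hE : ∀ p q, ((entryAt (cd u) (d / 8 ^ p % 8) (d / 8 ^ (3 + q) % 8) : ℕ) : ZMod 2) =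
      a (r p) * b (r (3 + q)) + a' (r p) * b' (r (3 + q)) := fun p q => by
    have h1 := congrFun (congrFun e (r p)) (r (3 + q))
    rwa [mred_apply, Matrix.add_apply, Matrix.vecMulVec_apply, Matrix.vecMulVec_apply] at h1
  have h' := congrArg (fun n : ℕ => (n : ZMod 2)) (Nat.eq_of_beq_eq_true h)
  simp only [ZMod.natCast_mod, Nat.cast_add, Nat.cast_mul, hE, Nat.cast_one] at h'
  generalize a (r 0) = p0, a (r 1) = p1, a (r 2) = p2, a' (r 0) = q0, a' (r 1) = q1, a' (r 2) = q2,
    b (r (3 + 0)) = s0, b (r (3 + 1)) = s1, b (r (3 + 2)) = s2,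
    b' (r (3 + 0)) = t0, b' (r (3 + 1)) = t1, b' (r (3 + 2)) = t2 at h'
  have h2 : (2 : ZMod 2) = 0 := rfl
  have key : (0 : ZMod 2) = 1 := by
    refine Eq.trans ?_ h'
    linear_combination (-(1 : ZMod 2)) * ((p0*s0+q0*t0)*((p1*s1+q1*t1)*(p2*s2+q2*t2)) +
      (p0*s1+q0*t1)*((p1*s2+q1*t2)*(p2*s0+q2*t0)) + (p0*s2+q0*t2)*((p1*s0+q1*t0)*(p2*s1+q2*t1))) * h2
  exact zero_ne_one key

theorem rankOne_bU {i : ℕ} (hi : i < 8) : RankOne (bU i) := by
  have h := ranks_true
  simp only [ranksOK, Bool.and_eq_true, List.all_eq_true, List.mem_range, vecOK] at h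
  have hv := h.1.2 i hi
  set d := frameVecs.getD i (0, 0)
  refine ⟨fun j => ((d.1 / 4 ^ j.val % 4 : ℕ) : ZMod 4),
    fun j => ((d.2 / 4 ^ j.val % 4 : ℕ) : ZMod 4), ?_⟩
  ext p q
  rw [Matrix.vecMulVec_apply, sub_one_apply, cd_bU hi, ← Nat.cast_mul, ← ZMod.natCast_mod,
    Nat.eq_of_beq_eq_true (hv p p.isLt q q.isLt), ZMod.natCast_mod]

theorem weight_one_of_rankOne {v : ℕ} (hv : v < 256) (h : RankOne (aU v)) :
    v = 0 ∨ v = 255 ∨ ∃ j < 8, v = 2 ^ j := by
  have hm := minors_true
  simp only [minorsOK, Bool.and_eq_true, List.all_eq_true, List.any_eq_true, List.mem_range,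
    Bool.or_eq_true] at hm
  rcases hm.1.1 v hv with ((h0 | h0) | ⟨j, hj, h0⟩) | h0
  · exact Or.inl (Nat.eq_of_beq_eq_true h0)
  · exact Or.inr (Or.inl (Nat.eq_of_beq_eq_true h0))
  · exact Or.inr (Or.inr ⟨j, hj, Nat.eq_of_beq_eq_true h0⟩)
  · exfalso
    obtain ⟨a, b, e⟩ := h
    set d := minor2.getD v 0
    simp only [minor2OK, Bool.not_eq_true'] at h0
    have hE : ∀ p q : Fin 8, ((entryAt (aC v) p q : ℕ) : ZMod 4) = a p * b q := fun p q => by
      rw [← cd_aU hv, ← sub_one_apply, e, Matrix.vecMulVec_apply]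
    have hE' := fun p q => hE ⟨p % 8, Nat.mod_lt _ (by norm_num)⟩ ⟨q % 8, Nat.mod_lt _ (by norm_num)⟩
    simp only at hE'
    have hz : (((entryAt (aC v) (d % 8) (d / 64 % 8) * entryAt (aC v) (d / 8 % 8) (d / 512 % 8) +
        3 * (entryAt (aC v) (d % 8) (d / 512 % 8) * entryAt (aC v) (d / 8 % 8) (d / 64 % 8))) : ℕ) :
          ZMod 4) = 0 := by
      rw [Nat.cast_add, Nat.cast_mul, Nat.cast_mul, Nat.cast_mul, hE' d (d / 64), hE' (d / 8) (d / 512),
        hE' d (d / 512), hE' (d / 8) (d / 64), Nat.cast_ofNat, three_eq]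
      ring
    rw [Nat.mod_eq_zero_of_dvd ((ZMod.natCast_eq_zero_iff _ _).1 hz)] at h0
    exact Bool.noConfusion h0

theorem rankTwo_block {m : ℕ} (hm : m ∈ [15, 51, 85, 150]) : RankTwo (aU m) := by
  have h := ranks_true
  simp only [ranksOK, Bool.and_eq_true, List.all_eq_true, List.mem_range] at h
  obtain ⟨k, hk, e⟩ := List.getElem_of_mem hm
  have hk4 : k < 4 := by simpa using hk
  have hd := h.2 k hk4
  have h256 : m < 256 :=
    (show ∀ m ∈ [15, 51, 85, 150], m < 256 by decide) m hm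
  rw [List.getD_eq_getElem _ _ hk, e, ← cd_aU h256] at hd
  exact rankTwo_of_dec hd

theorem block_of_rankTwo {a b c d : ℕ} (ha : a < 8) (hb : b < 8) (hc : c < 8) (hd : d < 8)
    (hne : a ≠ b ∧ a ≠ c ∧ a ≠ d ∧ b ≠ c ∧ b ≠ d ∧ c ≠ d) (hlt : 2 ^ a + 2 ^ b + 2 ^ c + 2 ^ d < 256)
    (h : RankTwo (aU (2 ^ a + 2 ^ b + 2 ^ c + 2 ^ d))) : d = a ^^^ b ^^^ c := by
  have hm := minors_true
  simp only [minorsOK, Bool.and_eq_true, List.all_eq_true, List.mem_range, Bool.or_eq_true] at hm
  obtain ⟨h1, h2, h3, h4, h5, h6⟩ := hne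
  rcases hm.1.2 a ha b hb c hc d hd with ((((((e | e) | e) | e) | e) | e) | e) | e
  · exact absurd (Nat.eq_of_beq_eq_true e) h1
  · exact absurd (Nat.eq_of_beq_eq_true e) h2
  · exact absurd (Nat.eq_of_beq_eq_true e) h3
  · exact absurd (Nat.eq_of_beq_eq_true e) h4
  · exact absurd (Nat.eq_of_beq_eq_true e) h5
  · exact absurd (Nat.eq_of_beq_eq_true e) h6
  · have e' := Nat.eq_of_beq_eq_true e
    calc d = (a ^^^ b ^^^ c) ^^^ (a ^^^ b ^^^ c ^^^ d) := by
          rw [← Nat.xor_assoc (a ^^^ b ^^^ c), Nat.xor_self, Nat.zero_xor]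
      _ = a ^^^ b ^^^ c := by rw [e', Nat.xor_zero]
  · rw [← cd_aU hlt] at e; exact absurd h (not_rankTwo e)

theorem A7_not_B2 {B : Subgroup U} (hB : InB2 B) (y : U) (h : ∀ a ∈ A7, y * a * y⁻¹ ∈ B) : False := by
  have h23 : aU 23 ∈ A7 := mem_A7.2 ⟨23, by norm_num, by decide +kernel, rfl⟩
  obtain ⟨k, hk, e⟩ := List.getElem_of_mem ((hB _).1 (h _ h23))
  have hr := ranks_true
  simp only [ranksOK, Bool.and_eq_true, List.all_eq_true, List.mem_range] at hr
  have hk' : k < 128 := lt_of_lt_of_eq hk (by decide +kernel)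
  have hd := (hr.1.1.2 k hk').2
  rw [List.getD_eq_getElem _ _ hk, e] at hd
  have h2 := (rankTwo_of_dec hd).conj y⁻¹
  rw [show y⁻¹ * (y * aU 23 * y⁻¹) * (y⁻¹)⁻¹ = aU 23 by group] at h2
  have hm := minors_true
  simp only [minorsOK, Bool.and_eq_true] at hm
  refine not_rankTwo (d := minor3.getD 23 0) ?_ h2
  rw [cd_aU (by norm_num)]
  exact hm.2

/-! ### The search -/

theorem canon_cases (u : U) : canon (cd u) = cd u ∨ canon (cd u) = cd (u * zU) := by
  rw [canon, force_eq, mulF_eq, ← cd_zU, ← cd_mul]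
  cases Nat.blt (cd (u * zU)) (cd u) <;> simp

theorem mul_zU_zU (u : U) : u * zU * zU = u := by rw [mul_assoc, zU_sq, mul_one]

theorem canon_mul_zU (u : U) : canon (cd (u * zU)) = canon (cd u) := by
  rw [canon, canon, force_eq, force_eq, mulF_eq, mulF_eq, ← cd_zU, ← cd_mul, ← cd_mul, mul_zU_zU]
  rcases Nat.lt_trichotomy (cd u) (cd (u * zU)) with h | h | h
  · rw [show Nat.blt (cd u) (cd (u * zU)) = true from Nat.ble_eq_true_of_le h,
      show Nat.blt (cd (u * zU)) (cd u) = false from Bool.eq_false_iff.2 fun e =>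
        absurd (Nat.le_of_ble_eq_true e) (by omega)]
    rfl
  · rw [← h, show Nat.blt (cd u) (cd u) = false from Bool.eq_false_iff.2 fun e =>
      absurd (Nat.le_of_ble_eq_true e) (by omega)]
  · rw [show Nat.blt (cd (u * zU)) (cd u) = true from Nat.ble_eq_true_of_le h,
      show Nat.blt (cd u) (cd (u * zU)) = false from Bool.eq_false_iff.2 fun e =>
        absurd (Nat.le_of_ble_eq_true e) (by omega)]
    rfl

theorem search_mapC_eq (g : ℕ) : ∀ els : List ℕ,
    search.mapC g els = els.map fun e => canon (mulC g e)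
  | [] => rfl
  | e :: els => by rw [search.mapC, force_eq, mulF_eq, search_mapC_eq g els, List.map_cons]

theorem card_le_two_mul {B : Subgroup U} {L : List ℕ}
    (hcov : ∀ b ∈ B, canon (cd b) ∈ L) : Nat.card B ≤ 2 * L.length := by
  classical
  let f : B → L.toFinset × Bool := fun b =>
    (⟨canon (cd b.1), List.mem_toFinset.2 (hcov _ b.2)⟩, decide (canon (cd b.1) = cd b.1))
  have hf : Function.Injective f := by
    intro a b h
    simp only [f, Prod.mk.injEq, Subtype.mk.injEq, decide_eq_decide] at h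
    obtain ⟨h1, h2⟩ := h
    by_cases ha : canon (cd a.1) = cd a.1
    · exact Subtype.ext (cd_inj (ha.symm.trans (h1.trans (h2.1 ha))))
    · have hb : ¬ canon (cd b.1) = cd b.1 := fun e => ha (h2.2 e)
      have e := cd_inj (((canon_cases a.1).resolve_left ha).symm.trans
        (h1.trans ((canon_cases b.1).resolve_left hb)))
      exact Subtype.ext (mul_right_cancel e)
  have := Nat.card_le_card_of_injective f hf
  rw [Nat.card_prod, Nat.card_eq_finsetCard, show Nat.card Bool = 2 by simp] at this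
  have := List.toFinset_card_le L
  omega

theorem search_sound {B : Subgroup U} (hz : zU ∈ B) (hcomm : ∀ a ∈ B, ∀ b ∈ B, a * b = b * a)
    (hcard : 128 ≤ Nat.card B) : ∀ (fuel : ℕ) (els cands : List ℕ),
      search fuel els cands = true → canon oneC ∈ els → (∀ e ∈ els, ∃ b ∈ B, cd b = e) →
      (∀ b ∈ B, canon (cd b) ∈ els ++ cands) →
      (∀ b ∈ B, cd b ∈ a7List) ∨ ∀ b ∈ B, cd b ∈ b2Data
  | 0, _, _, h, _, _, _ => by simp [search] at h
  | fuel + 1, els, cands, h, hone, hels, hcov => by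
    rw [search.eq_def, Bool.or_eq_true] at h
    rcases h with h | h
    · exfalso
      have h1 := card_le_two_mul hcov
      rw [List.length_append] at h1
      have := Nat.le_of_ble_eq_true h
      omega
    cases cands with
    | nil =>
      have key : ∀ L, inBoth L els = true → ∀ b ∈ B, cd b ∈ L := by
        intro L hL b hb
        simp only [inBoth, mulF_eq, List.all_eq_true, Bool.and_eq_true] at hL
        have hm := hcov b hb
        rw [List.append_nil] at hm
        obtain ⟨h1, h2⟩ := hL _ hm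
        rcases canon_cases b with e | e <;> rw [e] at h1 h2
        · exact memL_iff.1 h1
        · rw [← cd_zU, ← cd_mul, mul_zU_zU] at h2; exact memL_iff.1 h2
      simp only [Bool.or_eq_true] at h
      exact h.imp (key _) (key _)
    | cons g rest =>
      simp only [Bool.and_eq_true] at h
      obtain ⟨hex, hin⟩ := h
      by_cases hg : ∃ b ∈ B, cd b = g
      · obtain ⟨bg, hbg, rfl⟩ := hg
        simp only [search_mapC_eq, Bool.or_eq_true, Bool.not_eq_true'] at hin
        have hnew : ∀ n ∈ els.map (fun e => canon (mulC (cd bg) e)), ∃ b ∈ B, cd b = n := by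
          intro n hn
          obtain ⟨e, he, rfl⟩ := List.mem_map.1 hn
          obtain ⟨b, hb, rfl⟩ := hels e he
          rw [← cd_mul]
          rcases canon_cases (bg * b) with e' | e' <;> rw [e']
          · exact ⟨_, mul_mem hbg hb, rfl⟩
          · exact ⟨_, mul_mem (mul_mem hbg hb) hz, rfl⟩
        rcases hin with hin | hin
        · exfalso
          refine Bool.eq_false_iff.1 hin (List.all_eq_true.2 fun n hn => ?_)
          obtain ⟨e, he, rfl⟩ := List.mem_map.1 hn
          obtain ⟨b, hb, rfl⟩ := hels e he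
          rw [← cd_mul]
          simpa [memL_iff, List.mem_append] using hcov _ (mul_mem hbg hb)
        · refine search_sound hz hcomm hcard fuel _ _ hin (List.mem_append_left _ hone) ?_ ?_
          · intro e he
            rcases List.mem_append.1 he with he | he
            exacts [hels e he, hnew e he]
          · intro b hb
            rw [List.mem_append, List.mem_append]
            rcases List.mem_append.1 (hcov b hb) with h' | h'
            · exact Or.inl (Or.inl h')
            rcases List.mem_cons.1 h' with h' | h'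
            · -- the element is `bg` up to the centre, so it is among the new ones
              have hb1 : canon (cd b) = canon (cd bg) := by
                rcases canon_cases b with e | e <;> rw [e] at h'
                · rw [cd_inj h']
                · rw [← cd_inj h', canon_mul_zU]
              obtain ⟨u, hu, hu'⟩ : ∃ u ∈ els, canon (mulC (cd bg) u) = canon (cd bg) := by
                refine ⟨_, hone, ?_⟩
                rw [← cd_one]
                rcases canon_cases 1 with e | e <;> rw [e, ← cd_mul]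
                · rw [mul_one]
                · rw [one_mul, canon_mul_zU]
              exact Or.inl (Or.inr (List.mem_map.2 ⟨u, hu, hu'.trans hb1.symm⟩))
            · by_cases hn : canon (cd b) ∈ els.map fun e => canon (mulC (cd bg) e)
              · exact Or.inl (Or.inr hn)
              · refine Or.inr (List.mem_filter.2 ⟨h', ?_⟩)
                rw [Bool.and_eq_true, Bool.not_eq_true', Bool.eq_false_iff, Ne, memL_iff]
                refine ⟨hn, ?_⟩
                rcases canon_cases b with e | e <;> rw [e, cm_iff]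
                · exact hcomm _ hbg _ hb
                · exact hcomm _ hbg _ (mul_mem hb hz)
      · refine search_sound hz hcomm hcard fuel _ _ hex hone hels fun b hb => ?_
        rcases List.mem_append.1 (hcov b hb) with h' | h'
        · exact List.mem_append_left _ h'
        rcases List.mem_cons.1 h' with h' | h'
        · exfalso
          rcases canon_cases b with e | e <;> rw [e] at h'
          · exact hg ⟨b, hb, h'⟩
          · exact hg ⟨_, mul_mem hb hz, h'⟩
        · exact List.mem_append_right _ h'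

end CfsgLib.StdDoubleO8
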