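import Cfsg.Agent.StdDoubleO8.OrbitData
import Mathlib.Data.List.Perm.Basic
import Mathlib.Data.Nat.Bitwise
import Mathlib.Data.Fintype.Fin
import Mathlib.Algebra.BigOperators.Group.List.Basic
import Mathlib.Tactic.Ring
import Mathlib.Tactic.IntervalCases
import Mathlib.Tactic.NormNum

/-!
Masks of eight bits with the blocks of the affine space of dimension three, the permutations
preserving the blocks, and their profiles.
-/

set_option autoImplicit false
set_option maxRecDepth 100000

namespace CfsgLib.StdDoubleO8

/-- The image of the point `i` under the coded permutation `p`. -/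
def pd (p i : ℕ) : ℕ := p / 8 ^ i % 8

/-- The image of the first `k` bits of a mask. -/
def pimK (p : ℕ) : ℕ → ℕ → ℕ
  | 0, _ => 0
  | k + 1, v => pimK p k v + bif v.testBit k then 2 ^ pd p k else 0

/-- The image of a mask. -/
def pim (p v : ℕ) : ℕ := pimK p 8 v

/-- The images of all masks of `k` bits. -/
def imgs (p : ℕ) : ℕ → List ℕ
  | 0 => [0]
  | k + 1 => imgs p k ++ (imgs p k).map fun w => w + 2 ^ pd p k

theorem pimK_congr (p : ℕ) : ∀ {k u v : ℕ}, (∀ i < k, u.testBit i = v.testBit i) →
    pimK p k u = pimK p k v
  | 0, _, _, _ => rfl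
  | k + 1, u, v, h => by
    rw [pimK, pimK, pimK_congr p (fun i hi => h i (by omega)), h k (Nat.lt_succ_self k)]

theorem imgs_eq (p : ℕ) : ∀ k, imgs p k = (List.range (2 ^ k)).map (pimK p k)
  | 0 => rfl
  | k + 1 => by
    rw [imgs, imgs_eq p k, show 2 ^ (k + 1) = 2 ^ k + 2 ^ k by ring, List.range_add, List.map_append,
      List.map_map, List.map_map]
    congr 1
    · refine List.map_congr_left fun v hv => ?_
      rw [pimK, Nat.testBit_lt_two_pow (List.mem_range.1 hv), cond_false, Nat.add_zero]
    · refine List.map_congr_left fun v hv => ?_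
      show pimK p k v + 2 ^ pd p k = pimK p (k + 1) (2 ^ k + v)
      rw [pimK, Nat.testBit_two_pow_add_eq, Nat.testBit_lt_two_pow (List.mem_range.1 hv),
        Bool.not_false, cond_true, pimK_congr p (u := 2 ^ k + v) (v := v)]
      exact fun i hi => Nat.testBit_two_pow_add_gt hi v

/-- The parities of the weights of the masks. -/
def parTab : ℕ := 0x6996966996696996966969966996966996696996699696696996966996696996

/-- The classes of the masks, four bits each. -/
def clsTab : ℕ :=
  0x8115155315535336155353375337377215535337533737725336377237726224155353375337377253373672376272245337376236727224377272247224244015535337533737725337376236727224533736723762722437727224722424405336377237726224377272247224244037727224722424406224244024404008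

/-- The domain: all masks, or the even ones. -/
def inDom (e : Bool) (v : ℕ) : Bool := !e || !parTab.testBit v

/-- The class of a mask. -/
def cls (v : ℕ) : ℕ := clsTab >>> (4 * v) % 16

/-- The masks of the domain. -/
def dom (e : Bool) : List ℕ := (List.range 256).filter (inDom e)

/-- The histogram of classes. -/
def hist (L : List ℕ) : List ℕ := (List.range 8).map fun c => L.countP fun v => Nat.beq (cls v) c

/-- The fixed masks. -/
def fixed (e : Bool) (p : ℕ) : List ℕ := (dom e).filter fun v => Nat.beq (pim p v) v

/-- The image of `p - 1`. -/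
def imList (e : Bool) (p : ℕ) : List ℕ := (dom e).map fun a => pim p a ^^^ a

/-- The profile. -/
def profile (e : Bool) (p : ℕ) : List ℕ × Bool × List ℕ :=
  (hist (fixed e p), decide (255 ∈ imList e p),
    hist ((fixed e p).filter fun v => decide (v ∈ imList e p)))

/-- A set of numbers as a bit mask. -/
def bitsOf (L : List ℕ) : ℕ := L.foldl (fun m x => m ||| 2 ^ x) 0

theorem testBit_bitsOf (L : List ℕ) (v : ℕ) : (bitsOf L).testBit v = decide (v ∈ L) := by
  have h : ∀ (L : List ℕ) (m : ℕ),
      (L.foldl (fun m x => m ||| 2 ^ x) m).testBit v = (m.testBit v || decide (v ∈ L)) := by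
    intro L
    induction L with
    | nil => intro m; simp
    | cons x L ih =>
      intro m
      rw [List.foldl_cons, ih, Nat.testBit_or, Nat.testBit_two_pow]
      simp only [List.mem_cons, Bool.decide_or, eq_comm (a := x), Bool.or_assoc]
  rw [bitsOf, h, Nat.zero_testBit, Bool.false_or]

/-- One pass over the list of images: the image of `p - 1` as a bit mask and the fixed masks. -/
def scan (e : Bool) : List ℕ → ℕ → ℕ → List ℕ → ℕ × List ℕ
  | [], _, m, F => (m, F)
  | w :: L, v, m, F =>
    bif inDom e v then
      bif Nat.beq w v then scan e L (v + 1) (m ||| 2 ^ (w ^^^ v)) (v :: F)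
      else scan e L (v + 1) (m ||| 2 ^ (w ^^^ v)) F
    else scan e L (v + 1) m F

theorem scan_spec (e : Bool) (p : ℕ) : ∀ (n v m : ℕ) (F : List ℕ),
    scan e ((List.range' v n).map (pim p)) v m F =
      ((((List.range' v n).filter (inDom e)).map fun a => pim p a ^^^ a).foldl
          (fun m x => m ||| 2 ^ x) m,
        (((List.range' v n).filter (inDom e)).filter fun a => Nat.beq (pim p a) a).reverse ++ F)
  | 0, _, _, _ => rfl
  | n + 1, v, m, F => by
    rw [List.range'_succ, List.map_cons, scan]
    cases hv : inDom e v
    · simp [hv, scan_spec e p n]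
    · cases hw : Nat.beq (pim p v) v
      · simp [hv, hw, scan_spec e p n]
      · simp [hv, hw, scan_spec e p n, List.append_assoc]

/-- The profile, computed. -/
def profileC (e : Bool) (p : ℕ) : List ℕ × Bool × List ℕ :=
  let r := scan e (imgs p 8) 0 0 []
  (hist r.2, r.1.testBit 255, hist (r.2.filter r.1.testBit))

theorem hist_reverse (L : List ℕ) : hist L.reverse = hist L := by
  simp only [hist, List.countP_reverse]

theorem profileC_eq (e : Bool) (p : ℕ) : profileC e p = profile e p := by
  have h := scan_spec e p 256 0 0 []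
  rw [← List.range_eq_range', List.append_nil] at h
  have hi : imgs p 8 = (List.range 256).map (pim p) := imgs_eq p 8
  simp only [profileC, hi, h, profile, hist_reverse, List.filter_reverse]
  show (hist (fixed e p), (bitsOf (imList e p)).testBit 255,
      hist ((fixed e p).filter (bitsOf (imList e p)).testBit)) = _
  rw [testBit_bitsOf, List.filter_congr fun v _ => testBit_bitsOf (imList e p) v]

/-- The code of a permutation. -/
def codeOf (f : ℕ → ℕ) : ℕ :=
  f 0 + 8 * f 1 + 64 * f 2 + 512 * f 3 + 4096 * f 4 + 32768 * f 5 + 262144 * f 6 + 2097152 * f 7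

/-- The candidate determined by the images of an affine frame. -/
def cand (a b c d : ℕ) : ℕ :=
  a + 8 * b + 64 * c + 512 * (a ^^^ b ^^^ c) + 4096 * d + 32768 * (a ^^^ b ^^^ d) +
    262144 * (a ^^^ c ^^^ d) + 2097152 * (b ^^^ c ^^^ d)

theorem pd_codeOf {f : ℕ → ℕ} (hf : ∀ i, f i < 8) : ∀ i < 8, pd (codeOf f) i = f i := by
  intro i hi
  have := hf 0; have := hf 1; have := hf 2; have := hf 3
  have := hf 4; have := hf 5; have := hf 6; have := hf 7
  interval_cases i <;> simp only [pd, codeOf] <;> norm_num <;> omega

/-- The permutations of the groups of a table. -/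
def permsOf (T : List ((List ℕ × Bool × List ℕ) × List ℕ)) : List ℕ := T.flatMap Prod.snd

/-- The key of a coded permutation: the images of an affine frame. -/
def keyP (p : ℕ) : ℕ := pd p 0 + 8 * pd p 1 + 64 * pd p 2 + 512 * pd p 4

/-- The keys of a list are new and distinct. -/
def freshB : List ℕ → ℕ → Bool
  | [], _ => true
  | p :: L, m => !m.testBit (keyP p) && freshB L (m ||| 2 ^ keyP p)

theorem freshB_spec : ∀ {L : List ℕ} {m : ℕ}, freshB L m = true →
    L.Nodup ∧ ∀ p ∈ L, m.testBit (keyP p) = false
  | [], _, _ => ⟨List.nodup_nil, fun _ h => absurd h List.not_mem_nil⟩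
  | p :: L, m, h => by
    simp only [freshB, Bool.and_eq_true, Bool.not_eq_true'] at h
    obtain ⟨h1, h2⟩ := freshB_spec h.2
    simp only [Nat.testBit_or, Nat.testBit_two_pow, Bool.or_eq_false_iff, decide_eq_false_iff_not]
      at h2
    refine ⟨List.nodup_cons.2 ⟨fun hp => (h2 p hp).2 rfl, h1⟩, fun q hq => ?_⟩
    rcases List.mem_cons.1 hq with rfl | hq
    · exact h.1
    · exact (h2 q hq).1

end CfsgLib.StdDoubleO8
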