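import Cfsg.Agent.StdDoubleO8.Cover

/-!
The double cover `2.Ω⁺₈(2)` as matrices modulo four, the extension by a reflection, and its
automorphisms.
-/

set_option autoImplicit false
set_option linter.style.haveILetI false
set_option maxRecDepth 20000

namespace CfsgLib.StdDoubleO8

open CfsgLib.OPlusEightTwo CfsgLib.Schur.Pc

/-- Matrices modulo four. -/
abbrev M8 : Type := Matrix (Fin 8) (Fin 8) (ZMod 4)

/-- The units. -/
abbrev U : Type := M8ˣ

instance finite_U : Finite U := Finite.of_injective (fun u : U => (u : M8)) fun _ _ h => Units.ext h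

/-- The projection to the first matrix. -/
noncomputable def p1 : E →* U := (Units.map (MonoidHom.fst M8 M8)).comp sys.grp.subtype

/-- The code of the first matrix of an element of the table. -/
def c1 (a : ℕ) : ℕ := (sys.tab.get a).code.1

theorem wf_c1 {a : ℕ} : wf (c1 a) = true := by
  have h := sys_ok
  simp only [Sys.OK, Bool.and_eq_true] at h
  have hv := Tab.all_get h.1.1 a
  simp only [Entry.valid, wfP, Bool.and_eq_true] at hv
  exact hv.1.1.1.1

theorem coe_p1 {a : ℕ} (ha : a < sys.len) : ((p1 (x a) : U) : M8) = toM (c1 a) := by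
  show (((x a : E) : Ambˣ) : Amb).1 = _
  rw [show ((x a : E) : Ambˣ) = sys.el a from by simp [OPlusEightTwo.x, Sys.x, ha], Sys.val_el sys_ok]
  rfl

/-- The double cover. -/
noncomputable def L0 : Subgroup U := p1.range

/-- The code of the reflection. -/
def rC : ℕ :=
  0x2000000030000000201000002000000020001000200000000000001000000000300000002000000020000000201000000000000000001000000000000000001

theorem rC_ok : (wf rC && Nat.beq (mulC rC rC) oneC) = true := by decide +kernel

theorem rC_sq : toM rC * toM rC = 1 := by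
  have h := rC_ok
  rw [Bool.and_eq_true] at h
  rw [← toM_mulC h.1 h.1, Nat.eq_of_beq_eq_true h.2, toM_oneC]

/-- The reflection. -/
def rU : U := ⟨toM rC, toM rC, rC_sq, rC_sq⟩

/-- The extension of the double cover by the reflection. -/
noncomputable def Xg : Subgroup U := L0 ⊔ Subgroup.zpowers rU

/-- The central involution. -/
noncomputable def zU : U := p1 (x 16)

/-- The reflection permutes the generators. -/
def piRef (a : ℕ) : ℕ := [0, 1, 3, 2, 4, 5, 7, 6].getD a 0

/-- The checks on the projection and on the reflection. -/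
def modelOK : Bool :=
  ((List.range 8).all fun a => Nat.blt (piRef a) 8 &&
    Nat.beq (mulC (mulC rC (c1 a)) rC) (c1 (piRef a))) &&
  Nat.beq (c1 17) oneC && !Nat.beq (c1 16) oneC && Nat.blt 17 sys.len

theorem model_ok : modelOK = true := by decide +kernel

theorem len17 : 17 < sys.len := by
  have h := model_ok
  simp only [modelOK, Bool.and_eq_true] at h
  exact Nat.le_of_ble_eq_true h.2

theorem p1_17 : p1 (x 17) = 1 := by
  have h := model_ok
  simp only [modelOK, Bool.and_eq_true] at h
  exact Units.ext (by rw [coe_p1 len17, Nat.eq_of_beq_eq_true h.1.1.2, toM_oneC, Units.val_one])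

theorem zU_ne_one : zU ≠ 1 := by
  intro e
  have h := model_ok
  simp only [modelOK, Bool.and_eq_true, Bool.not_eq_true'] at h
  have e' : toM (c1 16) = toM oneC := by
    rw [← coe_p1 (lt_trans (by norm_num) len17), show p1 (x 16) = 1 from e, Units.val_one, toM_oneC]
  have e'' := congrArg encM e'
  rw [encM_toM wf_c1, encM_toM wf_oneC] at e''
  rw [e''] at h
  simp at h

theorem x16_sq : x 16 * x 16 = 1 := (zAt_spec (i := 0) (by norm_num)).2.2

theorem x17_sq : x 17 * x 17 = 1 := (zAt_spec (i := 1) (by norm_num)).2.2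

theorem toG_eq_one_of_p1 {g : E} (hg : p1 g = 1) : toG g = 1 := by
  have hrep : rep g = 1 := by
    refine Units.ext (Matrix.ext fun c d => ?_)
    show ZMod.castHom two_dvd_four (ZMod 2) ((((g : E) : Ambˣ) : Amb).1 (ix c) (ix d)) = _
    rw [show (((g : E) : Ambˣ) : Amb).1 = ((p1 g : U) : M8) from rfl, hg, Units.val_one,
      Units.val_one, Matrix.one_apply, Matrix.one_apply]
    by_cases h : c = d
    · simp [h]
    · rw [if_neg h, if_neg fun e => h (ix.injective e), map_zero]
  show QuotientGroup.mk (repOmega g) = _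
  rw [show repOmega g = 1 from Subtype.ext (Subtype.ext ((repOmega_coe _).trans hrep))]
  rfl

theorem mem_ker_p1 {g : E} : g ∈ p1.ker ↔ g = 1 ∨ g = x 17 := by
  refine ⟨fun hg => ?_, by rintro (rfl | rfl); exacts [one_mem _, p1_17]⟩
  rcases ker_cases (toG_eq_one_of_p1 hg) with h | h | h | h
  · exact Or.inl h
  · rw [h] at hg; exact absurd hg zU_ne_one
  · exact Or.inr h
  · refine absurd ?_ zU_ne_one
    rw [h, MonoidHom.mem_ker, map_mul, p1_17, mul_one] at hg
    exact hg

theorem card_L0 : Nat.card L0 = 348364800 := by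
  have h := Subgroup.index_mul_card p1.ker
  rw [Subgroup.index_ker, card_all.1, show p1.range = L0 from rfl] at h
  have hk : Nat.card p1.ker = 2 := by
    rw [Nat.card_eq_two_iff]
    refine ⟨⟨1, one_mem _⟩, ⟨x 17, p1_17⟩, fun e => ker_distinct.2.1 (congrArg Subtype.val e).symm, ?_⟩
    ext ⟨g, hg⟩
    simp only [Set.mem_insert_iff, Set.mem_singleton_iff, Set.mem_univ, iff_true]
    rcases mem_ker_p1.1 hg with rfl | rfl
    · exact Or.inl rfl
    · exact Or.inr rfl
  rw [hk] at h
  omega

theorem zU_mem : zU ∈ L0 := ⟨_, rfl⟩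

theorem zU_sq : zU * zU = 1 := by rw [zU, ← map_mul, x16_sq, map_one]

theorem p1_central {g : E} (hg : g ∈ Subgroup.center E) : p1 g = 1 ∨ p1 g = zU := by
  rw [← ker_toG_eq_center] at hg
  rcases ker_cases hg with rfl | rfl | rfl | rfl
  · exact Or.inl (map_one _)
  · exact Or.inr rfl
  · exact Or.inl p1_17
  · exact Or.inr (by rw [map_mul, p1_17, mul_one]; rfl)

/-- The elements of the double cover centralising it. -/
theorem center_L0 {l : U} (hl : l ∈ L0) (h : ∀ m ∈ L0, m * l = l * m) : l = 1 ∨ l = zU := by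
  obtain ⟨g, rfl⟩ := hl
  refine p1_central ?_
  rw [← ker_toG_eq_center, MonoidHom.mem_ker, ← Subgroup.mem_bot, ← center_Om,
    Subgroup.mem_center_iff]
  intro q
  obtain ⟨a, rfl⟩ := toG_surjective q
  rw [← map_mul, ← map_mul]
  refine mul_inv_eq_one.1 ?_
  rw [← map_inv, ← map_mul]
  refine toG_eq_one_of_p1 ?_
  rw [map_mul, map_inv, map_mul, map_mul, h _ ⟨a, rfl⟩, mul_inv_cancel]

theorem p1_apply_mem (g : E) : p1 g ∈ L0 := ⟨g, rfl⟩

theorem rU_sq : rU * rU = 1 := Units.ext rC_sq

theorem rU_inv : rU⁻¹ = rU := inv_eq_of_mul_eq_one_left rU_sq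

theorem rU_gen {a : ℕ} (ha : a < 8) : rU * p1 (x a) * rU = p1 (x (piRef a)) := by
  have h := model_ok
  simp only [modelOK, Bool.and_eq_true, List.all_eq_true, List.mem_range] at h
  obtain ⟨hb, hc⟩ := h.1.1.1 a ha
  have hr : wf rC = true := by have := rC_ok; rw [Bool.and_eq_true] at this; exact this.1
  have h17 := len17
  have hlen : ∀ b < 8, b < sys.len := fun b hb => lt_trans hb (by omega)
  refine Units.ext ?_
  show toM rC * ((p1 (x a) : U) : M8) * toM rC = _
  rw [coe_p1 (hlen a ha), ← toM_mulC hr wf_c1, ← toM_mulC (wf_mulC _ _) hr,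
    Nat.eq_of_beq_eq_true hc, coe_p1 (hlen _ (Nat.le_of_ble_eq_true hb))]

theorem rU_conj_mem {l : U} (hl : l ∈ L0) : rU * l * rU ∈ L0 := by
  obtain ⟨g, rfl⟩ := hl
  have hle : (⊤ : Subgroup E) ≤ (L0.comap (MulAut.conj rU).toMonoidHom).comap p1 := by
    rw [← closure_gens, Subgroup.closure_le]
    rintro _ ⟨a, ha, rfl⟩
    show rU * p1 (x a) * rU⁻¹ ∈ L0
    rw [rU_inv, rU_gen ha]
    exact p1_apply_mem _
  have h : rU * p1 g * rU⁻¹ ∈ L0 := hle (Subgroup.mem_top g)
  rwa [rU_inv] at h

theorem mem_Xg {y : U} : y ∈ Xg ↔ y ∈ L0 ∨ rU * y ∈ L0 := by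
  constructor
  · intro hy
    rw [Xg, Subgroup.sup_eq_closure] at hy
    induction hy using Subgroup.closure_induction with
    | mem y hy =>
      rcases hy with hy | hy
      · exact Or.inl hy
      · obtain ⟨i, rfl⟩ := hy
        rcases Int.even_or_odd' i with ⟨k, rfl | rfl⟩
        · exact Or.inl (by simp [zpow_mul, zpow_ofNat, sq, rU_sq, one_mem])
        · exact Or.inr (by simp [zpow_add, zpow_mul, zpow_ofNat, sq, rU_sq, one_mem])
    | one => exact Or.inl (one_mem _)
    | mul a b _ _ ha hb =>
      rcases ha with ha | ha <;> rcases hb with hb | hb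
      · exact Or.inl (mul_mem ha hb)
      · refine Or.inr ?_
        have := mul_mem (rU_conj_mem ha) hb
        rwa [show rU * a * rU * (rU * b) = rU * (a * ((rU * rU) * b)) by group, rU_sq, one_mul] at this
      · exact Or.inr (by rw [← mul_assoc]; exact mul_mem ha hb)
      · refine Or.inl ?_
        have := mul_mem (rU_conj_mem ha) hb
        rwa [show rU * (rU * a) * rU * (rU * b) = rU * rU * a * (rU * rU) * b by group, rU_sq,
          one_mul, mul_one] at this
    | inv a _ ha =>
      rcases ha with ha | ha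
      · exact Or.inl (inv_mem ha)
      · refine Or.inr ?_
        have := rU_conj_mem (inv_mem ha)
        rwa [mul_inv_rev, rU_inv, mul_assoc, mul_assoc a⁻¹, rU_sq, mul_one] at this
  · rintro (h | h)
    · exact Subgroup.mem_sup_left h
    · rw [show y = rU * (rU * y) by rw [← mul_assoc, rU_sq, one_mul]]
      exact mul_mem (Subgroup.mem_sup_right (Subgroup.mem_zpowers _)) (Subgroup.mem_sup_left h)

theorem conj_mem_L0 {y l : U} (hy : y ∈ Xg) (hl : l ∈ L0) : y * l * y⁻¹ ∈ L0 := by
  rcases mem_Xg.1 hy with h | h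
  · exact mul_mem (mul_mem h hl) (inv_mem h)
  · have := rU_conj_mem (mul_mem (mul_mem h hl) (inv_mem h))
    rw [mul_inv_rev, rU_inv] at this
    rwa [show rU * (rU * y * l * (y⁻¹ * rU)) * rU = (rU * rU) * (y * l * y⁻¹) * (rU * rU) by group,
      rU_sq, one_mul, mul_one] at this

/-- Conjugation by an element of the extension. -/
noncomputable def conjX (y : Xg) : MulAut L0 where
  toFun l := ⟨y.1 * l.1 * y.1⁻¹, conj_mem_L0 y.2 l.2⟩
  invFun l := ⟨y.1⁻¹ * l.1 * y.1, by simpa using conj_mem_L0 (inv_mem y.2) l.2⟩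
  left_inv l := Subtype.ext (by simp only; group)
  right_inv l := Subtype.ext (by simp only; group)
  map_mul' l m := Subtype.ext (by simp only [Subgroup.coe_mul]; group)

/-- The conjugations as a homomorphism. -/
noncomputable def conjHom : Xg →* MulAut L0 where
  toFun := conjX
  map_one' := MulEquiv.ext fun l => Subtype.ext (by simp [conjX])
  map_mul' y y' := MulEquiv.ext fun l => Subtype.ext (by
    simp only [conjX, MulEquiv.coe_mk, Equiv.coe_fn_mk, MulAut.mul_apply, Subgroup.coe_mul]
    group)

/-- The projection onto the double cover. -/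
noncomputable def p1L : E →* L0 := p1.rangeRestrict

theorem p1L_surjective : Function.Surjective p1L := p1.rangeRestrict_surjective

/-- The map of the double cover onto the simple group. -/
noncomputable def sigma : L0 →* Om :=
  p1L.liftOfSurjective p1L_surjective ⟨toG, fun g hg =>
    toG_eq_one_of_p1 (congrArg Subtype.val hg)⟩

theorem sigma_p1L (g : E) : sigma (p1L g) = toG g :=
  MonoidHom.liftOfRightInverse_comp_apply _ _ _ _ g

theorem sigma_surjective : Function.Surjective sigma := fun q => by
  obtain ⟨g, rfl⟩ := toG_surjective q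
  exact ⟨p1L g, sigma_p1L g⟩

theorem p1L_mem_center {g : E} (hg : g ∈ Subgroup.center E) : p1L g ∈ Subgroup.center L0 := by
  refine Subgroup.mem_center_iff.2 fun l => ?_
  obtain ⟨a, rfl⟩ := p1L_surjective l
  rw [← map_mul, ← map_mul, Subgroup.mem_center_iff.1 hg a]

theorem ker_sigma : sigma.ker = Subgroup.center L0 := by
  refine le_antisymm (fun l hl => ?_) fun l hl => ?_
  · obtain ⟨g, rfl⟩ := p1L_surjective l
    rw [MonoidHom.mem_ker, sigma_p1L] at hl
    exact p1L_mem_center (ker_le_center hl)
  · rw [MonoidHom.mem_ker, ← Subgroup.mem_bot, ← center_Om, Subgroup.mem_center_iff]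
    intro q
    obtain ⟨m, rfl⟩ := sigma_surjective q
    rw [← map_mul, Subgroup.mem_center_iff.1 hl m, map_mul]

/-- Automorphisms of the double cover lift to the universal cover. -/
theorem exists_lift_L0 (φ : MulAut L0) :
    ∃ e : MulAut E, e ∈ stab17 ∧ ∀ g, p1L (e g) = φ (p1L g) := by
  have hk : ∀ l, sigma l = 1 → sigma (φ l) = 1 := fun l hl => by
    rw [← MonoidHom.mem_ker, ker_sigma] at hl ⊢
    exact (Subgroup.characteristic_iff_le_comap.1 inferInstance φ) hl
  let f : Om →* Om := sigma.liftOfSurjective sigma_surjective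
    ⟨sigma.comp φ.toMonoidHom, fun l hl => hk l hl⟩
  have hf : ∀ l, f (sigma l) = sigma (φ l) := fun l =>
    MonoidHom.liftOfRightInverse_comp_apply _ _ _ _ l
  have hsurj : Function.Surjective f := fun q => by
    obtain ⟨l, rfl⟩ := sigma_surjective q
    exact ⟨sigma (φ.symm l), by rw [hf, φ.apply_symm_apply]⟩
  let φ' : MulAut Om := MulEquiv.ofBijective f ⟨Finite.injective_iff_surjective.2 hsurj, hsurj⟩
  obtain ⟨e, he⟩ := exists_lift_aut φ'
  have hp : p1L.comp e.toMonoidHom = φ.toMonoidHom.comp p1L := by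
    refine ext_hom cover_perfect _ _ fun g => ?_
    rw [← ker_sigma, MonoidHom.mem_ker]
    show sigma ((p1L (e g))⁻¹ * φ (p1L g)) = 1
    rw [map_mul, map_inv, sigma_p1L, he, ← hf, sigma_p1L, inv_mul_eq_one]
    rfl
  refine ⟨e, ?_, fun g => DFunLike.congr_fun hp g⟩
  show e (x 17) = x 17
  have h1 : p1L (e (x 17)) = φ (p1L (x 17)) := DFunLike.congr_fun hp (x 17)
  rw [show p1L (x 17) = 1 from Subtype.ext p1_17, map_one] at h1
  rcases mem_ker_p1.1 (congrArg Subtype.val h1) with h | h
  · exact absurd (e.injective (h.trans (map_one e).symm)) ker_distinct.2.1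
  · exact h

theorem mulAut_eq_of_lift {φ φ' : MulAut L0} {e : MulAut E} (h : ∀ g, p1L (e g) = φ (p1L g))
    (h' : ∀ g, p1L (e g) = φ' (p1L g)) : φ = φ' := MulEquiv.ext fun l => by
  obtain ⟨g, rfl⟩ := p1L_surjective l
  rw [← h, h']

theorem card_mulAut_L0 : Nat.card (MulAut L0) ≤ 348364800 := by
  choose e he he' using exists_lift_L0
  haveI : Finite (MulAut E) :=
    Finite.of_injective (fun β : MulAut E => (β : E → E)) DFunLike.coe_injective
  exact le_trans (Nat.card_le_card_of_injective (fun φ => (⟨e φ, he φ⟩ : stab17))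
    fun φ φ' h => mulAut_eq_of_lift (he' φ) fun g => by
      rw [show e φ = e φ' from congrArg Subtype.val h]; exact he' φ' g) card_stab17

/-- The reflection does not act as an inner automorphism of the double cover. -/
theorem rU_not_inner {m : U} (hm : m ∈ L0) (h : ∀ l ∈ L0, rU * l * rU = m * l * m⁻¹) : False := by
  obtain ⟨g, rfl⟩ := hm
  have key : ∀ a < 8, (x (piRef a))⁻¹ * (g * x a * g⁻¹) ∈ toG.ker := by
    intro a ha
    have h1 := h _ (p1_apply_mem (x a))
    rw [rU_gen ha, ← map_inv, ← map_mul, ← map_mul] at h1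
    exact toG_eq_one_of_p1 (by rw [map_mul, map_inv, ← h1, inv_mul_cancel])
  obtain ⟨-, w2, -, w4, -⟩ := words_spec
  have e := map_word (MulAut.conj g).toMonoidHom rfl rfl (key 0 (by norm_num)) (key 2 (by norm_num))
  rw [w2, show piRef 0 = 0 from rfl, show piRef 2 = 3 from rfl, w4] at e
  have hc : x 16 ∈ Subgroup.center E := (zAt_spec (i := 0) (by norm_num)).2.1
  simp only [MulEquiv.coe_toMonoidHom, MulAut.conj_apply] at e
  rw [Subgroup.mem_center_iff.1 hc g, mul_inv_cancel_right] at e
  exact ker_distinct.2.2.2.2 e.symm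

theorem rU_not_mem : rU ∉ L0 := fun h =>
  rU_not_inner h fun l _ => by rw [rU_inv]

/-- The centraliser of the double cover in the extension. -/
theorem centralizer_L0 {y : U} (hy : y ∈ Xg) (h : ∀ l ∈ L0, y * l = l * y) : y = 1 ∨ y = zU := by
  rcases mem_Xg.1 hy with hl | hl
  · exact center_L0 hl fun m hm => (h m hm).symm
  · exfalso
    refine rU_not_inner hl fun l hl' => ?_
    rw [mul_inv_rev, rU_inv,
      show rU * y * l * (y⁻¹ * rU) = rU * ((y * l) * y⁻¹) * rU by group, h l hl', mul_inv_cancel_right]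

theorem card_Xg : 2 * 348364800 ≤ Nat.card Xg := by
  let f : Bool × L0 → Xg := fun a =>
    ⟨(bif a.1 then rU else 1) * a.2.1, mul_mem
      (by cases a.1 <;> [exact one_mem _; exact Subgroup.mem_sup_right (Subgroup.mem_zpowers _)])
      (Subgroup.mem_sup_left a.2.2)⟩
  have hf : Function.Injective f := by
    rintro ⟨b, l⟩ ⟨b', l'⟩ h
    have h' := congrArg Subtype.val h
    simp only [f] at h'
    cases b <;> cases b' <;> simp only [cond_false, cond_true, one_mul, mul_right_inj] at h'
    · rw [Subtype.ext h']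
    · exact absurd (by rw [eq_mul_inv_of_mul_eq h'.symm]; exact mul_mem l.2 (inv_mem l'.2)) rU_not_mem
    · exact absurd (by rw [eq_mul_inv_of_mul_eq h']; exact mul_mem l'.2 (inv_mem l.2)) rU_not_mem
    · rw [Subtype.ext h']
  have := Nat.card_le_card_of_injective f hf
  rwa [Nat.card_prod, Nat.card_eq_fintype_card, Fintype.card_bool, card_L0] at this

/-- Every automorphism of the double cover is induced by the extension. -/
theorem exists_conj (φ : MulAut L0) : ∃ y : Xg, ∀ l : L0, (φ l : U) = y.1 * l.1 * y.1⁻¹ := by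
  have hker : Nat.card conjHom.ker ≤ 2 := by
    let f : conjHom.ker → Bool := fun y => decide ((y.1 : U) = 1)
    refine (Nat.card_le_card_of_injective f fun a b h => ?_).trans (by simp)
    have hc : ∀ y : conjHom.ker, (y.1 : U) = 1 ∨ (y.1 : U) = zU := fun y =>
      centralizer_L0 y.1.2 fun l hl => by
        have h := congrArg Subtype.val (DFunLike.congr_fun (MonoidHom.mem_ker.1 y.2) ⟨l, hl⟩)
        exact mul_inv_eq_iff_eq_mul.1 h
    refine Subtype.ext (Subtype.ext ?_)
    have h' : (a.1 : U) = 1 ↔ (b.1 : U) = 1 := decide_eq_decide.1 h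
    rcases hc a with ha | ha <;> rcases hc b with hb | hb
    · exact ha.trans hb.symm
    · exact absurd (hb.symm.trans (h'.1 ha)) zU_ne_one
    · exact absurd (ha.symm.trans (h'.2 hb)) zU_ne_one
    · exact ha.trans hb.symm
  have hr : conjHom.range = ⊤ := by
    haveI : Finite (MulAut L0) :=
      Finite.of_injective (fun β : MulAut L0 => (β : L0 → L0)) DFunLike.coe_injective
    refine Subgroup.eq_top_of_le_card _ (card_mulAut_L0.trans ?_)
    have h1 := Subgroup.index_mul_card conjHom.ker
    rw [Subgroup.index_ker] at h1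
    have := card_Xg
    have := Nat.mul_le_mul_left (Nat.card conjHom.range) hker
    omega
  obtain ⟨y, hy⟩ : φ ∈ conjHom.range := hr ▸ Subgroup.mem_top φ
  exact ⟨y, fun l => by rw [← hy]; rfl⟩

end CfsgLib.StdDoubleO8
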