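import Cfsg.Agent.StdDoubleO8.Facts
import Cfsg.Prelude.Def_TwoFusion

/-!
A standard double cover of `Ω⁺₈(2)` in a group: the normaliser acts through the extension of the
double cover by a reflection.
-/

set_option autoImplicit false
set_option linter.style.haveILetI false

namespace CfsgLib.StdDoubleO8

open Cfsg

universe u

variable {G : Type u} [Group G] {L : Subgroup G} {jf : U → G}

/-- A standard subgroup parametrised by the double cover, with cyclic Sylow `2`-subgroups of the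
centraliser. -/
structure Setup (L : Subgroup G) (jf : U → G) : Prop where
  std : IsStandardSubgroup L
  cyc : ∀ R : Sylow 2 ↥(Subgroup.centralizer (L : Set G)),
    IsCyclic ↥(R : Subgroup ↥(Subgroup.centralizer (L : Set G)))
  mem : ∀ l ∈ L0, jf l ∈ L
  surj : ∀ a ∈ L, ∃ l ∈ L0, jf l = a
  mul : ∀ l ∈ L0, ∀ m ∈ L0, jf (l * m) = jf l * jf m
  inj : ∀ l ∈ L0, ∀ m ∈ L0, jf l = jf m → l = m

/-- `g` acts on the standard subgroup as `y`. -/
def Act (jf : U → G) (g : G) (y : U) : Prop :=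
  y ∈ Xg ∧ ∀ l ∈ L0, g * jf l * g⁻¹ = jf (y * l * y⁻¹)

theorem L0_le_Xg {l : U} (h : l ∈ L0) : l ∈ Xg := Subgroup.mem_sup_left h

theorem Act.mul {g g' : G} {y y' : U} (h : Act jf g y) (h' : Act jf g' y') :
    Act jf (g * g') (y * y') := by
  refine ⟨mul_mem h.1 h'.1, fun l hl => ?_⟩
  calc g * g' * jf l * (g * g')⁻¹ = g * (g' * jf l * g'⁻¹) * g⁻¹ := by group
    _ = jf (y * (y' * l * y'⁻¹) * y⁻¹) := by rw [h'.2 l hl, h.2 _ (conj_mem_L0 h'.1 hl)]
    _ = _ := by rw [show y * (y' * l * y'⁻¹) * y⁻¹ = y * y' * l * (y * y')⁻¹ by group]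

theorem Act.inv {g : G} {y : U} (h : Act jf g y) : Act jf g⁻¹ y⁻¹ := by
  refine ⟨inv_mem h.1, fun l hl => ?_⟩
  have e := h.2 _ (conj_mem_L0 (inv_mem h.1) hl)
  rw [inv_inv, show y * (y⁻¹ * l * y) * y⁻¹ = l by group] at e
  rw [inv_inv, ← e]
  group

theorem Act.one : Act jf (1 : G) 1 := ⟨one_mem _, fun l _ => by simp⟩

namespace Setup

theorem map_one (St : Setup L jf) : jf 1 = 1 := by
  have h := St.mul 1 (one_mem _) 1 (one_mem _)
  rw [mul_one] at h
  exact left_eq_mul.1 h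

theorem map_inv (St : Setup L jf) {l : U} (hl : l ∈ L0) : jf l⁻¹ = (jf l)⁻¹ := by
  refine eq_inv_of_mul_eq_one_left ?_
  rw [← St.mul _ (inv_mem hl) _ hl, inv_mul_cancel, St.map_one]

theorem map_pow (St : Setup L jf) {l : U} (hl : l ∈ L0) : ∀ n : ℕ, jf (l ^ n) = jf l ^ n
  | 0 => by rw [pow_zero, pow_zero, St.map_one]
  | n + 1 => by rw [pow_succ, pow_succ, St.mul _ (pow_mem hl n) _ hl, St.map_pow hl n]

theorem z_ne_one (St : Setup L jf) : jf zU ≠ 1 := fun e =>
  zU_ne_one (St.inj _ zU_mem _ (one_mem _) (e.trans St.map_one.symm))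

theorem z_sq (St : Setup L jf) : jf zU * jf zU = 1 := by
  rw [← St.mul _ zU_mem _ zU_mem, zU_sq, St.map_one]

theorem z_inv (St : Setup L jf) : (jf zU)⁻¹ = jf zU := inv_eq_of_mul_eq_one_left St.z_sq

theorem orderOf_z (St : Setup L jf) : orderOf (jf zU) = 2 :=
  orderOf_eq_prime (by rw [sq, St.z_sq]) St.z_ne_one

theorem z_comm_L (St : Setup L jf) {a : G} (ha : a ∈ L) : a * jf zU = jf zU * a := by
  obtain ⟨l, hl, rfl⟩ := St.surj a ha
  rw [← St.mul _ hl _ zU_mem, ← St.mul _ zU_mem _ hl, zU_comm]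

theorem mem_C (St : Setup L jf) {c : G} :
    c ∈ Subgroup.centralizer (L : Set G) ↔ ∀ l ∈ L0, jf l * c = c * jf l := by
  rw [Subgroup.mem_centralizer_iff]
  constructor
  · exact fun h l hl => h _ (St.mem l hl)
  · intro h a ha
    obtain ⟨l, hl, rfl⟩ := St.surj a ha
    exact h l hl

theorem z_mem_C (St : Setup L jf) : jf zU ∈ Subgroup.centralizer (L : Set G) :=
  Subgroup.mem_centralizer_iff.2 fun _ ha => St.z_comm_L ha

theorem act_C (St : Setup L jf) {c : G} (hc : c ∈ Subgroup.centralizer (L : Set G)) :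
    Act jf c 1 :=
  ⟨one_mem _, fun l hl => by rw [← St.mem_C.1 hc l hl, mul_inv_cancel_right, one_mul, inv_one,
    mul_one]⟩

theorem act_jf (St : Setup L jf) {m : U} (hm : m ∈ L0) : Act jf (jf m) m :=
  ⟨L0_le_Xg hm, fun l hl => by
    rw [← St.map_inv hm, ← St.mul _ hm _ hl, ← St.mul _ (mul_mem hm hl) _ (inv_mem hm)]⟩

theorem eq_of_mem_C (St : Setup L jf) {l : U} (hl : l ∈ L0)
    (h : jf l ∈ Subgroup.centralizer (L : Set G)) : l = 1 ∨ l = zU :=
  center_L0 hl fun m hm => St.inj _ (mul_mem hm hl) _ (mul_mem hl hm) (by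
    rw [St.mul _ hm _ hl, St.mul _ hl _ hm, St.mem_C.1 h m hm])

theorem act_unique (St : Setup L jf) {g : G} {y y' : U} (h : Act jf g y) (h' : Act jf g y') :
    y' = y ∨ y' = y * zU := by
  have hc : y⁻¹ * y' = 1 ∨ y⁻¹ * y' = zU := by
    refine centralizer_L0 (mul_mem (inv_mem h.1) h'.1) fun l hl => ?_
    have e := St.inj _ (conj_mem_L0 h.1 hl) _ (conj_mem_L0 h'.1 hl) ((h.2 l hl).symm.trans (h'.2 l hl))
    calc y⁻¹ * y' * l = y⁻¹ * (y' * l * y'⁻¹) * y' := by group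
      _ = y⁻¹ * (y * l * y⁻¹) * y' := by rw [e]
      _ = l * (y⁻¹ * y') := by group
  rcases hc with e | e
  · exact Or.inl (inv_mul_eq_one.1 e).symm
  · exact Or.inr (inv_mul_eq_iff_eq_mul.1 e)

theorem par_iff (St : Setup L jf) {g : G} {y y' : U} (h : Act jf g y) (h' : Act jf g y') :
    y ∈ L0 ↔ y' ∈ L0 := by
  rcases St.act_unique h h' with rfl | rfl
  · rfl
  · exact (Subgroup.mul_mem_cancel_right _ zU_mem).symm

theorem mem_C_of_act (St : Setup L jf) {g : G} {y : U} (h : Act jf g y) (hy : y = 1 ∨ y = zU) :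
    g ∈ Subgroup.centralizer (L : Set G) := by
  refine St.mem_C.2 fun l hl => ?_
  have e := h.2 l hl
  have e' : y * l * y⁻¹ = l := by
    rcases hy with rfl | rfl
    · simp
    · rw [zU_comm, mul_inv_cancel_right]
  rw [e'] at e
  exact (mul_inv_eq_iff_eq_mul.1 e).symm

theorem act_trivial (St : Setup L jf) {g : G} {y : U} (h : Act jf g y) (h1 : Act jf g 1) :
    y = 1 ∨ y = zU := (St.act_unique h1 h).imp id fun e => by rw [e, one_mul]

theorem split (St : Setup L jf) {g : G} {l : U} (h : Act jf g l) (hl : l ∈ L0) :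
    ∃ c ∈ Subgroup.centralizer (L : Set G), g = jf l * c := by
  refine ⟨(jf l)⁻¹ * g, St.mem_C_of_act ((St.act_jf hl).inv.mul h) (Or.inl (inv_mul_cancel l)), ?_⟩
  rw [mul_inv_cancel_left]

theorem act_z (St : Setup L jf) {g : G} {y : U} (h : Act jf g y) : g * jf zU = jf zU * g := by
  have e := h.2 _ zU_mem
  rw [← zU_comm, mul_inv_cancel_right] at e
  exact mul_inv_eq_iff_eq_mul.1 e

theorem act_exists [Finite G] (St : Setup L jf) {g : G} (hg : g * jf zU = jf zU * g) :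
    ∃ y, Act jf g y := by
  have hn : g ∈ Subgroup.normalizer (L : Set G) :=
    StdDoubleRu.centralizer_le St.std St.orderOf_z St.z_mem_C
      (Subgroup.mem_centralizer_singleton_iff.2 hg)
  have hex : ∀ l : L0, ∃ m : L0, jf m = g * jf l * g⁻¹ := fun l => by
    obtain ⟨m, hm, e⟩ := St.surj _ ((Subgroup.mem_normalizer_iff.1 hn _).1 (St.mem _ l.2))
    exact ⟨⟨m, hm⟩, e⟩
  choose f hf using hex
  have hf' : ∀ l m : L0, f (l * m) = f l * f m := fun l m => Subtype.ext (St.inj _ (f _).2 _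
    (mul_mem (f l).2 (f m).2) (by
      rw [Subgroup.coe_mul, St.mul _ (f l).2 _ (f m).2, hf, hf, hf, Subgroup.coe_mul, St.mul _ l.2 _ m.2]; group))
  have hinj : Function.Injective f := fun l m e => Subtype.ext (St.inj _ l.2 _ m.2 (by
    have := congrArg (fun a : L0 => jf a) e
    simp only [hf] at this
    exact mul_left_cancel (mul_right_cancel this)))
  let φ : MulAut L0 := MulEquiv.ofBijective (MonoidHom.mk' f hf')
    ⟨hinj, Finite.surjective_of_injective hinj⟩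
  obtain ⟨y, hy⟩ := exists_conj φ
  refine ⟨y.1, y.2, fun l hl => ?_⟩
  rw [← hy ⟨l, hl⟩]
  exact (hf ⟨l, hl⟩).symm

/-- An element of the centraliser of order a power of two lies in a cyclic group containing the
central involution. -/
theorem exists_cyclic [Finite G] (St : Setup L jf) {c : G}
    (hc : c ∈ Subgroup.centralizer (L : Set G)) {k : ℕ} (hk : c ^ 2 ^ k = 1) :
    ∃ Q : Sylow 2 ↥(Subgroup.centralizer (L : Set G)),
      (⟨c, hc⟩ : ↥(Subgroup.centralizer (L : Set G))) ∈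
        (Q : Subgroup ↥(Subgroup.centralizer (L : Set G))) := by
  obtain ⟨Q, hQ⟩ := (StdDoubleRu.isPGroup_zpowers
    (d := (⟨c, hc⟩ : ↥(Subgroup.centralizer (L : Set G)))) (k := k) (Subtype.ext hk)).exists_le_sylow
  exact ⟨Q, hQ (Subgroup.mem_zpowers _)⟩

theorem z_mem_sylow [Finite G] (St : Setup L jf)
    (Q : Sylow 2 ↥(Subgroup.centralizer (L : Set G))) :
    (⟨jf zU, St.z_mem_C⟩ : ↥(Subgroup.centralizer (L : Set G))) ∈
      (Q : Subgroup ↥(Subgroup.centralizer (L : Set G))) := by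
  haveI : Fact (Nat.Prime 2) := ⟨Nat.prime_two⟩
  obtain ⟨R, hR⟩ := St.exists_cyclic St.z_mem_C (k := 1) (by rw [pow_one, sq, St.z_sq])
  obtain ⟨n, rfl⟩ := MulAction.exists_smul_eq ↥(Subgroup.centralizer (L : Set G)) R Q
  have h := Subgroup.smul_mem_pointwise_smul _ (MulAut.conj n) _ hR
  have e : MulAut.conj n • (⟨jf zU, St.z_mem_C⟩ : ↥(Subgroup.centralizer (L : Set G))) =
      ⟨jf zU, St.z_mem_C⟩ := Subtype.ext (by
    show (n : G) * jf zU * (n : G)⁻¹ = jf zU
    rw [(St.mem_C.1 n.2 _ zU_mem).symm, mul_inv_cancel_right])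
  rw [e] at h
  exact h

theorem comm_of_mem_sylow [Finite G] (St : Setup L jf)
    (Q : Sylow 2 ↥(Subgroup.centralizer (L : Set G)))
    {a b : ↥(Subgroup.centralizer (L : Set G))}
    (ha : a ∈ (Q : Subgroup ↥(Subgroup.centralizer (L : Set G))))
    (hb : b ∈ (Q : Subgroup ↥(Subgroup.centralizer (L : Set G)))) :
    (a : G) * b = b * a := by
  haveI := St.cyc Q
  have h := (IsCyclic.isMulCommutative (α := (Q : Subgroup ↥(Subgroup.centralizer (L : Set G))))).is_comm.comm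
    ⟨a, ha⟩ ⟨b, hb⟩
  exact congrArg (fun q : (Q : Subgroup ↥(Subgroup.centralizer (L : Set G))) =>
    ((q : ↥(Subgroup.centralizer (L : Set G))) : G)) h

/-- The centraliser has only one involution. -/
theorem invol_C [Finite G] (St : Setup L jf) {c : G}
    (hc : c ∈ Subgroup.centralizer (L : Set G)) (h2 : c * c = 1) : c = 1 ∨ c = jf zU := by
  by_cases h1 : c = 1
  · exact Or.inl h1
  right
  obtain ⟨Q, hQ⟩ := St.exists_cyclic hc (k := 1) (by rw [pow_one, sq, h2])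
  haveI := St.cyc Q
  have e2 : orderOf (⟨c, hc⟩ : ↥(Subgroup.centralizer (L : Set G))) = 2 := by
    rw [Subgroup.orderOf_mk]; exact orderOf_eq_prime (by rw [sq, h2]) h1
  exact congrArg Subtype.val (StdDoubleRu.invol_unique hQ (St.z_mem_sylow Q) e2
    (by rw [Subgroup.orderOf_mk, St.orderOf_z]))

/-- An inner element of order a power of two is a product with a `2`-element of the centraliser. -/
theorem inner_two (St : Setup L jf) {g : G} {l : U} (h : Act jf g l) (hl : l ∈ L0) {k : ℕ}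
    (hk : g ^ 2 ^ k = 1) :
    ∃ c ∈ Subgroup.centralizer (L : Set G), g = jf l * c ∧ c ^ 2 ^ (k + 1) = 1 := by
  obtain ⟨c, hc, rfl⟩ := St.split h hl
  refine ⟨c, hc, rfl, ?_⟩
  rw [(show Commute (jf l) c from St.mem_C.1 hc l hl).mul_pow, ← St.map_pow hl] at hk
  have hm : jf (l ^ 2 ^ k) ∈ Subgroup.centralizer (L : Set G) := by
    rw [eq_inv_of_mul_eq_one_left hk]; exact inv_mem (pow_mem hc _)
  rw [pow_succ, pow_mul, sq, eq_inv_of_mul_eq_one_right hk]
  rcases St.eq_of_mem_C (pow_mem hl _) hm with e | e <;> rw [e]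
  · rw [St.map_one, inv_one, mul_one]
  · rw [← mul_inv_rev, St.z_sq, inv_one]

end Setup

/-- The image of a subgroup of the double cover. -/
def img (St : Setup L jf) (H : Subgroup U) : Subgroup G where
  carrier := {a | ∃ s ∈ H, s ∈ L0 ∧ jf s = a}
  one_mem' := ⟨1, one_mem H, one_mem _, St.map_one⟩
  mul_mem' := by
    rintro _ _ ⟨s, hs, hs', rfl⟩ ⟨t, ht, ht', rfl⟩
    exact ⟨s * t, mul_mem hs ht, mul_mem hs' ht', St.mul _ hs' _ ht'⟩
  inv_mem' := by
    rintro _ ⟨s, hs, hs', rfl⟩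
    exact ⟨s⁻¹, inv_mem hs, inv_mem hs', St.map_inv hs'⟩

theorem mem_img (St : Setup L jf) {H : Subgroup U} {a : G} :
    a ∈ img St H ↔ ∃ s ∈ H, s ∈ L0 ∧ jf s = a := Iff.rfl

theorem jf_mem_img (St : Setup L jf) {H : Subgroup U} {s : U} (hs : s ∈ H) (hs' : s ∈ L0) :
    jf s ∈ img St H := ⟨s, hs, hs', rfl⟩

theorem card_img (St : Setup L jf) {H : Subgroup U} (hH : H ≤ L0) :
    Nat.card (img St H) = Nat.card H := by
  refine (Nat.card_congr (Equiv.ofBijective
    (fun s : H => (⟨jf s.1, jf_mem_img St s.2 (hH s.2)⟩ : img St H))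
    ⟨fun a b h => Subtype.ext (St.inj _ (hH a.2) _ (hH b.2) (congrArg Subtype.val h)), ?_⟩)).symm
  rintro ⟨_, s, hs, -, rfl⟩
  exact ⟨⟨s, hs⟩, rfl⟩

theorem isPGroup_img (St : Setup L jf) {H : Subgroup U} (h : IsPGroup 2 H) : IsPGroup 2 (img St H) := by
  rintro ⟨_, s, hs, hs', rfl⟩
  obtain ⟨k, hk⟩ := h ⟨s, hs⟩
  refine ⟨k, Subtype.ext ?_⟩
  show jf s ^ 2 ^ k = 1
  rw [← St.map_pow hs', show s ^ 2 ^ k = 1 from congrArg Subtype.val hk, St.map_one]

end CfsgLib.StdDoubleO8
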