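import Cfsg.Agent.StdDoubleO8.Checks
import Cfsg.Agent.StdDoubleRu.Criterion
import Mathlib.LinearAlgebra.Matrix.Determinant.Basic
import Mathlib.Algebra.CharP.Two

/-!
The Sylow subgroup of the extension of the double cover by a reflection.
-/

set_option autoImplicit false
set_option linter.style.haveILetI false
set_option maxRecDepth 20000

namespace CfsgLib.StdDoubleO8

open CfsgLib.OPlusEightTwo
open CfsgLib.Schur.Pc (ev tailSubgroup gen_mem_tailSubgroup tailSubgroup_mono tailSubgroup_self)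

theorem wf_encM (M : M8) : wf (encM M) = true := by
  have h : ∀ m, (M ⟨m / 8 % 8, Nat.mod_lt _ (by norm_num)⟩ ⟨m % 8, Nat.mod_lt _ (by norm_num)⟩).val < 4 :=
    fun m => ZMod.val_lt _
  rw [wf, maskMat_eq, maskMat, encM, land_enc _ _ _ fun m _ => by norm_num]
  rw [show enc 64 (fun m => Nat.land (dig (enc 64 fun m =>
      (M ⟨m / 8 % 8, Nat.mod_lt _ (by norm_num)⟩ ⟨m % 8, Nat.mod_lt _ (by norm_num)⟩).val) m) 3) =
      enc 64 fun m => (M ⟨m / 8 % 8, Nat.mod_lt _ (by norm_num)⟩ ⟨m % 8, Nat.mod_lt _ (by norm_num)⟩).val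
    from enc_congr 64 fun m hm => by
      rw [dig_enc 64 _ (fun k _ => (h k).trans (by norm_num)), if_pos hm]
      exact (Nat.and_two_pow_sub_one_eq_mod (n := 2) _).trans (Nat.mod_eq_of_lt (h m))]
  exact Nat.beq_refl _

theorem toM_encM (M : M8) : toM (encM M) = M := by
  ext i j
  have hi := i.isLt
  have hj := j.isLt
  show ((dig (encM M) (8 * i.val + j.val) : ℕ) : ZMod 4) = _
  rw [encM, dig_enc 64 _ (fun m _ => (ZMod.val_lt _).trans (by norm_num)), if_pos (by omega),
    ZMod.natCast_val, ZMod.cast_id]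
  congr 1 <;> exact Fin.ext (by simp only; omega)

/-- The code of a unit. -/
@[irreducible] def cd (u : U) : ℕ := encM (u : M8)

theorem coe_cd (u : U) : toM (cd u) = (u : M8) := by rw [cd, toM_encM]

theorem wf_cd (u : U) : wf (cd u) = true := by rw [cd, wf_encM]

theorem cd_inj {u v : U} (h : cd u = cd v) : u = v :=
  Units.ext (by rw [← coe_cd u, ← coe_cd v, h])

theorem cd_of_coe {u : U} {c : ℕ} (hc : wf c = true) (h : (u : M8) = toM c) : cd u = c := by
  rw [cd, h, encM_toM hc]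

theorem cd_mul (u v : U) : cd (u * v) = mulC (cd u) (cd v) :=
  cd_of_coe (wf_mulC _ _) (by rw [Units.val_mul, toM_mulC (wf_cd u) (wf_cd v), coe_cd, coe_cd])

theorem cd_one : cd 1 = oneC := cd_of_coe wf_oneC (by rw [Units.val_one, toM_oneC])

theorem cd_rU : cd rU = rC := cd_of_coe (by
  have := rC_ok; rw [Bool.and_eq_true] at this; exact this.1) rfl

theorem cd_p1 {a : ℕ} (ha : a < sys.len) : cd (p1 (x a)) = c1 a := cd_of_coe wf_c1 (coe_p1 ha)

theorem cd_zU : cd zU = cZ := cd_p1 (by have := len17; omega)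

theorem cm_iff {u v : U} : cm (cd u) (cd v) = true ↔ u * v = v * u := by
  rw [cm, mulF_eq, mulF_eq, ← cd_mul, ← cd_mul]
  exact ⟨fun h => cd_inj (Nat.eq_of_beq_eq_true h), fun h => h ▸ Nat.beq_refl _⟩

theorem sq1_iff {u : U} : sq1 (cd u) = true ↔ u * u = 1 := by
  rw [sq1, mulF_eq, ← cd_mul, ← cd_one]
  exact ⟨fun h => cd_inj (Nat.eq_of_beq_eq_true h), fun h => h ▸ Nat.beq_refl _⟩

theorem zU_coe : (zU : M8) = -1 := by
  rw [← coe_cd, cd_zU]
  have h := neg_true
  simp only [negOK, Bool.and_eq_true, List.all_eq_true, List.mem_range] at h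
  ext i j
  show ((dig cZ (8 * i.val + j.val) : ℕ) : ZMod 4) = _
  rw [Nat.eq_of_beq_eq_true (h.2 i i.isLt j j.isLt)]
  by_cases hij : i = j
  · subst hij; simp only [Nat.beq_refl, cond_true, Matrix.neg_apply, Matrix.one_apply_eq]; rfl
  · rw [show Nat.beq i.val j.val = false from Bool.eq_false_iff.2 fun e =>
      hij (Fin.ext (Nat.eq_of_beq_eq_true e)), Matrix.neg_apply, Matrix.one_apply_ne hij]
    simp

theorem zU_comm (u : U) : zU * u = u * zU := Units.ext (by simp [zU_coe])

/-! ### The polycyclic sequence -/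

/-- A polycyclic generator. -/
noncomputable def genU (i : ℕ) : U := bif Nat.beq i 0 then rU else p1 (x (pcs.getD (i - 1) 22))

theorem pcs_lt (i : ℕ) : pcs.getD i 22 < sys.len := by
  have h17 := len17
  have h : pcs.getD i 22 ≤ 22 := by
    rcases lt_or_ge i 13 with hi | hi
    · interval_cases i <;> norm_num [pcs]
    · rw [List.getD_eq_default _ _ (by simpa [pcs] using hi)]
  have : 22 < sys.len := lt_of_lt_of_le (by decide +kernel : 22 < sys.len) le_rfl
  omega

theorem cd_genU (i : ℕ) : cd (genU i) = genC i := by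
  cases h : Nat.beq i 0 <;> simp only [genU, genC, h, cond_true, cond_false]
  · exact cd_p1 (pcs_lt _)
  · exact cd_rU

theorem cd_ev : ∀ w : List ℕ, cd (ev genU w) = wordC w
  | [] => cd_one
  | a :: w => by rw [Schur.Pc.ev_cons, cd_mul, cd_genU, cd_ev w, wordC, mulF_eq]

/-- The subgroup of the generators from the given one on. -/
noncomputable abbrev T (i : ℕ) : Subgroup U := tailSubgroup genU 14 i

theorem rule_spec {i j : ℕ} (hij : i ≤ j) (hj : j < 14) :
    ∃ w : List ℕ, ev genU w ∈ T (i + 1) ∧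
      (i = j → genU i * genU i = ev genU w) ∧
      (i ≠ j → genU i * genU j = ev genU w * genU i) := by
  have h := rules_true
  simp only [rulesOK, mulF_eq, List.all_eq_true, List.mem_range, Bool.or_eq_true] at h
  rcases h i (by omega) j hj with h | h
  · have := Nat.le_of_ble_eq_true h; omega
  simp only [Bool.and_eq_true, List.all_eq_true] at h
  refine ⟨ruleData.getD (14 * i + j) [], Schur.Pc.ev_mem _ fun a ha =>
    gen_mem_tailSubgroup genU (Nat.le_of_ble_eq_true (h.1 a ha).1) (Nat.le_of_ble_eq_true (h.1 a ha).2),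
    fun e => ?_, fun e => ?_⟩
  · subst e
    refine cd_inj ?_
    rw [cd_mul, cd_ev, cd_genU]
    exact Nat.eq_of_beq_eq_true (by simpa using h.2)
  · refine cd_inj ?_
    rw [cd_mul, cd_mul, cd_ev, cd_genU, cd_genU]
    have hb : Nat.beq i j = false := Bool.eq_false_iff.2 fun b => e (Nat.eq_of_beq_eq_true b)
    exact Nat.eq_of_beq_eq_true (by simpa [hb] using h.2)

theorem gen_normal {i : ℕ} (hi : i < 14) : genU i ∈ Subgroup.normalizer (T (i + 1) : Set U) := by
  refine Subgroup.mem_normalizer_fintype fun n hn => ?_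
  have hle : T (i + 1) ≤ (T (i + 1)).comap (MulAut.conj (genU i)).toMonoidHom := by
    conv_lhs => rw [T, tailSubgroup]
    rw [Subgroup.closure_le]
    rintro _ ⟨j, ⟨hj1, hj2⟩, rfl⟩
    obtain ⟨w, hw, -, he⟩ := rule_spec (i := i) (j := j) (by omega) hj2
    show genU i * genU j * (genU i)⁻¹ ∈ T (i + 1)
    rw [he (by omega), mul_inv_cancel_right]
    exact hw
  exact hle hn

theorem T_cases {i : ℕ} (hi : i < 14) {u : U} (hu : u ∈ T i) :
    u ∈ T (i + 1) ∨ ∃ h ∈ T (i + 1), u = genU i * h := by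
  have hsplit : T i ≤ Subgroup.zpowers (genU i) ⊔ T (i + 1) := by
    conv_lhs => rw [T, tailSubgroup]
    rw [Subgroup.closure_le]
    rintro _ ⟨j, ⟨hj1, hj2⟩, rfl⟩
    rcases Nat.eq_or_lt_of_le hj1 with rfl | hlt
    · exact Subgroup.mem_sup_left (Subgroup.mem_zpowers _)
    · exact Subgroup.mem_sup_right (gen_mem_tailSubgroup genU hlt hj2)
  have hu' : u ∈ ((Subgroup.zpowers (genU i) ⊔ T (i + 1) : Subgroup U) : Set U) := hsplit hu
  rw [Subgroup.coe_mul_of_left_le_normalizer_right _ _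
    (Subgroup.zpowers_le.2 (gen_normal hi))] at hu'
  obtain ⟨_, ⟨k, rfl⟩, b, hb, rfl⟩ := hu'
  obtain ⟨w, hw, he, -⟩ := rule_spec (i := i) (j := i) le_rfl hi
  have h2 : genU i ^ (2 : ℤ) ∈ T (i + 1) := by rw [zpow_two, he rfl]; exact hw
  rcases Int.even_or_odd' k with ⟨m, rfl | rfl⟩
  · exact Or.inl (mul_mem (by show genU i ^ (2 * m) ∈ _; rw [zpow_mul]; exact zpow_mem h2 _) hb)
  · refine Or.inr ⟨(genU i ^ (2 : ℤ)) ^ m * b, mul_mem (zpow_mem h2 _) hb, ?_⟩
    show genU i ^ (2 * m + 1) * b = _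
    rw [← mul_assoc, ← zpow_mul, ← zpow_one_add, add_comm]

theorem mem_listP : ∀ k ≤ 14, ∀ u ∈ T (14 - k), cd u ∈ listP k
  | 0, _, u, hu => by
    rw [show T (14 - 0) = ⊥ from tailSubgroup_self _ le_rfl, Subgroup.mem_bot] at hu
    rw [hu, cd_one, listP]; exact List.mem_singleton_self _
  | k + 1, hk, u, hu => by
    have e : 14 - (k + 1) + 1 = 14 - k := by omega
    rw [listP, force_eq, mapF_eq, List.mem_append]
    rcases T_cases (by omega) hu with h | ⟨h, hh, rfl⟩
    · exact Or.inl (mem_listP k (by omega) u (e ▸ h))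
    · refine Or.inr (List.mem_map.2 ⟨cd h, mem_listP k (by omega) h (e ▸ hh), ?_⟩)
      rw [cd_mul, cd_genU, show 14 - (k + 1) = 13 - k by omega]

theorem length_listP : ∀ k, (listP k).length = 2 ^ k
  | 0 => rfl
  | k + 1 => by
    rw [listP, force_eq, mapF_eq, List.length_append, List.length_map, length_listP k]
    ring

/-- The Sylow subgroup. -/
noncomputable def P : Subgroup U := T 0

/-- Its part in the double cover. -/
noncomputable def S : Subgroup U := T 1

theorem S_le_P : S ≤ P := tailSubgroup_mono _ (Nat.le_succ 0)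

theorem genU_zero : genU 0 = rU := rfl

theorem genU_mem_L0 {i : ℕ} (hi : 1 ≤ i) : genU i ∈ L0 := by
  rw [genU, show Nat.beq i 0 = false from Bool.eq_false_iff.2 fun h => by
    have := Nat.eq_of_beq_eq_true h; omega]
  exact p1_apply_mem _

theorem S_le_L0 : S ≤ L0 := by
  rw [S, T, tailSubgroup, Subgroup.closure_le]
  rintro _ ⟨i, ⟨hi, -⟩, rfl⟩
  exact genU_mem_L0 hi

theorem rU_mem_P : rU ∈ P := genU_zero ▸ gen_mem_tailSubgroup genU le_rfl (by norm_num)

theorem P_cases {u : U} (hu : u ∈ P) : u ∈ S ∨ ∃ h ∈ S, u = rU * h :=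
  T_cases (i := 0) (by norm_num) hu

theorem mem_S_of_mem_L0 {u : U} (hu : u ∈ P) (hl : u ∈ L0) : u ∈ S := by
  rcases P_cases hu with h | ⟨h, hh, rfl⟩
  · exact h
  · exact absurd (by simpa using mul_mem hl (inv_mem (S_le_L0 hh))) rU_not_mem

theorem P_le_Xg : P ≤ Xg := by
  rw [P, T, tailSubgroup, Subgroup.closure_le]
  rintro _ ⟨i, -, rfl⟩
  rcases Nat.eq_zero_or_pos i with rfl | hi
  · exact Subgroup.mem_sup_right (Subgroup.mem_zpowers _)
  · exact Subgroup.mem_sup_left (genU_mem_L0 hi)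

theorem cd_mem_list14 {u : U} (hu : u ∈ P) : cd u ∈ listP 14 := mem_listP 14 le_rfl u hu

theorem cd_mem_list13 {u : U} (hu : u ∈ S) : cd u ∈ listP 13 := mem_listP 13 (by norm_num) u hu

theorem cd_mem_outer {u : U} (hu : u ∈ P) (hl : u ∉ L0) : cd u ∈ mapF rC (listP 13) := by
  rcases P_cases hu with h | ⟨h, hh, rfl⟩
  · exact absurd (S_le_L0 h) hl
  · rw [mapF_eq]
    exact List.mem_map.2 ⟨cd h, cd_mem_list13 hh, by rw [cd_mul, cd_rU]⟩

theorem card_K_zero_ge : 2 ^ 14 ≤ Nat.card (K 0) := by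
  have h1 := card_K_succ level1_ok
  have h2 := card_K_succ level2_ok
  have h3 := card_K_succ level3_ok
  have h4 := card_K_succ level4_ok
  obtain ⟨c1, c2, c3, c4, -⟩ := counts_ok
  rw [c1] at h1
  rw [c2] at h2
  rw [c3] at h3
  rw [c4, K_top, Subgroup.card_top, card_all.1] at h4
  norm_num at h1 h2 h3 h4 ⊢
  omega

theorem card_S_ge : 2 ^ 13 ≤ Nat.card S := by
  have hle : ∀ g ∈ K 0, p1 g ∈ S := by
    have : K 0 ≤ S.comap p1 := by
      rw [K, Subgroup.closure_le]
      rintro _ ⟨a, ha, rfl⟩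
      show p1 (x a) ∈ S
      have key : ∀ a ∈ parGens.getD 0 [], a = 17 ∨ ∃ i : Fin 13, pcs.getD i.val 22 = a := by
        decide +kernel
      rcases key a ha with rfl | ⟨i, rfl⟩
      · rw [p1_17]; exact one_mem _
      · exact gen_mem_tailSubgroup genU (i := 1) (a := i.val + 1) (by omega) (by omega)
    exact fun g hg => this hg
  let f : K 0 → S := fun g => ⟨p1 g, hle g g.2⟩
  let c : (K 0) → S × Bool := fun g =>
    (f g, decide (((Function.invFun f (f g) : K 0) : E) = (g : E)))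
  have hc : Function.Injective c := by
    intro a b h
    simp only [c, Prod.mk.injEq] at h
    obtain ⟨h1, h2⟩ := h
    rw [h1] at h2
    have h' := decide_eq_decide.1 h2
    set v := ((Function.invFun f (f b) : K 0) : E)
    have hb : p1 v = p1 (b : E) := congrArg Subtype.val (Function.invFun_eq (f := f) ⟨b, rfl⟩)
    have ha : p1 v = p1 (a : E) := hb.trans (congrArg Subtype.val h1).symm
    have hka : v⁻¹ * (a : E) ∈ p1.ker := by rw [MonoidHom.mem_ker, map_mul, map_inv, ha, inv_mul_cancel]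
    have hkb : v⁻¹ * (b : E) ∈ p1.ker := by rw [MonoidHom.mem_ker, map_mul, map_inv, hb, inv_mul_cancel]
    rcases mem_ker_p1.1 hka with ea | ea <;> rcases mem_ker_p1.1 hkb with eb | eb
    · exact Subtype.ext (mul_left_cancel (ea.trans eb.symm))
    · exact Subtype.ext ((inv_mul_eq_one.1 ea).symm.trans (h'.1 (inv_mul_eq_one.1 ea)))
    · exact Subtype.ext ((h'.2 (inv_mul_eq_one.1 eb)).symm.trans (inv_mul_eq_one.1 eb))
    · exact Subtype.ext (mul_left_cancel (ea.trans eb.symm))
  haveI : Finite (K 0) := inferInstance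
  have := Nat.card_le_card_of_injective c hc
  rw [Nat.card_prod, show Nat.card Bool = 2 by simp] at this
  have := card_K_zero_ge
  omega

theorem card_le_length {H : Subgroup U} {L : List ℕ} (h : ∀ u ∈ H, cd u ∈ L) :
    Nat.card H ≤ L.length := by
  refine le_trans ?_ (List.toFinset_card_le L)
  rw [← Nat.card_eq_finsetCard]
  let f : H → (L.toFinset : Finset ℕ) := fun u => ⟨cd u.1, List.mem_toFinset.2 (h u.1 u.2)⟩
  have hf : Function.Injective f := fun a b e => Subtype.ext (cd_inj (congrArg Subtype.val e))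
  exact Nat.card_le_card_of_injective f hf

theorem card_le_pow {H : Subgroup U} {k : ℕ} (h : ∀ u ∈ H, cd u ∈ listP k) :
    Nat.card H ≤ 2 ^ k := by
  have := card_le_length h
  rwa [length_listP k] at this

theorem card_P : Nat.card P = 2 ^ 14 := by
  apply le_antisymm
  · exact card_le_pow (k := 14) fun u hu => cd_mem_list14 hu
  · let f : Bool × S → P := fun q => ⟨(bif q.1 then rU else 1) * q.2.1,
      mul_mem (by cases q.1 <;> [exact one_mem _; exact rU_mem_P]) (S_le_P q.2.2)⟩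
    have hf : Function.Injective f := by
      rintro ⟨b, l⟩ ⟨b', l'⟩ h
      have h' : (bif b then rU else 1) * (l : U) = (bif b' then rU else 1) * l' :=
        congrArg Subtype.val h
      cases b <;> cases b' <;>
        simp only [cond_false, cond_true, one_mul, mul_right_inj] at h'
      · rw [Subtype.ext h']
      · exact absurd (by rw [eq_mul_inv_of_mul_eq h'.symm]; exact mul_mem (S_le_L0 l.2) (inv_mem (S_le_L0 l'.2))) rU_not_mem
      · exact absurd (by rw [eq_mul_inv_of_mul_eq h']; exact mul_mem (S_le_L0 l'.2) (inv_mem (S_le_L0 l.2))) rU_not_mem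
      · rw [Subtype.ext h']
    have := Nat.card_le_card_of_injective f hf
    rw [Nat.card_prod, show Nat.card Bool = 2 by simp] at this
    have := card_S_ge
    omega

theorem P_two : IsPGroup 2 P := IsPGroup.of_card card_P

theorem card_Xg_eq : Nat.card Xg = 2 * 348364800 := by
  refine le_antisymm ?_ card_Xg
  let f : Bool × L0 → Xg := fun a =>
    ⟨(bif a.1 then rU else 1) * a.2.1, mul_mem
      (by cases a.1 <;> [exact one_mem _; exact Subgroup.mem_sup_right (Subgroup.mem_zpowers _)])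
      (Subgroup.mem_sup_left a.2.2)⟩
  have hf : Function.Surjective f := by
    rintro ⟨y, hy⟩
    rcases mem_Xg.1 hy with h | h
    · exact ⟨(false, ⟨y, h⟩), Subtype.ext (one_mul y)⟩
    · exact ⟨(true, ⟨_, h⟩), Subtype.ext (by
        show rU * (rU * y) = y
        rw [← mul_assoc, rU_sq, one_mul])⟩
  have := Nat.card_le_card_of_surjective f hf
  rwa [Nat.card_prod, show Nat.card Bool = 2 by simp, card_L0] at this

/-- Two-subgroups of the extension are conjugate into the Sylow subgroup by the double cover. -/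
theorem exists_conj_P {Q : Subgroup U} (hQ : Q ≤ Xg) (h2 : IsPGroup 2 Q) :
    ∃ l ∈ L0, ∀ q ∈ Q, l * q * l⁻¹ ∈ P := by
  haveI : Fact (Nat.Prime 2) := ⟨Nat.prime_two⟩
  have hc : Nat.card (P.subgroupOf Xg) = 2 ^ 14 :=
    (Nat.card_congr (Subgroup.subgroupOfEquivOfLe P_le_Xg).toEquiv).trans card_P
  have hi : ¬ 2 ∣ (P.subgroupOf Xg).index := by
    have h := Subgroup.index_mul_card (P.subgroupOf Xg)
    rw [hc, card_Xg_eq] at h
    omega
  let Ps : Sylow 2 Xg := (IsPGroup.of_card hc).toSylow hi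
  have hQ2 : IsPGroup 2 (Q.subgroupOf Xg) :=
    h2.of_equiv (Subgroup.subgroupOfEquivOfLe hQ).symm
  obtain ⟨R, hR⟩ := hQ2.exists_le_sylow
  obtain ⟨w, hw⟩ := MulAction.exists_smul_eq Xg R Ps
  have key : ∀ q ∈ Q, (w : U) * q * (w : U)⁻¹ ∈ P := by
    intro q hq
    have hm : w * ⟨q, hQ hq⟩ * w⁻¹ ∈ (Ps : Subgroup Xg) := by
      rw [← hw]
      exact Subgroup.smul_mem_pointwise_smul _ (MulAut.conj w) _ (hR hq)
    exact hm
  rcases mem_Xg.1 w.2 with h | h
  · exact ⟨w, h, key⟩
  · refine ⟨rU * w, h, fun q hq => ?_⟩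
    rw [show rU * (w : U) * q * (rU * w)⁻¹ = rU * ((w : U) * q * (w : U)⁻¹) * rU⁻¹ by group]
    exact mul_mem (mul_mem rU_mem_P (key q hq)) (inv_mem rU_mem_P)

theorem L0_mul_iff {a b : U} (ha : a ∈ Xg) (hb : b ∈ Xg) : a * b ∈ L0 ↔ (a ∈ L0 ↔ b ∈ L0) := by
  by_cases h1 : a ∈ L0 <;> by_cases h2 : b ∈ L0
  · simp [h1, h2, mul_mem h1 h2]
  · simp only [h1, h2, iff_false]
    exact ⟨fun h => absurd (by simpa using mul_mem (inv_mem h1) h) h2, fun h => (h trivial).elim⟩
  · simp only [h1, h2, iff_true]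
    exact ⟨fun h => (h1 (by simpa using mul_mem h (inv_mem h2))).elim, fun h => h.elim⟩
  · refine ⟨fun _ => iff_of_false h1 h2, fun _ => ?_⟩
    have e1 := (mem_Xg.1 ha).resolve_left h1
    have e2 := (mem_Xg.1 hb).resolve_left h2
    rw [show a * b = rU * (rU * a) * rU * (rU * b) from ?_]
    · exact mul_mem (rU_conj_mem e1) e2
    · rw [← mul_assoc rU rU, rU_sq, one_mul, mul_assoc a rU, ← mul_assoc rU rU, rU_sq, one_mul]

theorem sq_mem_L0 {a : U} (ha : a ∈ Xg) : a * a ∈ L0 := (L0_mul_iff ha ha).2 Iff.rfl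

theorem conj_mem_L0_iff {a y : U} (hy : y ∈ Xg) (ha : a ∈ Xg) : y * a * y⁻¹ ∈ L0 ↔ a ∈ L0 := by
  refine ⟨fun h => ?_, conj_mem_L0 hy⟩
  simpa [mul_assoc] using conj_mem_L0 (inv_mem hy) h

/-- No element outside the double cover squares to the central involution. -/
theorem sq_ne_zU {η : U} (hη : η ∈ Xg) (hout : η ∉ L0) : η * η ≠ zU := by
  intro e
  have h4 : η ^ 2 ^ 2 = 1 := by
    rw [show (2 : ℕ) ^ 2 = 2 * 2 from rfl, pow_mul, sq η, e, sq, zU_sq]
  obtain ⟨l, hl, hlP⟩ := exists_conj_P (Subgroup.zpowers_le.2 hη)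
    (StdDoubleRu.isPGroup_zpowers h4)
  have hP := hlP η (Subgroup.mem_zpowers _)
  have hout' : l * η * l⁻¹ ∉ L0 := fun h =>
    hout ((conj_mem_L0_iff (Subgroup.mem_sup_left hl) hη).1 h)
  have h := notSquare_true
  simp only [notSquareOK, mulF_eq, List.all_eq_true, Bool.not_eq_true'] at h
  have hs := h _ (cd_mem_outer hP hout')
  rw [← cd_mul, ← cd_zU, show l * η * l⁻¹ * (l * η * l⁻¹) = zU by
    rw [show l * η * l⁻¹ * (l * η * l⁻¹) = l * (η * η) * l⁻¹ by group, e, ← zU_comm,
      mul_inv_cancel_right], Nat.beq_refl] at hs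
  exact Bool.noConfusion hs

end CfsgLib.StdDoubleO8
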